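import Mathlib.Topology.Constructible
import Mathlib.Topology.Sober
import Mathlib.Topology.LocallyClosed
import Mathlib.Topology.NoetherianSpace
import Mathlib.Topology.Spectral.Prespectral

set_option autoImplicit false

/-!
Constructible sets: finite unions of locally closed pieces, dense traces on irreducible sets,
Noetherian induction.
-/

open Topology TopologicalSpace Set

namespace Groth.SpectralTopology

variable {X : Type*} [TopologicalSpace X]

/-- A constructible set is a finite union of sets `U \ V` with `U`, `V` open retrocompact. -/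
theorem exists_pieces {E : Set X} (hE : IsConstructible E) :
    ∃ (n : ℕ) (U V : Fin n → Set X), (∀ i, IsOpen (U i) ∧ IsRetrocompact (U i)) ∧
      (∀ i, IsOpen (V i) ∧ IsRetrocompact (V i)) ∧ E = ⋃ i, U i \ V i := by
  induction E, hE using BooleanSubalgebra.closure_sdiff_sup_induction with
  | isSublattice =>
    exact ⟨fun s hs t ht ↦ ⟨hs.1.union ht.1, hs.2.union ht.2⟩,
      fun s hs t ht ↦ ⟨hs.1.inter ht.1, hs.2.inter_isOpen ht.2 ht.1⟩⟩
  | bot_mem => exact ⟨isOpen_empty, .empty⟩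
  | top_mem => exact ⟨isOpen_univ, .univ⟩
  | sdiff U hU V hV =>
    exact ⟨1, fun _ ↦ U, fun _ ↦ V, fun _ ↦ hU, fun _ ↦ hV, (iUnion_const (U \ V)).symm⟩
  | sup s _ t _ hs ht =>
    obtain ⟨n, U, V, hU, hV, rfl⟩ := hs
    obtain ⟨m, U', V', hU', hV', rfl⟩ := ht
    refine ⟨n + m, Fin.append U U', Fin.append V V', ?_, ?_, ?_⟩
    · intro i; induction i using Fin.addCases <;> simp [hU, hU']
    · intro i; induction i using Fin.addCases <;> simp [hV, hV']
    · ext x
      change (x ∈ (⋃ i, U i \ V i) ∪ ⋃ i, U' i \ V' i) ↔ _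
      simp only [mem_union, mem_iUnion]
      constructor
      · rintro (⟨i, hi⟩ | ⟨i, hi⟩)
        · exact ⟨i.castAdd m, by simpa using hi⟩
        · exact ⟨i.natAdd n, by simpa using hi⟩
      · rintro ⟨i, hi⟩
        induction i using Fin.addCases with
        | left j => exact Or.inl ⟨j, by simpa using hi⟩
        | right j => exact Or.inr ⟨j, by simpa using hi⟩

theorem isLocallyClosed_sdiff {U V : Set X} (hU : IsOpen U) (hV : IsOpen V) :
    IsLocallyClosed (U \ V) :=
  ⟨U, Vᶜ, hU, hV.isClosed_compl, rfl⟩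

theorem exists_isLocallyClosed_pieces {E : Set X} (hE : IsConstructible E) :
    ∃ (n : ℕ) (Z : Fin n → Set X), (∀ i, IsLocallyClosed (Z i)) ∧ E = ⋃ i, Z i := by
  obtain ⟨n, U, V, hU, hV, rfl⟩ := exists_pieces hE
  exact ⟨n, fun i ↦ U i \ V i, fun i ↦ isLocallyClosed_sdiff (hU i).1 (hV i).1, rfl⟩

theorem exists_dense_piece {ι : Type*} [Finite ι] {Z : Set X} (hZ : IsIrreducible Z)
    (L : ι → Set X) (h : Z ⊆ closure ((⋃ i, L i) ∩ Z)) : ∃ i, Z ⊆ closure (L i ∩ Z) := by
  rw [iUnion_inter, closure_iUnion_of_finite] at h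
  classical
  have : Fintype ι := Fintype.ofFinite ι
  obtain ⟨z, hz, hZz⟩ := isIrreducible_iff_sUnion_isClosed.1 hZ
    (Finset.univ.image fun i ↦ closure (L i ∩ Z)) (by simp) (by simpa using h)
  obtain ⟨i, -, rfl⟩ := Finset.mem_image.1 hz
  exact ⟨i, hZz⟩

theorem subset_closure_inter_open {Z : Set X} (hZ : IsIrreducible Z) {U : Set X} (hU : IsOpen U)
    (h : (U ∩ Z).Nonempty) : Z ⊆ closure (U ∩ Z) := by
  rw [inter_comm] at h ⊢
  exact subset_closure_inter_of_isPreirreducible_of_isOpen hZ.2 hU h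

theorem exists_open_of_dense_pieces {ι : Type*} [Finite ι] {Z : Set X} (hZ : IsIrreducible Z)
    (L : ι → Set X) (hL : ∀ i, IsLocallyClosed (L i)) (h : Z ⊆ closure ((⋃ i, L i) ∩ Z)) :
    ∃ U : Set X, IsOpen U ∧ (U ∩ Z).Nonempty ∧ U ∩ Z ⊆ ⋃ i, L i := by
  obtain ⟨i, hi⟩ := exists_dense_piece hZ L h
  obtain ⟨U, C, hU, hC, hUC⟩ := hL i
  have hZC : Z ⊆ C :=
    hi.trans (closure_minimal (fun x hx ↦ (hUC ▸ hx.1 : x ∈ U ∩ C).2) hC)
  refine ⟨U, hU, ?_, fun x hx ↦ mem_iUnion.2 ⟨i, hUC ▸ ⟨hx.1, hZC hx.2⟩⟩⟩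
  obtain ⟨z, hz⟩ := hZ.nonempty
  obtain ⟨x, hx, hxZ⟩ := closure_nonempty_iff.1 ⟨z, hi hz⟩
  exact ⟨x, (hUC ▸ hx : x ∈ U ∩ C).1, hxZ⟩

theorem exists_open_of_dense {E Z : Set X} (hE : IsConstructible E) (hZ : IsIrreducible Z)
    (h : Z ⊆ closure (E ∩ Z)) :
    ∃ U : Set X, IsOpen U ∧ (U ∩ Z).Nonempty ∧ U ∩ Z ⊆ E := by
  obtain ⟨n, L, hL, rfl⟩ := exists_isLocallyClosed_pieces hE
  exact exists_open_of_dense_pieces hZ L hL h

theorem dense_preimage_iff {E Y : Set X} :
    Dense (Subtype.val ⁻¹' E : Set Y) ↔ Y ⊆ closure (E ∩ Y) := by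
  rw [dense_iff_closure_eq, IsInducing.subtypeVal.closure_eq_preimage_closure_image,
    Set.eq_univ_iff_forall, Subtype.image_preimage_coe, inter_comm]
  exact ⟨fun h y hy ↦ h ⟨y, hy⟩, fun h y ↦ h y.2⟩

theorem dense_or_isNowhereDense_preimage {E Y : Set X} (hY : IsIrreducible Y) :
    IsNowhereDense (Subtype.val ⁻¹' E : Set Y) ∨ Y ⊆ closure (E ∩ Y) := by
  rw [or_iff_not_imp_left, IsNowhereDense, ← ne_eq, ← nonempty_iff_ne_empty]
  rintro ⟨y, hy⟩
  obtain ⟨V, hV, hVo, hyV⟩ := mem_interior.1 hy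
  obtain ⟨W, hW, rfl⟩ := isOpen_induced_iff.1 hVo
  refine (subset_closure_inter_open hY hW ⟨y, hyV, y.2⟩).trans (closure_minimal ?_ isClosed_closure)
  rintro x ⟨hxW, hxY⟩
  have := hV (show (⟨x, hxY⟩ : Y) ∈ Subtype.val ⁻¹' W from hxW)
  rwa [IsInducing.subtypeVal.closure_eq_preimage_closure_image, Subtype.image_preimage_coe,
    inter_comm] at this

section Noetherian

variable [NoetherianSpace X]

/-- Noetherian induction on closed subsets. -/
theorem closed_induction {p : Set X → Prop} (h0 : p ∅)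
    (hirr : ∀ Y, IsClosed Y → IsIrreducible Y → (∀ Z, IsClosed Z → Z ⊂ Y → p Z) → p Y)
    (hunion : ∀ Y Z, IsClosed Y → IsClosed Z → p Y → p Z → p (Y ∪ Z))
    (Y : Set X) (hY : IsClosed Y) : p Y := by
  have key : ∀ C : Closeds X, p C := fun C ↦ by
    refine WellFoundedLT.induction (motive := fun C : Closeds X ↦ p C) C fun C ih ↦ ?_
    ·
      have ih' : ∀ Z, IsClosed Z → Z ⊂ (C : Set X) → p Z := fun Z hZ h ↦ ih ⟨Z, hZ⟩ h
      rcases eq_empty_or_nonempty (C : Set X) with h | h
      · rwa [h]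
      by_cases hC : IsPreirreducible (C : Set X)
      · exact hirr _ C.isClosed ⟨h, hC⟩ ih'
      simp only [isPreirreducible_iff_isClosed_union_isClosed, not_forall, not_or] at hC
      obtain ⟨A, B, hA, hB, hsub, hCA, hCB⟩ := hC
      have := hunion _ _ (C.isClosed.inter hA) (C.isClosed.inter hB)
        (ih' _ (C.isClosed.inter hA)
          ⟨inter_subset_left, fun h ↦ hCA (h.trans inter_subset_right)⟩)
        (ih' _ (C.isClosed.inter hB)
          ⟨inter_subset_left, fun h ↦ hCB (h.trans inter_subset_right)⟩)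
      rwa [← inter_union_distrib_left, inter_eq_self_of_subset_left hsub] at this
  exact key ⟨Y, hY⟩

omit [TopologicalSpace X] [NoetherianSpace X] in
theorem sdiff_ssubset {U Y : Set X} (h : (U ∩ Y).Nonempty) : Y \ U ⊂ Y := by
  obtain ⟨x, hxU, hxY⟩ := h
  exact ⟨sdiff_subset, fun h ↦ (h hxY).2 hxU⟩

theorem isConstructible_of_isOpen {U : Set X} (hU : IsOpen U) : IsConstructible U :=
  IsRetrocompact.isConstructible hU fun _ _ _ ↦ NoetherianSpace.isCompact _

theorem isConstructible_of_isClosed {C : Set X} (hC : IsClosed C) : IsConstructible C :=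
  IsConstructible.of_compl (isConstructible_of_isOpen hC.isOpen_compl)

theorem isConstructible_of_isLocallyClosed {C : Set X} (hC : IsLocallyClosed C) :
    IsConstructible C := by
  obtain ⟨U, Z, hU, hZ, rfl⟩ := hC
  exact (isConstructible_of_isOpen hU).inter (isConstructible_of_isClosed hZ)

theorem isConstructible_of_forall_irreducible {E : Set X}
    (h : ∀ Y : Set X, IsClosed Y → IsIrreducible Y →
      IsNowhereDense (Subtype.val ⁻¹' E : Set Y) ∨
        ∃ U : Set X, IsOpen U ∧ (U ∩ Y).Nonempty ∧ U ∩ Y ⊆ E) : IsConstructible E := by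
  suffices H : ∀ Y, IsClosed Y → IsConstructible (E ∩ Y) by simpa using H univ isClosed_univ
  refine fun Y hY ↦ closed_induction (p := fun Y ↦ IsConstructible (E ∩ Y)) (by simp) ?_ ?_ Y hY
  · intro Y hY hYirr ih
    rcases h Y hY hYirr with hnd | ⟨U, hU, hne, hsub⟩
    · have hss : Y ∩ closure (E ∩ Y) ⊂ Y := by
        refine ⟨inter_subset_left, fun hsub ↦ ?_⟩
        have hd : Dense (Subtype.val ⁻¹' E : Set Y) :=
          dense_preimage_iff.2 (hsub.trans inter_subset_right)
        rw [IsNowhereDense, hd.closure_eq, interior_univ] at hnd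
        obtain ⟨y, hy⟩ := hYirr.nonempty
        exact (Set.eq_empty_iff_forall_notMem.1 hnd ⟨y, hy⟩) trivial
      have := ih _ (hY.inter isClosed_closure) hss
      have heq : E ∩ (Y ∩ closure (E ∩ Y)) = E ∩ Y := by
        rw [← inter_assoc, inter_eq_left]; exact subset_closure
      rwa [heq] at this
    · have heq : E ∩ Y = (U ∩ Y) ∪ E ∩ (Y \ U) := by
        ext x
        have : x ∈ U → x ∈ Y → x ∈ E := fun h1 h2 ↦ hsub ⟨h1, h2⟩
        simp only [mem_inter_iff, mem_union, mem_sdiff]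
        tauto
      rw [heq]
      exact ((isConstructible_of_isOpen hU).inter (isConstructible_of_isClosed hY)).union
        (ih _ (hY.sdiff hU) (sdiff_ssubset hne))
  · intro Y Z _ _ h₁ h₂
    simpa [inter_union_distrib_left] using h₁.union h₂

theorem isOpen_of_forall_irreducible {E : Set X}
    (h : ∀ Y : Set X, IsClosed Y → IsIrreducible Y → (E ∩ Y).Nonempty →
      ∃ U : Set X, IsOpen U ∧ (U ∩ Y).Nonempty ∧ U ∩ Y ⊆ E) : IsOpen E := by
  rw [← isClosed_compl_iff]
  suffices H : ∀ Y, IsClosed Y → IsClosed (Eᶜ ∩ Y) by simpa using H univ isClosed_univ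
  refine fun Y hY ↦ closed_induction (p := fun Y ↦ IsClosed (Eᶜ ∩ Y)) (by simp) ?_ ?_ Y hY
  · intro Y hY hYirr ih
    rcases eq_empty_or_nonempty (E ∩ Y) with he | hne
    · have hsub : Y ⊆ Eᶜ := fun x hx hxE ↦ Set.eq_empty_iff_forall_notMem.1 he x ⟨hxE, hx⟩
      rwa [inter_eq_right.2 hsub]
    · obtain ⟨U, hU, hne, hsub⟩ := h Y hY hYirr hne
      have heq : Eᶜ ∩ Y = Eᶜ ∩ (Y \ U) := by
        ext x
        have : x ∈ U → x ∈ Y → x ∈ E := fun h1 h2 ↦ hsub ⟨h1, h2⟩
        simp only [mem_inter_iff, mem_compl_iff, mem_sdiff]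
        tauto
      rw [heq]
      exact ih _ (hY.sdiff hU) (sdiff_ssubset hne)
  · intro Y Z _ _ h₁ h₂
    simpa [inter_union_distrib_left] using h₁.union h₂

variable [QuasiSober X]

theorem isOpen_of_isConstructible_of_stableUnderGeneralization {E : Set X}
    (hE : IsConstructible E) (hg : StableUnderGeneralization E) : IsOpen E := by
  refine isOpen_of_forall_irreducible fun Y hY hYirr ⟨y, hyE, hyY⟩ ↦ ?_
  have hη := hYirr.isGenericPoint_genericPoint hY
  refine exists_open_of_dense hE hYirr ?_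
  have hmem : hYirr.genericPoint ∈ E := hg (hη.specializes hyY) hyE
  exact hη.def.ge.trans (closure_mono (singleton_subset_iff.2 ⟨hmem, hη.mem⟩))

end Noetherian

/-- Traces of constructible sets on retrocompact subsets are constructible. -/
theorem isConstructible_preimage_val [PrespectralSpace X] {T : Set X} (hT : IsRetrocompact T)
    {E : Set X} (hE : IsConstructible E) :
    IsConstructible ((Subtype.val : T → X) ⁻¹' E) := by
  refine hE.preimage continuous_subtype_val fun U hUo hU V hVc hVo ↦ ?_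
  obtain ⟨W, hW, rfl⟩ := isOpen_induced_iff.1 hVo
  have hTW : IsCompact (T ∩ W) := by
    have := hVc.image continuous_subtype_val
    rwa [Subtype.image_preimage_coe] at this
  obtain ⟨K, hKc, hKo, h1, h2⟩ :=
    PrespectralSpace.exists_isCompact_and_isOpen_between hTW hW inter_subset_right
  have heq : ((Subtype.val : T → X) ⁻¹' U) ∩ Subtype.val ⁻¹' W = Subtype.val ⁻¹' (U ∩ K) := by
    ext t
    exact ⟨fun h ↦ ⟨h.1, h1 ⟨t.2, h.2⟩⟩, fun h ↦ ⟨h.1, h2 h.2⟩⟩
  rw [heq, Subtype.isCompact_iff, Subtype.image_preimage_coe]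
  exact hT (hU hKc hKo) (hUo.inter hKo)

theorem isRetrocompact_of_isConstructible {s : Set X} (hs : IsConstructible s) :
    IsRetrocompact s := by
  obtain ⟨n, U, V, hU, hV, rfl⟩ := exists_pieces hs
  refine IsRetrocompact.iUnion fun i K hKc hKo ↦ ?_
  rw [sdiff_inter_right_comm]
  exact IsCompact.diff ((hU i).2 hKc hKo) (hV i).1

/-- Transitivity of constructibility. -/
theorem isConstructible_image_val [PrespectralSpace X] {E : Set X} (hE : IsConstructible E)
    {F : Set E} (hF : IsConstructible F) :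
    IsConstructible ((Subtype.val : E → X) '' F) := by
  obtain ⟨n, U, V, hU, hV, rfl⟩ := exists_pieces hE
  -- the prespectral property of `E`
  have hbasis : PrespectralSpace ↥(⋃ i, U i \ V i) := by
    have hEr := isRetrocompact_of_isConstructible hE
    refine PrespectralSpace.of_isTopologicalBasis
      ((PrespectralSpace.isTopologicalBasis (X := X)).isInducing IsInducing.subtypeVal) ?_
    rintro _ ⟨K, ⟨hKo, hKc⟩, rfl⟩
    rw [Subtype.isCompact_iff, Subtype.image_preimage_coe]
    exact hEr hKc hKo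
  have key : ∀ i, IsConstructible (Subtype.val '' F ∩ (U i \ V i)) := fun i ↦ by
    set T : Set (⋃ i, U i \ V i : Set X) := Subtype.val ⁻¹' (U i \ V i) with hT
    have hPE : U i \ V i ⊆ ⋃ i, U i \ V i := subset_iUnion (fun i ↦ U i \ V i) i
    have hPX : IsConstructible (U i \ V i) :=
      (((hU i).2.isConstructible (hU i).1)).sdiff ((hV i).2.isConstructible (hV i).1)
    have hTc : IsConstructible T :=
      isConstructible_preimage_val (isRetrocompact_of_isConstructible hE) hPX
    have h2 : IsConstructible ((Subtype.val : T → _) ⁻¹' F) :=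
      isConstructible_preimage_val (isRetrocompact_of_isConstructible hTc) hF
    let e₁ : T → ↥(U i) := fun t ↦ ⟨t.1.1, t.2.1⟩
    have hrange : range e₁ = Subtype.val ⁻¹' (V i)ᶜ := by
      ext x
      refine ⟨?_, fun hx ↦ ⟨⟨⟨x.1, hPE ⟨x.2, hx⟩⟩, ⟨x.2, hx⟩⟩, rfl⟩⟩
      rintro ⟨t, rfl⟩
      exact t.2.2
    have he : IsClosedEmbedding e₁ := by
      refine ⟨IsEmbedding.of_comp (g := (Subtype.val : ↥(U i) → X)) (by fun_prop)
        continuous_subtype_val ((IsEmbedding.subtypeVal.comp IsEmbedding.subtypeVal :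
          IsEmbedding fun t : T ↦ t.1.1)), ?_⟩
      rw [hrange]
      exact (hV i).1.isClosed_compl.preimage continuous_subtype_val
    have hrc : IsRetrocompact (range e₁)ᶜ := by
      rw [hrange, ← preimage_compl, compl_compl]
      exact (hV i).2.preimage_of_isOpenEmbedding (hU i).1.isOpenEmbedding_subtypeVal
    have h3 := h2.image_of_isClosedEmbedding he hrc
    have h4 := h3.image_of_isOpenEmbedding (hU i).1.isOpenEmbedding_subtypeVal
      (by simpa using (hU i).2)
    have heq : Subtype.val '' (e₁ '' ((Subtype.val : T → _) ⁻¹' F)) =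
        Subtype.val '' F ∩ (U i \ V i) := by
      ext x
      constructor
      · rintro ⟨_, ⟨t, ht, rfl⟩, rfl⟩
        exact ⟨⟨t.1, ht, rfl⟩, t.2⟩
      · rintro ⟨⟨f, hf, rfl⟩, hx⟩
        exact ⟨e₁ ⟨f, hx⟩, ⟨⟨f, hx⟩, hf, rfl⟩, rfl⟩
    rwa [heq] at h4
  have := IsConstructible.iUnion key
  rwa [← inter_iUnion, inter_eq_left.2 (Subtype.coe_image_subset _ _)] at this

end Groth.SpectralTopology
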