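import Mathlib.Topology.KrullDimension
import Mathlib.Topology.NoetherianSpace
import Mathlib.Topology.Separation.Basic
import Groth.Prelude.Def_Flat

set_option autoImplicit false

/-!
Combinatorial dimension of topological spaces: chains of irreducible closed sets inside a closed set,
or meeting an open set; local dimension.
-/

open Topology TopologicalSpace Order Set

namespace Groth.SpectralTopology

variable {X Y : Type*} [TopologicalSpace X] [TopologicalSpace Y]

/-- A chain of irreducible closed subsets contained in the range of an inducing map gives the same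
length of chain in the source. -/
theorem length_le_of_last_subset_range {f : Y → X} (hf : IsInducing f)
    (l : LTSeries (IrreducibleCloseds X)) (h : (l.last : Set X) ⊆ range f) :
    (l.length : WithBot ℕ∞) ≤ topologicalKrullDim Y := by
  have hsub : ∀ i, (l i : Set X) ⊆ range f := fun i ↦
    (show (l i : Set X) ⊆ l.last from l.monotone (Fin.le_last i)).trans h
  have hirr : ∀ i, IsIrreducible (f ⁻¹' (l i : Set X)) := fun i ↦ by
    refine ⟨?_, ?_⟩
    · obtain ⟨x, hx⟩ := (l i).isIrreducible.nonempty
      obtain ⟨y, rfl⟩ := hsub i hx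
      exact ⟨y, hx⟩
    · intro u v hu hv ⟨y₁, hy₁, hyu⟩ ⟨y₂, hy₂, hyv⟩
      obtain ⟨u', hu', rfl⟩ := hf.isOpen_iff.1 hu
      obtain ⟨v', hv', rfl⟩ := hf.isOpen_iff.1 hv
      obtain ⟨z, hz, hzu, hzv⟩ :=
        (l i).isIrreducible.2 u' v' hu' hv' ⟨f y₁, hy₁, hyu⟩ ⟨f y₂, hy₂, hyv⟩
      obtain ⟨y, rfl⟩ := hsub i hz
      exact ⟨y, hz, hzu, hzv⟩
  let l' : LTSeries (IrreducibleCloseds Y) :=
    { length := l.length
      toFun := fun i ↦ ⟨f ⁻¹' (l i : Set X), hirr i, (l i).isClosed.preimage hf.continuous⟩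
      step := fun i ↦ by
        have hlt : (l i.castSucc : Set X) ⊂ l i.succ := l.step i
        show f ⁻¹' (l i.castSucc : Set X) ⊂ f ⁻¹' (l i.succ : Set X)
        refine ⟨preimage_mono hlt.1, fun hle ↦ hlt.2 fun x hx ↦ ?_⟩
        obtain ⟨y, rfl⟩ := hsub i.succ hx
        exact hle hx }
  exact LTSeries.length_le_krullDim l'

/-- A chain of irreducible closed subsets all meeting an open subset gives the same length of chain
in this open subset. -/
theorem length_le_of_head_inter_range {f : Y → X} (hf : IsOpenEmbedding f)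
    (l : LTSeries (IrreducibleCloseds X)) (h : ((l.head : Set X) ∩ range f).Nonempty) :
    (l.length : WithBot ℕ∞) ≤ topologicalKrullDim Y := by
  have hne : ∀ i, ((l i : Set X) ∩ range f).Nonempty := fun i ↦
    h.mono (inter_subset_inter_left _ (show (l.head : Set X) ⊆ l i from l.monotone (Fin.zero_le i)))
  have hirr : ∀ i, IsIrreducible (f ⁻¹' (l i : Set X)) := fun i ↦ by
    refine ⟨?_, (l i).isIrreducible.2.preimage hf⟩
    obtain ⟨x, hx, y, rfl⟩ := hne i
    exact ⟨y, hx⟩
  let l' : LTSeries (IrreducibleCloseds Y) :=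
    { length := l.length
      toFun := fun i ↦ ⟨f ⁻¹' (l i : Set X), hirr i, (l i).isClosed.preimage hf.continuous⟩
      step := fun i ↦ by
        have hlt : (l i.castSucc : Set X) ⊂ l i.succ := l.step i
        show f ⁻¹' (l i.castSucc : Set X) ⊂ f ⁻¹' (l i.succ : Set X)
        refine ⟨preimage_mono hlt.1, fun hle ↦ hlt.2 ?_⟩
        have h1 : (l i.succ : Set X) ⊆ closure ((l i.succ : Set X) ∩ range f) :=
          subset_closure_inter_of_isPreirreducible_of_isOpen (l i.succ).isIrreducible.2
            hf.isOpen_range (hne i.succ)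
        refine h1.trans (closure_minimal ?_ (l i.castSucc).isClosed)
        rintro x ⟨hx, y, rfl⟩
        exact hle hx }
  exact LTSeries.length_le_krullDim l'

theorem topologicalKrullDim_le_iff {d : WithBot ℕ∞} :
    topologicalKrullDim X ≤ d ↔ ∀ l : LTSeries (IrreducibleCloseds X), (l.length : WithBot ℕ∞) ≤ d :=
  iSup_le_iff

theorem topologicalKrullDim_nonneg [Nonempty X] : 0 ≤ topologicalKrullDim X := by
  obtain ⟨x⟩ := ‹Nonempty X›
  have : Nonempty (IrreducibleCloseds X) :=
    ⟨⟨closure {x}, isIrreducible_singleton.closure, isClosed_closure⟩⟩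
  exact krullDim_nonneg

theorem isPreirreducible_subset_iUnion_closed {ι : Type*} [Finite ι] {Z : Set X}
    (hZ : IsIrreducible Z) {C : ι → Set X} (hC : ∀ i, IsClosed (C i)) (h : Z ⊆ ⋃ i, C i) :
    ∃ i, Z ⊆ C i := by
  classical
  have : Fintype ι := Fintype.ofFinite ι
  obtain ⟨z, hz, hZz⟩ := isIrreducible_iff_sUnion_isClosed.1 hZ (Finset.univ.image C)
    (by simpa using hC) (by simpa using h)
  obtain ⟨i, -, rfl⟩ := Finset.mem_image.1 hz
  exact ⟨i, hZz⟩

/-- Criterion: dimension is the supremum over a family of closed subsets. -/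
theorem topologicalKrullDim_eq_iSup_of_closed {ι : Type*} (Y : ι → Set X)
    (h : ∀ Z : IrreducibleCloseds X, ∃ i, (Z : Set X) ⊆ Y i) :
    topologicalKrullDim X = ⨆ i, topologicalKrullDim (Y i) := by
  refine le_antisymm (topologicalKrullDim_le_iff.2 fun l ↦ ?_)
    (iSup_le fun i ↦ topologicalKrullDim_subspace_le X (Y i))
  obtain ⟨i, hi⟩ := h l.last
  exact (length_le_of_last_subset_range IsInducing.subtypeVal l (by simpa using hi)).trans
    (le_iSup (fun j ↦ topologicalKrullDim (Y j)) i)

theorem length_le_localDim (l : LTSeries (IrreducibleCloseds X)) {x : X}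
    (hx : x ∈ (l.head : Set X)) : (l.length : WithBot ℕ∞) ≤ FlatMor.localDim X x := by
  refine le_iInf fun U ↦ ?_
  exact length_le_of_head_inter_range U.1.isOpen.isOpenEmbedding_subtypeVal l
    ⟨x, hx, ⟨x, U.2⟩, rfl⟩

theorem localDim_le_of_mem {U : Opens X} {x : X} (hx : x ∈ U) :
    FlatMor.localDim X x ≤ topologicalKrullDim (U : Set X) :=
  iInf_le (fun U : {U : Opens X // x ∈ U} ↦ topologicalKrullDim (U.1 : Set X)) ⟨U, hx⟩

theorem localDim_le_dim (x : X) : FlatMor.localDim X x ≤ topologicalKrullDim X :=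
  (localDim_le_of_mem (U := ⊤) (x := x) trivial).trans (topologicalKrullDim_subspace_le X _)

theorem exists_localDim_eq (x : X) : ∃ U : Opens X, x ∈ U ∧
    topologicalKrullDim (U : Set X) = FlatMor.localDim X x := by
  have : Nonempty {U : Opens X // x ∈ U} := ⟨⟨⊤, trivial⟩⟩
  obtain ⟨U, hU⟩ := ciInf_mem (fun U : {U : Opens X // x ∈ U} ↦ topologicalKrullDim (U.1 : Set X))
  exact ⟨U.1, U.2, hU⟩

theorem localDim_nonneg (x : X) : 0 ≤ FlatMor.localDim X x :=
  le_iInf fun U ↦ by
    have : Nonempty (U.1 : Set X) := ⟨⟨x, U.2⟩⟩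
    exact topologicalKrullDim_nonneg

theorem dim_le_of_subset {A B : Set X} (h : A ⊆ B) : topologicalKrullDim A ≤ topologicalKrullDim B :=
  (IsEmbedding.inclusion h).isInducing.topologicalKrullDim_le

theorem finite_discrete_of_dim_nonpos [NoetherianSpace X] [T0Space X]
    (h : topologicalKrullDim X ≤ 0) : Finite X ∧ DiscreteTopology X := by
  have hpt : ∀ x : X, ∀ Z : IrreducibleCloseds X, x ∈ (Z : Set X) → (Z : Set X) = {x} := by
    intro x Z hx
    have hmin := krullDim_nonpos_iff_forall_isMin.1 h Z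
    have hcl : ∀ y ∈ (Z : Set X), (Z : Set X) ⊆ closure {y} := fun y hy ↦
      hmin (b := ⟨closure {y}, isIrreducible_singleton.closure, isClosed_closure⟩)
        (closure_minimal (singleton_subset_iff.2 hy) Z.isClosed)
    refine Subset.antisymm (fun y hy ↦ ?_) (singleton_subset_iff.2 hx)
    exact ((specializes_iff_mem_closure.2 (hcl x hx hy)).antisymm
      (specializes_iff_mem_closure.2 (hcl y hy hx))).eq.symm
  have hclosed : ∀ x : X, IsClosed ({x} : Set X) := fun x ↦ by
    rw [← hpt x ⟨closure {x}, isIrreducible_singleton.closure, isClosed_closure⟩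
      (subset_closure rfl)]
    exact isClosed_closure
  have : T1Space X := ⟨hclosed⟩
  have hfin : (univ : Set X).Finite := by
    rw [← sUnion_irreducibleComponents (X := X)]
    refine NoetherianSpace.finite_irreducibleComponents.sUnion fun Z hZ ↦ ?_
    obtain ⟨x, hx⟩ := hZ.1.nonempty
    have := hpt x ⟨Z, hZ.1, isClosed_of_mem_irreducibleComponents Z hZ⟩ hx
    exact (finite_singleton x).subset this.le
  have : Finite X := finite_univ_iff.1 hfin
  exact ⟨this, inferInstance⟩

end Groth.SpectralTopology
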