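import Groth.Agent.S4599
import Groth.Agent.EGA41Two.ConsTop

set_option autoImplicit false

/-! Finite presentation cancels against finite type. -/

open AlgebraicGeometry CategoryTheory CategoryTheory.Limits

namespace Groth.SpectralTopology

universe u

theorem lfp_of_comp {A B C : Scheme.{u}} (f : A ⟶ B) (g : B ⟶ C)
    [LocallyOfFinitePresentation (f ≫ g)] [LocallyOfFiniteType g] :
    LocallyOfFinitePresentation f := by
  have : MorphismProperty.ContainsIdentities @LocallyOfFinitePresentation.{u} :=
    ⟨fun _ => inferInstance⟩
  have : MorphismProperty.IsMultiplicative @LocallyOfFinitePresentation.{u} := {}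
  have : MorphismProperty.HasOfPostcompProperty @LocallyOfFinitePresentation.{u}
      @LocallyOfFiniteType.{u} := MorphismProperty.hasOfPostcompProperty_iff_le_diagonal.2
    fun _ _ φ (_ : LocallyOfFiniteType φ) => Groth.Agent.S4599.result φ
  exact MorphismProperty.of_postcomp (W := @LocallyOfFinitePresentation.{u})
    (W' := @LocallyOfFiniteType.{u}) f g inferInstance inferInstance

/-- Finite presentation of the first factor. -/
theorem fp_left {A B C : Scheme.{u}} (f : A ⟶ B) (g : B ⟶ C)
    [LocallyOfFinitePresentation (f ≫ g)] [QuasiCompact (f ≫ g)] [QuasiSeparated (f ≫ g)]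
    [LocallyOfFiniteType g] [QuasiSeparated g] :
    LocallyOfFinitePresentation f ∧ QuasiCompact f ∧ QuasiSeparated f :=
  ⟨lfp_of_comp f g, MorphismProperty.of_postcomp (W := @QuasiCompact) (W' := @QuasiSeparated) f g
    inferInstance inferInstance, QuasiSeparated.of_comp f g⟩

end Groth.SpectralTopology
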