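import Groth.Agent.SpectralTopology.GlueModel

set_option autoImplicit false
set_option backward.isDefEq.respectTransparency false

/-!
EGA IV 8.8.2 (ii): a scheme of finite presentation over the limit of a system of quasi-compact
quasi-separated schemes with affine transition maps comes from a stage.
-/

open AlgebraicGeometry CategoryTheory CategoryTheory.Limits TopologicalSpace

namespace Groth.SpectralTopology

universe u

variable {I : Type u} [Category.{u} I] [IsCofiltered I] {D : I ⥤ Scheme.{u}}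
  [∀ (i j : I) (f : i ⟶ j), IsAffineHom (D.map f)] {c : Cone D}

namespace StageModel

variable {X : Scheme.{u}} {f : X ⟶ c.pt} {i j : I}

/-- Transport of a model along an isomorphism of sources. -/
noncomputable abbrev ofIso (M : StageModel f i) {X' : Scheme.{u}} (f' : X' ⟶ c.pt) (e : X' ≅ X)
    (h : e.hom ≫ f = f') : StageModel f' i where
  obj := M.obj
  hom := M.hom
  map := e.hom ≫ M.map
  sq := M.sq.of_iso e.symm (Iso.refl _) (Iso.refl _) (Iso.refl _) (by simp)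
    (by simp [← h]) (by simp) (by simp)

/-- The base change of an open immersion into a model. -/
noncomputable def pullMap (M : StageModel f i) {T : Scheme.{u}} (w : T ⟶ M.obj) (φ : j ⟶ i) :
    pullback (D.map φ) (w ≫ M.hom) ⟶ (M.pull φ).obj :=
  pullback.lift (pullback.fst _ _) (pullback.snd _ _ ≫ w) (by rw [Category.assoc, pullback.condition])

omit [IsCofiltered I] in
theorem isPullback_pullMap (M : StageModel f i) {T : Scheme.{u}} (w : T ⟶ M.obj) (φ : j ⟶ i) :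
    IsPullback (pullback.snd (D.map φ) (w ≫ M.hom)) (M.pullMap w φ) w (M.proj φ) :=
  IsPullback.of_bot (by rw [pullMap, pullback.lift_fst]; exact (IsPullback.of_hasPullback _ _).flip)
    (pullback.lift_snd _ _ _).symm (IsPullback.of_hasPullback _ _).flip

omit [IsCofiltered I] in
theorem pullMap_proj (M : StageModel f i) {T : Scheme.{u}} (w : T ⟶ M.obj) (φ : j ⟶ i) :
    M.pullMap w φ ≫ M.proj φ = pullback.snd _ _ ≫ w :=
  pullback.lift_snd _ _ _

omit [IsCofiltered I] in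
theorem mem_range_pullMap (M : StageModel f i) {T : Scheme.{u}} (w : T ⟶ M.obj) (φ : j ⟶ i)
    (z : (M.pull φ).obj) : z ∈ Set.range (M.pullMap w φ) ↔ M.proj φ z ∈ Set.range w := by
  refine ⟨?_, ?_⟩
  · rintro ⟨t, rfl⟩
    exact ⟨(pullback.snd (D.map φ) (w ≫ M.hom)).base t, by
      rw [← Scheme.Hom.comp_apply, ← Scheme.Hom.comp_apply, (M.isPullback_pullMap w φ).w]⟩
  · rintro ⟨y, hy⟩
    obtain ⟨t, -, ht⟩ := Scheme.exists_preimage_of_isPullback (M.isPullback_pullMap w φ) y z hy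
    exact ⟨t, ht⟩

end StageModel

variable [∀ i, CompactSpace (D.obj i)] [∀ i, QuasiSeparatedSpace (D.obj i)]

section Union

variable {X : Scheme.{u}} {f : X ⟶ c.pt} (hc : IsLimit c)

include hc in
/-- Two quasi-compact opens with models have models for their union. -/
theorem exists_stageModel_of_sup_eq_top [QuasiSeparatedSpace X] {U V : X.Opens} (hUV : U ⊔ V = ⊤)
    (hU : IsCompact (U : Set X)) (hV : IsCompact (V : Set X)) {i₁ i₂ : I}
    (M₁ : StageModel (U.ι ≫ f) i₁) (N₁ : StageModel (V.ι ≫ f) i₂) :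
    ∃ i, Nonempty (StageModel f i) := by
  have hW : IsCompact ((U : Set X) ∩ V) :=
    QuasiSeparatedSpace.inter_isCompact _ _ U.2 hU V.2 hV
  let W₁ : U.toScheme.Opens := U.ι ⁻¹ᵁ V
  let W₂ : V.toScheme.Opens := V.ι ⁻¹ᵁ U
  have hW₁ : IsCompact (W₁ : Set U.toScheme) := by
    refine U.ι.isOpenEmbedding.isEmbedding.isCompact_iff.2 ?_
    convert hW using 1
    ext x
    exact ⟨fun ⟨y, hy, hyx⟩ ↦ hyx ▸ ⟨y.2, hy⟩, fun ⟨h₁, h₂⟩ ↦ ⟨⟨x, h₁⟩, h₂, rfl⟩⟩
  have hW₂ : IsCompact (W₂ : Set V.toScheme) := by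
    refine V.ι.isOpenEmbedding.isEmbedding.isCompact_iff.2 ?_
    convert hW using 1
    ext x
    exact ⟨fun ⟨y, hy, hyx⟩ ↦ hyx ▸ ⟨hy, y.2⟩, fun ⟨h₁, h₂⟩ ↦ ⟨⟨x, h₂⟩, h₁, rfl⟩⟩
  let M₂ := M₁.pull (IsCofiltered.minToLeft i₁ i₂)
  let N₂ := N₁.pull (IsCofiltered.minToRight i₁ i₂)
  obtain ⟨j₁, φ₁, A₁, hA₁, hA₁'⟩ := M₂.exists_open hc W₁ hW₁
  let N₃ := N₂.pull φ₁
  obtain ⟨j₂, φ₂, B, hB, hB'⟩ := N₃.exists_open hc W₂ hW₂
  let M₄ := (M₂.pull φ₁).pull φ₂
  let N₄ := N₃.pull φ₂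
  let A : M₄.obj.Opens := (M₂.pull φ₁).proj φ₂ ⁻¹ᵁ A₁
  have hA : IsCompact (A : Set M₄.obj) :=
    QuasiCompact.isCompact_preimage (f := (M₂.pull φ₁).proj φ₂) _ A₁.isOpen hA₁
  have hA' : M₄.map ⁻¹ᵁ A = W₁ :=
    ((M₂.pull φ₁).preimage_proj_opensRange φ₂ A₁).trans hA₁'
  have : QuasiSeparatedSpace M₄.obj := quasiSeparatedSpace_of_quasiSeparated M₄.hom
  have : QuasiSeparatedSpace N₄.obj := quasiSeparatedSpace_of_quasiSeparated N₄.hom
  have : CompactSpace A.toScheme := isCompact_iff_compactSpace.1 hA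
  have : CompactSpace B.toScheme := isCompact_iff_compactSpace.1 hB
  have : QuasiCompact A.ι := quasiCompact_of_compactSpace _
  have : QuasiCompact B.ι := quasiCompact_of_compactSpace _
  have hr : Set.range (W₁.ι ≫ U.ι) ⊆ Set.range V.ι := by
    rintro _ ⟨x, rfl⟩
    exact ⟨⟨_, x.2⟩, rfl⟩
  let sV : W₁.toScheme ⟶ V.toScheme := IsOpenImmersion.lift V.ι (W₁.ι ≫ U.ι) hr
  have hs : sV ≫ V.ι = W₁.ι ≫ U.ι := IsOpenImmersion.lift_fac _ _ _
  have : IsOpenImmersion (sV ≫ V.ι) := by rw [hs]; infer_instance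
  have : IsOpenImmersion sV := IsOpenImmersion.of_comp sV V.ι
  have hsV : sV.opensRange = W₂ := by
    ext y
    refine ⟨?_, fun hy ↦ ?_⟩
    · rintro ⟨x, rfl⟩
      show V.ι (sV x) ∈ U
      rw [← Scheme.Hom.comp_apply, hs, Scheme.Hom.comp_apply]
      exact (W₁.ι x).2
    · refine ⟨⟨⟨V.ι y, hy⟩, y.2⟩, V.ι.isOpenEmbedding.injective ?_⟩
      rw [← Scheme.Hom.comp_apply, hs]
      rfl
  let R₁ := M₄.restrict A.ι W₁.ι (by rw [Scheme.Opens.opensRange_ι, Scheme.Opens.opensRange_ι, hA'])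
  let R₂' := N₄.restrict B.ι sV (by rw [Scheme.Opens.opensRange_ι, hsV]; exact hB')
  let R₂ : StageModel (W₁.ι ≫ U.ι ≫ f) j₂ :=
    R₂'.ofIso _ (Iso.refl _) (by rw [Iso.refl_hom, Category.id_comp, reassoc_of% hs])
  obtain ⟨k, φ, e, he, he'⟩ := StageModel.exists_iso hc R₁ R₂
  let a : (R₁.pull φ).obj ⟶ (M₄.pull φ).obj := M₄.pullMap A.ι φ
  let b₀ : (R₂.pull φ).obj ⟶ (N₄.pull φ).obj := N₄.pullMap B.ι φ
  have : IsOpenImmersion a :=
    MorphismProperty.of_isPullback (M₄.isPullback_pullMap A.ι φ) inferInstance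
  have : IsOpenImmersion b₀ :=
    MorphismProperty.of_isPullback (N₄.isPullback_pullMap B.ι φ) inferInstance
  have hTc : CompactSpace (R₁.pull φ).obj :=
    QuasiCompact.compactSpace_of_compactSpace (R₁.pull φ).hom
  have ha : a ≫ (M₄.pull φ).hom = (R₁.pull φ).hom := pullback.lift_fst _ _ _
  have hb : b₀ ≫ (N₄.pull φ).hom = (R₂.pull φ).hom := pullback.lift_fst _ _ _
  refine ⟨k, exists_glue hUV (M₄.pull φ) (N₄.pull φ) a (e.hom ≫ b₀)
    (by rw [ha, Category.assoc, hb, he]) W₁.ι sV (R₁.pull φ).map hs.symm ?_ ?_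
    (Scheme.Opens.opensRange_ι _) hsV ?_ ?_⟩
  · apply pullback.hom_ext
    · rw [Category.assoc, Category.assoc, ha, pullback.lift_fst, pullback.lift_fst]
      simp
    · rw [Category.assoc, Category.assoc, pullback.lift_snd, StageModel.pullMap_proj,
        pullback.lift_snd_assoc]
      exact (IsOpenImmersion.lift_fac _ _ _).symm
  · refine Eq.trans ?_ ((congrArg (· ≫ b₀) he').symm.trans (Category.assoc _ _ _))
    apply pullback.hom_ext
    · rw [Category.assoc, Category.assoc, hb, pullback.lift_fst, pullback.lift_fst]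
      simp [reassoc_of% hs]
    · rw [Category.assoc, Category.assoc, pullback.lift_snd, StageModel.pullMap_proj,
        pullback.lift_snd_assoc]
      exact ((congrArg (· ≫ B.ι) (Category.id_comp R₂'.map)).trans
        (IsOpenImmersion.lift_fac _ _ _)).symm
  · ext x
    show (M₄.pull φ).map x ∈ Set.range a ↔ x ∈ W₁.ι.opensRange
    rw [StageModel.mem_range_pullMap, Scheme.Opens.range_ι, Scheme.Opens.opensRange_ι, ← hA',
      ← Scheme.Hom.comp_apply, StageModel.map_proj]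
    rfl
  · ext x
    show (N₄.pull φ).map x ∈ Set.range (e.hom ≫ b₀) ↔ x ∈ sV.opensRange
    rw [Scheme.Hom.comp_base, TopCat.coe_comp, Set.range_comp,
      e.hom.surjective.range_eq, Set.image_univ, StageModel.mem_range_pullMap,
      Scheme.Opens.range_ι, hsV, ← hB', ← Scheme.Hom.comp_apply, StageModel.map_proj]
    rfl

end Union

variable (hc : IsLimit c)

include hc in
/-- EGA IV 8.8.2 (ii). -/
theorem exists_stageModel {X : Scheme.{u}} (f : X ⟶ c.pt) [LocallyOfFinitePresentation f]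
    [QuasiCompact f] [QuasiSeparated f] : ∃ i, Nonempty (StageModel f i) := by
  classical
  obtain ⟨i₀⟩ := IsCofiltered.nonempty (C := I)
  have : CompactSpace c.pt := Scheme.compactSpace_of_isLimit D c hc
  have : QuasiSeparatedSpace c.pt := Groth.Limits.quasiSeparatedSpace_pt D c hc (i := i₀)
  have : CompactSpace X := QuasiCompact.compactSpace_of_compactSpace f
  have : QuasiSeparatedSpace X := quasiSeparatedSpace_of_quasiSeparated f
  -- every point has an affine neighbourhood with a model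
  have hloc (x : X) : ∃ U : X.Opens, x ∈ U ∧ IsAffineOpen U ∧
      ∃ i, Nonempty (StageModel (U.ι ≫ f) i) := by
    obtain ⟨_, ⟨i, W, hW, rfl⟩, hxV, -⟩ := Opens.isBasis_iff_nbhd.1
      (isBasis_preimage_isAffineOpen D c hc) (U := ⊤) (x := f x) trivial
    obtain ⟨_, ⟨U, hU, rfl⟩, hxU, hUV⟩ := X.isBasis_affineOpens.exists_subset_of_mem_open
      (show x ∈ (f ⁻¹ᵁ (c.π.app i ⁻¹ᵁ W) : X.Opens) from hxV) (f ⁻¹ᵁ _).isOpen
    exact ⟨U, hxU, hU, exists_stageModel_of_isAffineOpen D c hc f hW hU hUV⟩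
  choose U hxU hU hmodel using hloc
  obtain ⟨s, hs⟩ := isCompact_univ.elim_finite_subcover (fun x : X ↦ (U x : Set X))
    (fun x ↦ (U x).isOpen) fun x _ ↦ Set.mem_iUnion.2 ⟨x, hxU x⟩
  have step : ∀ t : Finset X, t.Nonempty → ∃ i, Nonempty (StageModel ((t.sup U).ι ≫ f) i) := by
    intro t ht
    induction ht using Finset.Nonempty.cons_induction with
    | singleton x => rw [Finset.sup_singleton]; exact hmodel x
    | cons x t hxt ht ih =>
      obtain ⟨i₁, ⟨M⟩⟩ := hmodel x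
      obtain ⟨i₂, ⟨N⟩⟩ := ih
      rw [Finset.sup_cons]
      let T : X.Opens := U x ⊔ t.sup U
      have : QuasiSeparatedSpace T.toScheme :=
        QuasiSeparatedSpace.of_isOpenEmbedding T.ι.isOpenEmbedding
      have hcomp : ∀ t : Finset X, IsCompact ((t.sup U : X.Opens) : Set X) := fun t ↦ by
        rw [Finset.sup_eq_iSup, Opens.coe_iSup]
        simp only [Opens.coe_iSup]
        exact t.finite_toSet.isCompact_biUnion fun y _ ↦ (hU y).isCompact
      have htr (O : X.Opens) (hO : O ≤ T) : ∃ e : (T.ι ⁻¹ᵁ O).toScheme ≅ O.toScheme,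
          e.hom ≫ O.ι = (T.ι ⁻¹ᵁ O).ι ≫ T.ι := by
        refine ⟨IsOpenImmersion.isoOfRangeEq ((T.ι ⁻¹ᵁ O).ι ≫ T.ι) O.ι ?_,
          IsOpenImmersion.isoOfRangeEq_hom_fac _ _ _⟩
        ext y
        simp only [Scheme.Opens.range_ι]
        exact ⟨fun ⟨z, hz⟩ ↦ hz ▸ z.2, fun hy ↦ ⟨⟨⟨y, hO hy⟩, hy⟩, rfl⟩⟩
      obtain ⟨e₁, he₁⟩ := htr (U x) le_sup_left
      obtain ⟨e₂, he₂⟩ := htr (t.sup U) le_sup_right
      have hc₁ : IsCompact ((T.ι ⁻¹ᵁ U x : T.toScheme.Opens) : Set T.toScheme) := by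
        refine T.ι.isOpenEmbedding.isEmbedding.isCompact_iff.2 ?_
        convert (hU x).isCompact using 1
        ext y
        exact ⟨fun ⟨z, hz, hzy⟩ ↦ hzy ▸ hz, fun hy ↦ ⟨⟨y, Or.inl hy⟩, hy, rfl⟩⟩
      have hc₂ : IsCompact ((T.ι ⁻¹ᵁ t.sup U : T.toScheme.Opens) : Set T.toScheme) := by
        refine T.ι.isOpenEmbedding.isEmbedding.isCompact_iff.2 ?_
        convert hcomp t using 1
        ext y
        exact ⟨fun ⟨z, hz, hzy⟩ ↦ hzy ▸ hz, fun hy ↦ ⟨⟨y, Or.inr hy⟩, hy, rfl⟩⟩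
      exact exists_stageModel_of_sup_eq_top (f := T.ι ≫ f) hc
        (U := T.ι ⁻¹ᵁ U x) (V := T.ι ⁻¹ᵁ t.sup U)
        (top_unique fun y _ ↦ (show T.ι y ∈ U x ⊔ t.sup U from y.2)) hc₁ hc₂
        (M.ofIso _ e₁ (by rw [reassoc_of% he₁])) (N.ofIso _ e₂ (by rw [reassoc_of% he₂]))
  rcases isEmpty_or_nonempty X with hX | ⟨⟨x₀⟩⟩
  · have hbot : (⊥ : X.Opens) = ⊤ := by ext x; exact isEmptyElim x
    obtain ⟨i, ⟨M⟩⟩ := exists_stageModel_of_isAffineOpen D c hc f (i := i₀)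
      (isAffineOpen_bot (D.obj i₀)) (isAffineOpen_bot X) bot_le
    exact ⟨i, ⟨M.ofIso f ((Scheme.topIso X).symm ≪≫ X.isoOfEq hbot.symm) (by simp)⟩⟩
  · obtain ⟨i, ⟨M⟩⟩ := step (insert x₀ s) (Finset.insert_nonempty _ _)
    have htop : (insert x₀ s).sup U = ⊤ := by
      ext x
      simp only [Opens.coe_top, Set.mem_univ, iff_true, Finset.sup_eq_iSup, Opens.coe_iSup]
      obtain ⟨y, hy⟩ := Set.mem_iUnion.1 (hs (Set.mem_univ x))
      simp only [Set.mem_iUnion] at hy ⊢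
      exact ⟨y, Finset.mem_insert_of_mem hy.1, hy.2⟩
    exact ⟨i, ⟨M.ofIso f ((Scheme.topIso X).symm ≪≫ X.isoOfEq htop.symm) (by simp)⟩⟩

end Groth.SpectralTopology
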