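import Mathlib.AlgebraicGeometry.Noetherian
import Mathlib.AlgebraicGeometry.Morphisms.Affine
import Mathlib.RingTheory.FiniteType
import Mathlib.CategoryTheory.Limits.Types.Filtered
import Mathlib.Algebra.Category.Ring.FilteredColimits
import Mathlib.Algebra.Category.Ring.Colimits

set_option autoImplicit false

/-!
An affine scheme is the cofiltered limit of the spectra of the finitely generated subrings of its
ring: a system of affine Noetherian schemes with affine transition maps.
-/

open AlgebraicGeometry CategoryTheory CategoryTheory.Limits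

namespace Groth.SpectralTopology

universe u

variable (A : CommRingCat.{u})

/-- Finitely generated subrings of `A`. -/
abbrev FGSub : Type u := {s : Subalgebra ℤ A // s.FG}

instance : Nonempty (FGSub A) := ⟨⟨⊥, Subalgebra.fg_bot⟩⟩

instance : IsDirected (FGSub A) (· ≤ ·) :=
  ⟨fun s t ↦ ⟨⟨s.1 ⊔ t.1, s.2.sup t.2⟩, le_sup_left (a := s.1), le_sup_right (a := s.1)⟩⟩

/-- The system of finitely generated subrings. -/
def fgDiagram : FGSub A ⥤ CommRingCat.{u} where
  obj s := CommRingCat.of s.1
  map {_ _} f := CommRingCat.ofHom (Subalgebra.inclusion (leOfHom f)).toRingHom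
  map_id _ := rfl
  map_comp _ _ := rfl

/-- The cocone with point `A`. -/
def fgCocone : Cocone (fgDiagram A) where
  pt := A
  ι :=
    { app := fun s ↦ CommRingCat.ofHom (S := (A : Type u)) s.1.val.toRingHom
      naturality := fun _ _ _ ↦ rfl }

/-- `A` is the filtered colimit of its finitely generated subrings. -/
noncomputable def isColimitFgCocone : IsColimit (fgCocone A) := by
  have : ReflectsColimit (fgDiagram A) (forget CommRingCat.{u}) :=
    reflectsColimit_of_reflectsIsomorphisms _ _
  refine isColimitOfReflects (forget CommRingCat.{u}) ?_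
  refine Types.FilteredColimit.isColimitOf _ _ (fun (a : (A : Type u)) ↦ ?_) (fun s t x y h ↦ ?_)
  · refine ⟨⟨Algebra.adjoin ℤ {(a : (A : Type u))}, Subalgebra.fg_def.2 ⟨_, Set.finite_singleton _, rfl⟩⟩,
      ⟨a, Algebra.self_mem_adjoin_singleton (A := (A : Type u)) ℤ a⟩, rfl⟩
  · obtain ⟨r, hsr, htr⟩ := exists_ge_ge s t
    exact ⟨r, homOfLE hsr, homOfLE htr, Subtype.ext h⟩

/-- The system of spectra of the finitely generated subrings. -/
noncomputable abbrev fgSchemes : (FGSub A)ᵒᵖ ⥤ Scheme.{u} :=
  (fgDiagram A).op ⋙ Scheme.Spec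

/-- The cone with point `Spec A`. -/
noncomputable abbrev fgCone : Cone (fgSchemes A) :=
  Scheme.Spec.mapCone (fgCocone A).op

/-- `Spec A` is the limit of the spectra of the finitely generated subrings. -/
noncomputable def isLimitFgCone : IsLimit (fgCone A) :=
  isLimitOfPreserves Scheme.Spec (isColimitFgCocone A).op

instance isNoetherian_fgSchemes (s : (FGSub A)ᵒᵖ) :
    AlgebraicGeometry.IsNoetherian ((fgSchemes A).obj s) := by
  have : Algebra.FiniteType ℤ s.unop.1 := s.unop.1.fg_iff_finiteType.1 s.unop.2
  have hN : IsNoetherianRing s.unop.1 := Algebra.FiniteType.isNoetherianRing ℤ _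
  have : IsNoetherianRing ((fgDiagram A).obj s.unop) := hN
  exact inferInstanceAs (AlgebraicGeometry.IsNoetherian (Spec ((fgDiagram A).obj s.unop)))

instance isAffineHom_fgSchemes (s t : (FGSub A)ᵒᵖ) (f : s ⟶ t) :
    IsAffineHom ((fgSchemes A).map f) :=
  inferInstanceAs (IsAffineHom (Spec.map ((fgDiagram A).map f.unop)))

end Groth.SpectralTopology
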