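import Groth.Agent.SpectralTopology.ConsOfDescend
import Groth.Agent.LimitMod.FlatModel
import Groth.Agent.QCohMod.PullbackQCoh

set_option autoImplicit false

/-!
EGA IV 9.2-9.4 for properties of algebraic schemes with a module: loci of (ind-)constructible
properties are (ind-)constructible; passage to the limit.
-/

open AlgebraicGeometry CategoryTheory CategoryTheory.Limits Topology TopologicalSpace

universe u

namespace Groth.SpectralTopology.ConsModLocus

open Groth.SpectralTopology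

variable {X S X' S' : Scheme.{u}}

theorem isCoh_pullback_obj (g : X' ⟶ X) {F : X.Modules} (hF : Coh.IsCoh F) :
    Coh.IsCoh ((Scheme.Modules.pullback g).obj F) :=
  have : F.IsQuasicoherent := hF.1
  ⟨Groth.QCohMod.isQCoh_pullback_obj g F, Groth.QCohMod.isFT_pullback g F hF.2⟩

/-- The locus commutes with base change. -/
theorem locusMod_preimage {P : ∀ ⦃Y T : Scheme.{u}⦄, (Y ⟶ T) → Y.Modules → Prop}
    (hP : ConsProp.IsFieldStableMod P) {u : X ⟶ S} {u' : X' ⟶ S'} {h : S' ⟶ S} {q : X' ⟶ X}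
    [LocallyOfFiniteType u] [QuasiCompact u] (sq : IsPullback q u' u h) {F : X.Modules}
    (hF : Coh.IsCoh F) :
    ConsProp.locusMod P u' ((Scheme.Modules.pullback q).obj F) = h ⁻¹' ConsProp.locusMod P u F := by
  ext s'
  exact (hP (u.fiberToSpecResidueField (h s')) (u'.fiberToSpecResidueField s') (fiberBC sq s') _
    (isPullback_fiberBC sq s') _ _ (isCoh_pullback_obj _ hF)
    ((Scheme.Modules.pullbackComp (u'.fiberι s') q ≪≫
      Scheme.Modules.pullbackCongr (fiberBC_ι sq s').symm ≪≫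
      (Scheme.Modules.pullbackComp (fiberBC sq s') (u.fiberι (h s'))).symm).app F)).symm

/-- Isomorphic modules have the same locus. -/
theorem locusMod_congr {P : ∀ ⦃Y T : Scheme.{u}⦄, (Y ⟶ T) → Y.Modules → Prop}
    (hP : ConsProp.IsFieldStableMod P) (u : X ⟶ S) [LocallyOfFiniteType u] [QuasiCompact u]
    {F G : X.Modules} (hF : Coh.IsCoh F) (e : G ≅ F) :
    ConsProp.locusMod P u G = ConsProp.locusMod P u F := by
  ext s
  exact (hP (u.fiberToSpecResidueField s) (u.fiberToSpecResidueField s) (𝟙 _) (𝟙 _)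
    IsPullback.of_id_snd.flip _ _ (isCoh_pullback_obj _ hF)
    ((Scheme.Modules.pullback (u.fiberι s)).mapIso e ≪≫
      ((Scheme.Modules.pullbackId _).app _).symm)).symm

section Noetherian

variable [AlgebraicGeometry.IsNoetherian S] {P : ∀ ⦃Y T : Scheme.{u}⦄, (Y ⟶ T) → Y.Modules → Prop}

theorem isConstructible_locusMod (hP : ConsProp.IsConsMod P) (u : X ⟶ S)
    [LocallyOfFiniteType u] [QuasiCompact u] {F : X.Modules} (hF : Coh.IsCoh F) :
    IsConstructible (ConsProp.locusMod P u F) := by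
  refine isConstructible_of_forall_integral fun Z i _ _ _ ↦ ?_
  rw [← locusMod_preimage hP.1 (IsPullback.of_hasPullback u i) hF]
  exact hP.2 _ _ (isCoh_pullback_obj _ hF)

theorem exists_constructible_locusMod (hP : ConsProp.IsIndConsMod P) (u : X ⟶ S)
    [LocallyOfFiniteType u] [QuasiCompact u] {F : X.Modules} (hF : Coh.IsCoh F) {s : S}
    (hs : s ∈ ConsProp.locusMod P u F) :
    ∃ C : Set S, IsConstructible C ∧ s ∈ C ∧ C ⊆ ConsProp.locusMod P u F := by
  refine exists_constructible_of_forall_integral (fun Z i _ _ _ hg ↦ ?_) hs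
  rw [← locusMod_preimage hP.1 (IsPullback.of_hasPullback u i) hF]
  refine hP.2 _ _ (isCoh_pullback_obj _ hF) ?_
  rw [locusMod_preimage hP.1 (IsPullback.of_hasPullback u i) hF]
  exact hg

end Noetherian

section General

variable {P : ∀ ⦃Y T : Scheme.{u}⦄, (Y ⟶ T) → Y.Modules → Prop}

/-- Over an affine scheme a finitely presented scheme with a module has a Noetherian model. -/
theorem exists_model (hP : ConsProp.IsFieldStableMod P) {A : CommRingCat.{u}} (u : X ⟶ (fgCone A).pt)
    [LocallyOfFinitePresentation u] [QuasiCompact u] [QuasiSeparated u] (F : X.Modules)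
    [F.IsQuasicoherent] (hF : CohB1.IsFP F) :
    ∃ (S₀ : Scheme.{u}) (_ : AlgebraicGeometry.IsNoetherian S₀) (h : (fgCone A).pt ⟶ S₀)
      (X₀ : Scheme.{u}) (u₀ : X₀ ⟶ S₀) (_ : LocallyOfFiniteType u₀) (_ : QuasiCompact u₀)
      (F₀ : X₀.Modules), Coh.IsCoh F₀ ∧
        ConsProp.locusMod P u F = h ⁻¹' ConsProp.locusMod P u₀ F₀ := by
  have := Groth.LimitMod.isCofiltered_fgSub A
  have : ∀ i, IsAffine ((fgSchemes A).obj i) := fun i => by
    show IsAffine (Spec _); infer_instance
  obtain ⟨i, M, F₀, hq, hfp, ⟨e⟩⟩ := Groth.LimitMod.exists_module_model (isLimitFgCone A) (f := u) F hF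
  have hF₀ : Coh.IsCoh F₀ := ⟨hq, Groth.PropsBasic.LocFree.isFT_of_isFP F₀ hfp⟩
  refine ⟨_, inferInstance, (fgCone A).π.app i, M.obj, M.hom, inferInstance, inferInstance, F₀, hF₀, ?_⟩
  rw [← locusMod_preimage hP M.sq hF₀]
  exact locusMod_congr hP u (isCoh_pullback_obj _ hF₀) e.symm

variable (u : X ⟶ S) [LocallyOfFinitePresentation u] [QuasiCompact u] [QuasiSeparated u]
  (F : X.Modules) [F.IsQuasicoherent] (hF : CohB1.IsFP F)

include hF in
theorem isConstructible_preimage_locusMod (hP : ConsProp.IsConsMod P) {V : S.Opens}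
    (hV : IsAffineOpen V) : IsConstructible (⇑V.ι ⁻¹' ConsProp.locusMod P u F) := by
  rw [preimage_ι_eq hV, ← locusMod_preimage hP.1 (IsPullback.of_hasPullback u (affineToBase hV))
    ⟨‹_›, Groth.PropsBasic.LocFree.isFT_of_isFP F hF⟩]
  obtain ⟨S₀, _, h, X₀, u₀, _, _, F₀, hF₀, he⟩ := exists_model hP.1
    (pullback.snd u (affineToBase hV)) _ (Groth.QCohMod.isFP_pullback (pullback.fst u (affineToBase hV)) F hF)
  rw [he]
  exact (affineIso hV).hom.isConstructible_preimage
    (h.isConstructible_preimage (isConstructible_locusMod hP u₀ hF₀))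

include hF in
theorem exists_constructible_preimage_locusMod (hP : ConsProp.IsIndConsMod P) {V : S.Opens}
    (hV : IsAffineOpen V) {x : V.toScheme} (hx : x ∈ ⇑V.ι ⁻¹' ConsProp.locusMod P u F) :
    ∃ C : Set V.toScheme, IsConstructible C ∧ x ∈ C ∧ C ⊆ ⇑V.ι ⁻¹' ConsProp.locusMod P u F := by
  rw [preimage_ι_eq hV, ← locusMod_preimage hP.1 (IsPullback.of_hasPullback u (affineToBase hV))
    ⟨‹_›, Groth.PropsBasic.LocFree.isFT_of_isFP F hF⟩] at hx ⊢
  obtain ⟨S₀, _, h, X₀, u₀, _, _, F₀, hF₀, he⟩ := exists_model hP.1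
    (pullback.snd u (affineToBase hV)) _ (Groth.QCohMod.isFP_pullback (pullback.fst u (affineToBase hV)) F hF)
  rw [he] at hx ⊢
  obtain ⟨C, hC, hxC, hCE⟩ := exists_constructible_locusMod hP u₀ hF₀ hx
  exact ⟨_, (affineIso hV).hom.isConstructible_preimage (h.isConstructible_preimage hC), hxC,
    Set.preimage_mono (Set.preimage_mono hCE)⟩

include hF in
theorem isLocallyConstructible_locusMod (hP : ConsProp.IsConsMod P) :
    IsLocallyConstructible (ConsProp.locusMod P u F) :=
  isLocallyConstructible_of_affines fun _ hV ↦ isConstructible_preimage_locusMod u F hF hP hV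

include hF in
theorem isIndConstructible_locusMod (hP : ConsProp.IsIndConsMod P) :
    ProCons.IsIndConstructible (ConsProp.locusMod P u F) :=
  isIndConstructible_of_affines fun _ hV _ hx ↦
    exists_constructible_preimage_locusMod u F hF hP hV hx

omit [LocallyOfFinitePresentation u] [QuasiCompact u] [QuasiSeparated u] in
/-- In an irreducible scheme, a set which is constructible on an affine open near the generic point
and contains it is a neighbourhood of it. -/
theorem genericPoint_mem_interior_of_open [IrreducibleSpace S] {E : Set S} {V : S.Opens}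
    (hV : genericPoint S ∈ V) {C : Set V.toScheme} (hC : IsConstructible C)
    (hη : (⟨genericPoint S, hV⟩ : V.toScheme) ∈ C) (hCE : C ⊆ ⇑V.ι ⁻¹' E) :
    genericPoint S ∈ interior E := by
  have hgen : IsGenericPoint (⟨genericPoint S, hV⟩ : V.toScheme) Set.univ := by
    rw [IsGenericPoint, Set.eq_univ_iff_forall]
    intro y
    exact specializes_iff_mem_closure.1
      (V.ι.isOpenEmbedding.isInducing.specializes_iff.1 ((genericPoint_spec S).specializes trivial))
  have : IrreducibleSpace V.toScheme :=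
    @IrreducibleSpace.mk _ _ ⟨hgen.isIrreducible.2⟩ ⟨⟨_, hV⟩⟩
  have h := genericPoint_mem_interior hC (by rwa [(genericPoint_spec V.toScheme).eq hgen])
  rw [(genericPoint_spec V.toScheme).eq hgen] at h
  refine interior_maximal ?_ (V.ι.isOpenEmbedding.isOpenMap _ isOpen_interior) ⟨_, h, rfl⟩
  rintro _ ⟨y, hy, rfl⟩
  exact hCE (interior_subset hy)

end General

section Limit

variable {I : Type u} [Category.{u} I] [IsCofiltered I] (D : I ⥤ Scheme.{u})
  [∀ (i j : I) (f : i ⟶ j), IsAffineHom (D.map f)] (c : Cone D) (hc : IsLimit c)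

include hc in
theorem forall_locusMod_iff_eventually
    {P : ∀ ⦃Y T : Scheme.{u}⦄, (Y ⟶ T) → Y.Modules → Prop} (hP : ConsProp.IsIndConsMod P)
    {i₀ : I} [CompactSpace (D.obj i₀)] {X₀ : Scheme.{u}} (u₀ : X₀ ⟶ D.obj i₀)
    [LocallyOfFinitePresentation u₀] [QuasiCompact u₀] [QuasiSeparated u₀]
    (F₀ : X₀.Modules) [F₀.IsQuasicoherent] (hF₀ : CohB1.IsFP F₀)
    {X : Scheme.{u}} (u : X ⟶ c.pt) (q : X ⟶ X₀) (hX : IsPullback q u u₀ (c.π.app i₀)) :
    (∀ s : c.pt, s ∈ ConsProp.locusMod P u ((Scheme.Modules.pullback q).obj F₀)) ↔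
      ∃ (j : I) (φ : j ⟶ i₀) (Xj : Scheme.{u}) (uj : Xj ⟶ D.obj j) (p : Xj ⟶ X₀),
        IsPullback p uj u₀ (D.map φ) ∧
          ∀ t : D.obj j, t ∈ ConsProp.locusMod P uj ((Scheme.Modules.pullback p).obj F₀) := by
  have hcoh : Coh.IsCoh F₀ := ⟨‹_›, Groth.PropsBasic.LocFree.isFT_of_isFP F₀ hF₀⟩
  refine ⟨fun h ↦ ?_, ?_⟩
  · obtain ⟨j, φ, hj⟩ := exists_preimage_eq_univ_of_isIndConstructible D c hc
      (isIndConstructible_locusMod u₀ F₀ hF₀ hP) fun x ↦
        (locusMod_preimage hP.1 hX hcoh).subset (h x)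
    exact ⟨j, φ, _, pullback.snd u₀ (D.map φ), _, IsPullback.of_hasPullback _ _,
      fun t ↦ (locusMod_preimage hP.1 (IsPullback.of_hasPullback u₀ (D.map φ)) hcoh).symm.subset
        (hj t)⟩
  · rintro ⟨j, φ, Xj, uj, p, sX, hj⟩ s
    rw [locusMod_preimage hP.1 hX hcoh, ← c.w φ, Scheme.Hom.comp_base]
    exact (locusMod_preimage hP.1 sX hcoh).subset (hj (c.π.app j s))

end Limit

end Groth.SpectralTopology.ConsModLocus
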