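import Mathlib.AlgebraicGeometry.Noetherian
import Mathlib.AlgebraicGeometry.Morphisms.Affine
import Mathlib.RingTheory.FiniteType
import Mathlib.AlgebraicGeometry.Morphisms.FiniteType
import Mathlib.CategoryTheory.Limits.Types.Filtered
import Mathlib.Algebra.Category.Ring.FilteredColimits
import Mathlib.Algebra.Category.Ring.Colimits

set_option autoImplicit false

/-!
An affine scheme `Spec K` over `Spec A` is the cofiltered limit of the spectra of the finitely
generated `A`-subalgebras of `K`.
-/

open AlgebraicGeometry CategoryTheory CategoryTheory.Limits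

namespace Groth.SpectralTopology

universe u

variable (R : CommRingCat.{u}) (A : CommRingCat.{u}) [Algebra R A]

/-- Finitely generated subrings of `A`. -/
abbrev AlgSub : Type u := {s : Subalgebra R A // s.FG}

instance : Nonempty (AlgSub R A) := ⟨⟨⊥, Subalgebra.fg_bot⟩⟩

instance : IsDirected (AlgSub R A) (· ≤ ·) :=
  ⟨fun s t ↦ ⟨⟨s.1 ⊔ t.1, s.2.sup t.2⟩, le_sup_left (a := s.1), le_sup_right (a := s.1)⟩⟩

/-- The system of finitely generated subrings. -/
def algDiagram : AlgSub R A ⥤ CommRingCat.{u} where
  obj s := CommRingCat.of s.1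
  map {_ _} f := CommRingCat.ofHom (Subalgebra.inclusion (leOfHom f)).toRingHom
  map_id _ := rfl
  map_comp _ _ := rfl

/-- The cocone with point `A`. -/
def algCocone : Cocone (algDiagram R A) where
  pt := A
  ι :=
    { app := fun s ↦ CommRingCat.ofHom (S := (A : Type u)) s.1.val.toRingHom
      naturality := fun _ _ _ ↦ rfl }

/-- `A` is the filtered colimit of its finitely generated subrings. -/
noncomputable def isColimitAlgCocone : IsColimit (algCocone R A) := by
  have : ReflectsColimit (algDiagram R A) (forget CommRingCat.{u}) :=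
    reflectsColimit_of_reflectsIsomorphisms _ _
  refine isColimitOfReflects (forget CommRingCat.{u}) ?_
  refine Types.FilteredColimit.isColimitOf _ _ (fun (a : (A : Type u)) ↦ ?_) (fun s t x y h ↦ ?_)
  · refine ⟨⟨Algebra.adjoin R {(a : (A : Type u))}, Subalgebra.fg_def.2 ⟨_, Set.finite_singleton _, rfl⟩⟩,
      ⟨a, Algebra.self_mem_adjoin_singleton (A := (A : Type u)) R a⟩, rfl⟩
  · obtain ⟨r, hsr, htr⟩ := exists_ge_ge s t
    exact ⟨r, homOfLE hsr, homOfLE htr, Subtype.ext h⟩

/-- The system of spectra of the finitely generated subrings. -/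
noncomputable abbrev algSchemes : (AlgSub R A)ᵒᵖ ⥤ Scheme.{u} :=
  (algDiagram R A).op ⋙ Scheme.Spec

/-- The cone with point `Spec A`. -/
noncomputable abbrev algCone : Cone (algSchemes R A) :=
  Scheme.Spec.mapCone (algCocone R A).op

/-- `Spec A` is the limit of the spectra of the finitely generated subrings. -/
noncomputable def isLimitAlgCone : IsLimit (algCone R A) :=
  isLimitOfPreserves Scheme.Spec (isColimitAlgCocone R A).op

/-- A stage of the system is a scheme over `Spec R`. -/
noncomputable def algToBase (s : (AlgSub R A)ᵒᵖ) : (algSchemes R A).obj s ⟶ Spec R :=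
  Spec.map (CommRingCat.ofHom (algebraMap R s.unop.1))

theorem algCone_π_toBase (s : (AlgSub R A)ᵒᵖ) :
    (algCone R A).π.app s ≫ algToBase R A s = Spec.map (CommRingCat.ofHom (algebraMap R A)) :=
  (Spec.map_comp _ _).symm

theorem algSchemes_map_toBase {s t : (AlgSub R A)ᵒᵖ} (f : s ⟶ t) :
    (algSchemes R A).map f ≫ algToBase R A t = algToBase R A s :=
  (Spec.map_comp _ _).symm

instance locallyOfFiniteType_algToBase (s : (AlgSub R A)ᵒᵖ) :
    LocallyOfFiniteType (algToBase R A s) := by
  have : Algebra.FiniteType R s.unop.1 := s.unop.1.fg_iff_finiteType.1 s.unop.2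
  exact (HasRingHomProperty.Spec_iff (P := @LocallyOfFiniteType)).2
    (RingHom.finiteType_algebraMap.2 this)

instance isNoetherian_algSchemes [IsNoetherianRing R] (s : (AlgSub R A)ᵒᵖ) :
    AlgebraicGeometry.IsNoetherian ((algSchemes R A).obj s) := by
  have : Algebra.FiniteType R s.unop.1 := s.unop.1.fg_iff_finiteType.1 s.unop.2
  have hN : IsNoetherianRing s.unop.1 := Algebra.FiniteType.isNoetherianRing R _
  have : IsNoetherianRing ((algDiagram R A).obj s.unop) := hN
  exact inferInstanceAs (AlgebraicGeometry.IsNoetherian (Spec ((algDiagram R A).obj s.unop)))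

instance isAffineHom_algSchemes (s t : (AlgSub R A)ᵒᵖ) (f : s ⟶ t) :
    IsAffineHom ((algSchemes R A).map f) :=
  inferInstanceAs (IsAffineHom (Spec.map ((algDiagram R A).map f.unop)))

end Groth.SpectralTopology
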