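import Groth.Agent.SpectralTopology.ModelsOfDescend
import Groth.Agent.SpectralTopology.DescendFP

set_option autoImplicit false

/-! Finitely presented schemes over `Spec A` descend to a finitely generated subring. -/

open AlgebraicGeometry CategoryTheory CategoryTheory.Limits

namespace Groth.SpectralTopology

universe u

theorem canDescend (A : CommRingCat.{u}) : CanDescend A := fun X f _ _ _ ↦ by
  obtain ⟨i, ⟨M⟩⟩ := exists_stageModel (isLimitFgCone A) f
  exact ⟨i, M.obj, M.hom, M.map, M.lfp, M.qc, M.qs, M.sq⟩

end Groth.SpectralTopology
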