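import Groth.Agent.SpectralTopology.SpreadInstances
import Groth.Agent.Chow.Lemma
import Groth.Agent.Variety2.ProjBasics

set_option autoImplicit false
set_option backward.isDefEq.respectTransparency false

/-!
EGA IV 8.10.5 (xii) over Noetherian stages: properness spreads out (via Chow's lemma).
-/

open AlgebraicGeometry CategoryTheory CategoryTheory.Limits Topology

namespace Groth.SpectralTopology

universe u

theorem prop_snd_congr (Q : MorphismProperty Scheme.{u}) {X S T : Scheme.{u}} (f : X ⟶ S)
    {a b : T ⟶ S} (e : a = b) (h : Q (pullback.snd f a)) : Q (pullback.snd f b) := by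
  subst e; exact h

theorem baseSpreads_of_spreads {Q : MorphismProperty Scheme.{u}} [Q.IsStableUnderBaseChange]
    (h : Spreads Q) : BaseSpreads Q := by
  intro I _ _ D c hc _ _ _ _ i X₀ f₀ _ _ _ hQ
  obtain ⟨j, φ, hj⟩ := h D c hc f₀ (𝟙 (D.obj i)) _ (𝟙 c.pt) (c.π.app i) _
    (IsPullback.of_vert_isIso ⟨by simp⟩) (IsPullback.of_hasPullback _ _) hQ
  refine ⟨j, φ, ?_⟩
  have hiso : IsIso (pullback.fst (D.map φ) (𝟙 (D.obj i))) := inferInstance
  have he : inv (pullback.fst (D.map φ) (𝟙 (D.obj i))) ≫ pullback.snd (D.map φ) (𝟙 (D.obj i)) =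
      D.map φ := by
    rw [IsIso.inv_comp_eq, pullback.condition, Category.comp_id]
  refine prop_snd_congr Q f₀ he ((prop_snd_snd_iff Q _ _ _).1 ?_)
  exact Q.of_isPullback (IsPullback.of_hasPullback _ _) hj

theorem baseSpreads_isProper : BaseSpreads.{u} @IsProper := by
  intro I _ _ D c hc _ _ _ _ i X₀ f₀ _ _ _ h
  obtain ⟨j, φ, hsep⟩ := baseSpreads_of_spreads spreads_isSeparated D c hc f₀
    (show IsSeparated (pullback.snd f₀ (c.π.app i)) from inferInstance)
  let fj := pullback.snd f₀ (D.map φ)
  have : IsSeparated fj := hsep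
  have : LocallyOfFiniteType fj := inferInstance
  have : QuasiCompact fj := inferInstance
  have : IsLocallyNoetherian (pullback f₀ (D.map φ)) := LocallyOfFiniteType.isLocallyNoetherian fj
  have : CompactSpace ↥(pullback f₀ (D.map φ)) := QuasiCompact.compactSpace_of_compactSpace fj
  have : AlgebraicGeometry.IsNoetherian (pullback f₀ (D.map φ)) := {}
  obtain ⟨N, X', π₀, jI, hjI, hjb, hπ, hsurj, -⟩ := Groth.Chow.exists_chow fj
    TopologicalSpace.NoetherianSpace.finite_irreducibleComponents
  let tb := CohB1.ProjSpaceOver.toBase N (D.obj j)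
  have : IsProper tb := inferInstance
  have : LocallyOfFiniteType (jI ≫ tb) := by rw [hjb]; infer_instance
  have : QuasiCompact (jI ≫ tb) := by rw [hjb]; infer_instance
  have : QuasiSeparated (jI ≫ tb) := by rw [hjb]; infer_instance
  have : IsLocallyNoetherian (CohB1.ProjSpaceOver N (D.obj j)) :=
    LocallyOfFiniteType.isLocallyNoetherian tb
  have : LocallyOfFiniteType jI := locallyOfFiniteType_of_comp jI tb
  have : QuasiCompact jI := QuasiCompact.of_comp jI tb
  have : QuasiSeparated jI := QuasiSeparated.of_comp jI tb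
  -- in the limit the embedding is closed
  let fl := pullback.snd fj (c.π.app j)
  have hfl : IsProper fl := by rw [prop_snd_snd_iff @IsProper, c.w]; exact h
  let s := IsPullback.of_hasPullback π₀ (pullback.fst fj (c.π.app j))
  have big : IsPullback (pullback.fst π₀ (pullback.fst fj (c.π.app j)))
      (pullback.snd π₀ (pullback.fst fj (c.π.app j)) ≫ fl) (π₀ ≫ fj) (c.π.app j) :=
    s.paste_vert (IsPullback.of_hasPullback fj (c.π.app j))
  let l := (IsPullback.of_hasPullback tb (c.π.app j)).lift
    (pullback.fst π₀ (pullback.fst fj (c.π.app j)) ≫ jI)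
    (pullback.snd π₀ (pullback.fst fj (c.π.app j)) ≫ fl)
    (by rw [Category.assoc, hjb, big.w])
  have hl : l ≫ pullback.snd tb (c.π.app j) =
      pullback.snd π₀ (pullback.fst fj (c.π.app j)) ≫ fl :=
    (IsPullback.of_hasPullback tb (c.π.app j)).lift_snd _ _ _
  have hX : IsPullback (pullback.fst π₀ (pullback.fst fj (c.π.app j))) l jI
      (pullback.fst tb (c.π.app j)) :=
    IsPullback.of_bot (by rw [hl, hjb]; exact big)
      ((IsPullback.of_hasPullback tb (c.π.app j)).lift_fst _ _ _).symm
      (IsPullback.of_hasPullback tb (c.π.app j))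
  have : IsProper (l ≫ pullback.snd tb (c.π.app j)) := by rw [hl]; infer_instance
  have : IsProper l := IsProper.of_comp l (pullback.snd tb (c.π.app j))
  have : IsImmersion l := MorphismProperty.of_isPullback hX hjI
  have hcl : IsClosedImmersion l := (IsClosedImmersion.iff_isProper_and_mono l).2 ⟨‹_›, inferInstance⟩
  obtain ⟨k, ψ, hk⟩ := spreads_isClosedImmersion D c hc jI tb l (pullback.snd tb (c.π.app j))
    (pullback.fst tb (c.π.app j)) _ (IsPullback.of_hasPullback _ _) hX hcl
  -- the stage `k` is proper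
  refine ⟨k, ψ ≫ φ, ?_⟩
  refine prop_snd_congr @IsProper f₀ (D.map_comp ψ φ).symm ((prop_snd_snd_iff @IsProper _ _ _).1 ?_)
  have : IsProper (pullback.snd (jI ≫ tb) (D.map ψ)) := by
    have sq := (IsPullback.of_hasPullback jI (pullback.snd (D.map ψ) tb)).paste_vert
      (IsPullback.of_hasPullback (D.map ψ) tb).flip
    rw [← sq.isoPullback_inv_snd]
    infer_instance
  let fk := pullback.snd fj (D.map ψ)
  have sq₂ := (IsPullback.of_hasPullback π₀ (pullback.fst fj (D.map ψ))).paste_vert
    (IsPullback.of_hasPullback fj (D.map ψ))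
  have : UniversallyClosed (pullback.snd π₀ (pullback.fst fj (D.map ψ)) ≫ fk) := by
    rw [← sq₂.isoPullback_hom_snd]
    have : IsProper (pullback.snd (π₀ ≫ fj) (D.map ψ)) := by rw [← hjb]; infer_instance
    infer_instance
  have : UniversallyClosed fk :=
    UniversallyClosed.of_comp_surjective (pullback.snd π₀ (pullback.fst fj (D.map ψ))) fk
  exact { }

theorem spreads_isProper : Spreads.{u} @IsProper := spreads_of_baseSpreads baseSpreads_isProper

end Groth.SpectralTopology
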