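import Groth.Agent.Hensel1.RadicialBirational
import Groth.Agent.EGA43Topo.UnibranchOpen
import Groth.Agent.HTopHyper.ResidueIso
import Groth.Agent.S9812
import Mathlib.AlgebraicGeometry.Morphisms.UniversallyInjective
import Mathlib.AlgebraicGeometry.Morphisms.FinitePresentation

/-!
# The geometrically unibranch locus (helper92)
-/

set_option autoImplicit false
set_option linter.style.haveILetI false
set_option backward.isDefEq.respectTransparency.types false
set_option backward.defeqAttrib.useBackward true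
universe u

open CategoryTheory CategoryTheory.Limits AlgebraicGeometry TopologicalSpace

namespace Groth.GeomUnibranchLocus

/-- Geometric unibranchness only depends on the reduced ring. -/
theorem isGeomUnibranch_of_red_equiv {A B : Type u} [CommRing A] [CommRing B] [IsLocalRing A] [IsLocalRing B]
    (r : CAlg2.red A ≃+* CAlg2.red B) (h : CAlg2.IsGeomUnibranch A) : CAlg2.IsGeomUnibranch B := by
  refine ⟨Groth.EGA43Topo.isUnibranch_of_red_equiv r h.1, ?_⟩
  have : IsDomain (CAlg2.red A) := h.1.1
  have : IsDomain (CAlg2.red B) := (Groth.EGA43Topo.isUnibranch_of_red_equiv r h.1).1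
  let Φ : FractionRing (CAlg2.red A) ≃+* FractionRing (CAlg2.red B) := IsFractionRing.ringEquivOfRingEquiv r
  have hΦ : ∀ a, Φ (algebraMap (CAlg2.red A) _ a) = algebraMap (CAlg2.red B) _ (r a) := fun a =>
    IsFractionRing.ringEquivOfRingEquiv_algebraMap r a
  have hto : ∀ x, IsIntegral (CAlg2.red A) x → IsIntegral (CAlg2.red B) (Φ x) := fun x hx =>
    hx.map_of_comp_eq r.toRingHom Φ.toRingHom (RingHom.ext fun a => (hΦ a).symm)
  have hfrom : ∀ x, IsIntegral (CAlg2.red B) x → IsIntegral (CAlg2.red A) (Φ.symm x) := fun x hx =>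
    hx.map_of_comp_eq r.symm.toRingHom Φ.symm.toRingHom (RingHom.ext fun a => by
      show algebraMap (CAlg2.red A) _ (r.symm a) = Φ.symm (algebraMap _ _ a)
      rw [RingEquiv.eq_symm_apply, hΦ, r.apply_symm_apply])
  let ψ : CAlg2.normRed A ≃+* CAlg2.normRed B :=
    { toFun := fun x => ⟨Φ x.1, hto x.1 x.2⟩
      invFun := fun x => ⟨Φ.symm x.1, hfrom x.1 x.2⟩
      left_inv := fun x => Subtype.ext (Φ.symm_apply_apply _)
      right_inv := fun x => Subtype.ext (Φ.apply_symm_apply _)
      map_mul' := fun x y => Subtype.ext (map_mul Φ _ _)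
      map_add' := fun x y => Subtype.ext (map_add Φ _ _) }
  intro m' _
  let m : Ideal (CAlg2.normRed A) := m'.comap ψ.toRingHom
  haveI : m.IsMaximal := Ideal.comap_isMaximal_of_surjective _ ψ.surjective
  intro x
  obtain ⟨x, rfl⟩ := Ideal.Quotient.mk_surjective x
  obtain ⟨y, rfl⟩ := ψ.surjective x
  obtain ⟨n, a, ha⟩ := h.2 m (Ideal.Quotient.mk m y)
  obtain ⟨b, hb⟩ := Ideal.Quotient.mk_surjective (r (Ideal.Quotient.mk (nilradical A) a))
  let E : CAlg2.normRed A ⧸ m →+* CAlg2.normRed B ⧸ m' :=
    Ideal.Quotient.lift m ((Ideal.Quotient.mk m').comp ψ.toRingHom)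
      fun z hz => Ideal.Quotient.eq_zero_iff_mem.2 hz
  have hexp : ringExpChar (CAlg2.normRed A ⧸ m) = ringExpChar (CAlg2.normRed B ⧸ m') := by
    let _ : Field (CAlg2.normRed A ⧸ m) := Ideal.Quotient.field _
    let _ : Field (CAlg2.normRed B ⧸ m') := Ideal.Quotient.field _
    haveI := expChar_of_injective_ringHom E.injective (ringExpChar (CAlg2.normRed A ⧸ m))
    exact (ringExpChar.eq (CAlg2.normRed B ⧸ m') (ringExpChar (CAlg2.normRed A ⧸ m))).symm
  refine ⟨n, b, ?_⟩
  rw [← hexp]
  have h2 := congrArg E ha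
  rw [map_pow] at h2
  refine Eq.trans ?_ h2
  show Ideal.Quotient.mk m' (algebraMap (CAlg2.red B) (CAlg2.normRed B) (Ideal.Quotient.mk (nilradical B) b)) =
    Ideal.Quotient.mk m' (ψ (algebraMap (CAlg2.red A) (CAlg2.normRed A) (Ideal.Quotient.mk (nilradical A) a)))
  rw [hb]
  refine congrArg _ (Subtype.ext ?_)
  exact (hΦ _).symm

/-- Two points with values in a field over a point at which `f` is radicial coincide. -/
theorem eq_of_radicial {X Y : Scheme.{u}} (f : X ⟶ Y) (y : Y) (hy : RadPt.IsRadicialAt f y) {K : Type u} [Field K]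
    (g₁ g₂ : Spec (.of K) ⟶ X) (hg : g₁ ≫ f = g₂ ≫ f) (h1 : f (g₁ (IsLocalRing.closedPoint K)) = y) : g₁ = g₂ := by
  obtain ⟨hinj, hpi⟩ := hy
  have h2 : f (g₂ (IsLocalRing.closedPoint K)) = y := by
    rw [← h1]
    exact (congrArg (fun m => m (IsLocalRing.closedPoint K)) hg).symm
  obtain ⟨e, h⟩ := Scheme.SpecToEquivOfField_eq_iff.mp congr((Y.SpecToEquivOfField K) $(hg))
  apply (X.SpecToEquivOfField K).injective
  have hx := hinj _ _ h1 h2
  dsimp at e h
  simp only [Scheme.descResidueField_stalkClosedPointTo_comp] at e h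
  rw [← f.residueFieldMap_congr'_assoc hx, CommRingCat.hom_ext_iff] at h
  rw [Scheme.SpecToEquivOfField_eq_iff]
  have hfx := hpi _ h1
  algebraize [(f.residueFieldMap (g₁ (IsLocalRing.closedPoint K))).hom]
  refine ⟨hx, CommRingCat.hom_ext ?_⟩
  exact IsPurelyInseparable.injective_comp_algebraMap
    (Y.residueField (f (g₁ (IsLocalRing.closedPoint K)))) (X.residueField (g₁ (IsLocalRing.closedPoint K))) _ h

/-- The radicial locus is the complement of the image of the off-diagonal. -/
theorem isRadicialAt_iff {X Y : Scheme.{u}} (f : X ⟶ Y) (y : Y) :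
    RadPt.IsRadicialAt f y ↔
      y ∉ (pullback.fst f f ≫ f) '' (Set.range (pullback.diagonal f))ᶜ := by
  constructor
  · rintro ⟨hinj, hpi⟩ ⟨z, hz, hzy⟩
    refine hz ?_
    let φ := (pullback f f).fromSpecResidueField z
    let g₁ := φ ≫ pullback.fst f f
    let g₂ := φ ≫ pullback.snd f f
    have hg : g₁ ≫ f = g₂ ≫ f := by simp [g₁, g₂, pullback.condition]
    let c := IsLocalRing.closedPoint ((pullback f f).residueField z)
    have hφc : φ c = z := Scheme.fromSpecResidueField_apply _ _
    have h1 : f (g₁ c) = y := by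
      rw [← hzy]
      show (g₁ ≫ f) c = _
      simp only [g₁, Category.assoc]
      rw [Scheme.Hom.comp_apply, hφc]
    have h2 : f (g₂ c) = y := by
      rw [← h1]
      exact (congrArg (fun m => m c) hg).symm
    have hx : g₁ c = g₂ c := hinj _ _ h1 h2
    have hgg : g₁ = g₂ :=
      eq_of_radicial f y ⟨hinj, hpi⟩ (K := (pullback f f).residueField z) g₁ g₂ hg h1
    refine ⟨g₁ c, ?_⟩
    have hφ₂ : φ = g₁ ≫ pullback.diagonal f := by
      apply pullback.hom_ext <;> simp only [Category.assoc, pullback.diagonal_fst, pullback.diagonal_snd,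
        Category.comp_id]
      · rfl
      · exact hgg.symm
    rw [← Scheme.Hom.comp_apply, ← hφ₂, hφc]
  · intro h
    have hf : ∀ z : ↥(pullback f f), f (pullback.fst f f z) = y → ∃ u, pullback.diagonal f u = z := by
      intro z hz
      by_contra hcon
      exact h ⟨z, fun ⟨u, hu⟩ => hcon ⟨u, hu⟩, hz⟩
    refine ⟨fun x x' hx hx' => ?_, fun x hx => ?_⟩
    · obtain ⟨z, hz₁, hz₂⟩ := Scheme.Pullback.exists_preimage_pullback (f := f) (g := f) x x' (hx.trans hx'.symm)
      obtain ⟨u, hu⟩ := hf z (by rw [hz₁]; exact hx)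
      have e1 : pullback.fst f f (pullback.diagonal f u) = u := by
        rw [← Scheme.Hom.comp_apply, pullback.diagonal_fst]; rfl
      have e2 : pullback.snd f f (pullback.diagonal f u) = u := by
        rw [← Scheme.Hom.comp_apply, pullback.diagonal_snd]; rfl
      rw [hu] at e1 e2
      rw [← hz₁, ← hz₂, e1, e2]
    · algebraize [(f.residueFieldMap x).hom]
      rw [RingHom.IsPurelyInseparable, isPurelyInseparable_iff_subsingleton_emb, subsingleton_iff]
      intro σ₁ σ₂
      apply AlgHom.coe_ringHom_injective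
      let g₁ := (X.SpecToEquivOfField _).symm ⟨_, CommRingCat.ofHom σ₁.toRingHom⟩
      let g₂ := (X.SpecToEquivOfField _).symm ⟨_, CommRingCat.ofHom σ₂.toRingHom⟩
      suffices X.SpecToEquivOfField _ g₁ = X.SpecToEquivOfField _ g₂ by
        rw [Equiv.apply_symm_apply, Equiv.apply_symm_apply] at this
        exact congr($(this).2.hom)
      let q := pullback.lift (f := f) (g := f) g₁ g₂ <| by
        simp only [g₁, g₂, Scheme.SpecToEquivOfField_symm_apply, AlgHom.toRingHom_eq_coe,
          Category.assoc, ← f.SpecMap_residueFieldMap_fromSpecResidueField x, ← Spec.map_comp_assoc]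
        congr 2
        ext a
        simp only [CommRingCat.hom_comp, RingHom.comp_apply]
        exact (AlgHom.commutes σ₁ a).trans (AlgHom.commutes σ₂ a).symm
      have q_fst : q ≫ pullback.fst f f = g₁ := pullback.lift_fst _ _ _
      have q_snd : q ≫ pullback.snd f f = g₂ := pullback.lift_snd _ _ _
      rw [Scheme.SpecToEquivOfField_eq_iff, ← q_fst, ← q_snd]
      obtain ⟨u, hu⟩ := hf (q (IsLocalRing.closedPoint _)) (by
        rw [← Scheme.Hom.comp_apply, ← Scheme.Hom.comp_apply, ← Category.assoc, q_fst]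
        simpa [g₁, Scheme.SpecToEquivOfField_symm_apply] using hx)
      have hux : u = x := by
        have := congr(pullback.fst f f $(hu))
        rw [← Scheme.Hom.comp_apply, ← Scheme.Hom.comp_apply] at this
        simpa [Scheme.SpecToEquivOfField_symm_apply, q_fst, g₁] using this
      refine ⟨by simp [g₁, g₂, q_fst, q_snd], ?_⟩
      try dsimp
      simp only [Scheme.descResidueField_stalkClosedPointTo_comp, ← Category.assoc]
      congr 1
      rw [← cancel_mono (Scheme.residueFieldCongr (hux ▸ hu).symm).hom]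
      have : Mono (Scheme.Hom.residueFieldMap (pullback.diagonal f) x) :=
        ConcreteCategory.mono_of_injective _ (RingHom.injective _)
      simp [← cancel_mono ((pullback.diagonal f).residueFieldMap x), ← Scheme.residueFieldMap_comp,
        (pullback.fst f f).residueFieldMap_congr', (pullback.snd f f).residueFieldMap_congr'_assoc,
        Scheme.Hom.residueFieldMap_congr (pullback.diagonal_snd f),
        Scheme.Hom.residueFieldMap_congr (pullback.diagonal_fst f)]

/-- The radicial locus of a finite morphism to a Noetherian scheme is constructible. -/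
theorem isConstructible_radicialLocus {X Y : Scheme.{u}} (f : X ⟶ Y) [IsFinite f] [IsNoetherian Y] :
    Topology.IsConstructible {y : Y | RadPt.IsRadicialAt f y} := by
  haveI : IsLocallyNoetherian X := LocallyOfFiniteType.isLocallyNoetherian f
  haveI : CompactSpace X := QuasiCompact.compactSpace_of_compactSpace f
  let g := pullback.fst f f ≫ f
  haveI : IsLocallyNoetherian (pullback f f) := LocallyOfFiniteType.isLocallyNoetherian g
  haveI : CompactSpace ↥(pullback f f) := QuasiCompact.compactSpace_of_compactSpace g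
  haveI : IsNoetherian (pullback f f) := {}
  have hS : Topology.IsConstructible (Set.range (pullback.diagonal f))ᶜ :=
    IsRetrocompact.isConstructible (pullback.diagonal f).isClosedEmbedding.isClosed_range.isOpen_compl
      (fun s _ _ => NoetherianSpace.isCompact _)
  have h : Topology.IsConstructible (g '' (Set.range (pullback.diagonal f))ᶜ) :=
    (g.isLocallyConstructible_image hS.isLocallyConstructible).isConstructible
  have heq : {y : Y | RadPt.IsRadicialAt f y} = (g '' (Set.range (pullback.diagonal f))ᶜ)ᶜ :=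
    Set.ext fun y => isRadicialAt_iff f y
  rw [heq]
  exact h.compl

/-- Constructibility of the geometrically unibranch locus of a Noetherian domain with finite normalisation. -/
theorem isConstructible_domain (D : Type u) [CommRing D] [IsDomain D] [IsNoetherianRing D]
    (hfin : Module.Finite D (integralClosure D (FractionRing D))) :
    Topology.IsConstructible
      {p : PrimeSpectrum D | CAlg2.IsGeomUnibranch (Localization.AtPrime p.asIdeal)} := by
  let K := FractionRing D
  let N := integralClosure D K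
  haveI : IsFractionRing N K := integralClosure.isFractionRing_of_finite_extension K K
  haveI : IsIntegrallyClosed N := integralClosure.isIntegrallyClosedOfFiniteExtension K
  haveI : Algebra.IsIntegral D N := IsIntegralClosure.isIntegral_algebra D K
  let f := Spec.map (CommRingCat.ofHom (algebraMap D N))
  haveI : IsFinite f := (IsFinite.SpecMap_iff _).2 (RingHom.finite_algebraMap.2 hfin)
  have hinj : Function.Injective (algebraMap D N) := fun a b h =>
    IsFractionRing.injective D K (congrArg Subtype.val h)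
  have hgenD' : ∀ y : PrimeSpectrum D, closure {y} ∈ irreducibleComponents (PrimeSpectrum D) ↔
      y = ⟨⊥, Ideal.isPrime_bot⟩ := fun y => by
    rw [PrimeSpectrum.closure_singleton, irreducibleComponents_eq_singleton, Set.mem_singleton_iff,
      ← PrimeSpectrum.zeroLocus_bot]
    refine ⟨fun h => PrimeSpectrum.ext ?_, fun h => by rw [h]⟩
    have h1 := congrArg PrimeSpectrum.vanishingIdeal h
    rw [PrimeSpectrum.vanishingIdeal_zeroLocus_eq_radical, PrimeSpectrum.vanishingIdeal_zeroLocus_eq_radical,
      y.isPrime.isRadical.radical, (Ideal.isPrime_bot (α := D)).isRadical.radical] at h1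
    exact h1
  have hgenD : ∀ y : ↥(Spec (CommRingCat.of D)), y ∈ genericPoints ↥(Spec (CommRingCat.of D)) ↔
      y = (⟨⊥, Ideal.isPrime_bot⟩ : PrimeSpectrum D) := fun y => hgenD' y
  have hgenN' : ∀ y : PrimeSpectrum N, closure {y} ∈ irreducibleComponents (PrimeSpectrum N) ↔
      y = ⟨⊥, Ideal.isPrime_bot⟩ := fun y => by
    rw [PrimeSpectrum.closure_singleton, irreducibleComponents_eq_singleton, Set.mem_singleton_iff,
      ← PrimeSpectrum.zeroLocus_bot]
    refine ⟨fun h => PrimeSpectrum.ext ?_, fun h => by rw [h]⟩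
    have h1 := congrArg PrimeSpectrum.vanishingIdeal h
    rw [PrimeSpectrum.vanishingIdeal_zeroLocus_eq_radical, PrimeSpectrum.vanishingIdeal_zeroLocus_eq_radical,
      y.isPrime.isRadical.radical, (Ideal.isPrime_bot (α := N)).isRadical.radical] at h1
    exact h1
  have hgenN : ∀ y : ↥(Spec (CommRingCat.of N)), y ∈ genericPoints ↥(Spec (CommRingCat.of N)) ↔
      y = (⟨⊥, Ideal.isPrime_bot⟩ : PrimeSpectrum N) := fun y => hgenN' y
  have hbot : ∀ x : PrimeSpectrum N, x.asIdeal.comap (algebraMap D N) = ⊥ → x = ⟨⊥, Ideal.isPrime_bot⟩ := by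
    intro x hx
    refine PrimeSpectrum.ext ?_
    by_contra hne
    exact Ideal.IsIntegral.comap_ne_bot (R := D) hne hx
  have hfbot : f (⟨⊥, Ideal.isPrime_bot⟩ : PrimeSpectrum N) = (⟨⊥, Ideal.isPrime_bot⟩ : PrimeSpectrum D) :=
    PrimeSpectrum.ext ((RingHom.ker_eq_comap_bot _).symm.trans ((RingHom.injective_iff_ker_eq_bot _).1 hinj))
  have hbir : RadPt.IsBirational f := by
    refine ⟨⟨fun x hx => ?_, fun x hx x' hx' _ => ?_, fun y hy => ?_⟩, fun y hy => ⟨fun x x' hx hx' => ?_, fun x hx => ?_⟩⟩
    · rw [(hgenN x).1 hx, hfbot, hgenD]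
    · rw [(hgenN x).1 hx, (hgenN x').1 hx']
    · exact ⟨_, (hgenN _).2 rfl, by rw [hfbot, (hgenD y).1 hy]⟩
    · rw [(hgenD y).1 hy] at hx hx'
      rw [hbot x (congrArg PrimeSpectrum.asIdeal hx), hbot x' (congrArg PrimeSpectrum.asIdeal hx')]
    · rw [(hgenD y).1 hy] at hx
      obtain rfl := hbot x (congrArg PrimeSpectrum.asIdeal hx)
      haveI : IsIso (f.residueFieldMap (⟨⊥, Ideal.isPrime_bot⟩ : PrimeSpectrum N)) := by
        refine (Groth.HTopHyper.residueFieldMap_isIso_iff (CommRingCat.ofHom (algebraMap D N)) _).2 fun c => ?_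
        obtain ⟨a, s, hs, has⟩ := IsFractionRing.div_surjective D ((c : N) : K)
        have hs0 : algebraMap D K s ≠ 0 := fun h =>
          nonZeroDivisors.ne_zero hs (IsFractionRing.injective D K (h.trans (map_zero _).symm))
        refine ⟨a, s, fun h => ?_, ?_⟩
        · have h' : algebraMap D N s = 0 := Ideal.mem_bot.1 h
          exact hs0 (congrArg Subtype.val h')
        · have h' : algebraMap D N s * c = algebraMap D N a := Subtype.ext (by
            show algebraMap D K s * ((c : N) : K) = algebraMap D K a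
            rw [← has, mul_div_cancel₀ _ hs0])
          exact Ideal.mem_bot.2 (sub_eq_zero.2 h')
      exact ConcreteCategory.bijective_of_isIso _
  have hset : {p : PrimeSpectrum D | CAlg2.IsGeomUnibranch (Localization.AtPrime p.asIdeal)} =
      {y : ↥(Spec (CommRingCat.of D)) | RadPt.IsRadicialAt f y} := by
    refine Set.ext fun p => ?_
    have e1 : CAlg2.IsGeomUnibranch (Localization.AtPrime p.asIdeal) ↔
        CAlg2.IsGeomUnibranch ((Spec (CommRingCat.of D)).presheaf.stalk p) := by
      let _ : IsLocalization.AtPrime ((Spec.structureSheaf D).presheaf.stalk p) p.asIdeal := inferInstance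
      haveI : IsLocalRing ((Spec.structureSheaf D).presheaf.stalk p) :=
        inferInstanceAs (IsLocalRing ((Spec (CommRingCat.of D)).presheaf.stalk p))
      exact ⟨Groth.PropsBasic.UnibranchPunctured.isGeomUnibranch_of_isLocalization D p.asIdeal
          (Localization.AtPrime p.asIdeal) ((Spec.structureSheaf D).presheaf.stalk p),
        Groth.PropsBasic.UnibranchPunctured.isGeomUnibranch_of_isLocalization D p.asIdeal
          ((Spec.structureSheaf D).presheaf.stalk p) (Localization.AtPrime p.asIdeal)⟩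
    show CAlg2.IsGeomUnibranch (Localization.AtPrime p.asIdeal) ↔ RadPt.IsRadicialAt f p
    rw [e1, Groth.Hensel1.isGeomUnibranch_iff_isRadicialAt f hbir p]
    refine and_iff_left fun x _ => ?_
    have hx : CAlg2.IsGeomUnibranch (Localization.AtPrime (PrimeSpectrum.asIdeal (R := N) x)) := by
      haveI : IsIntegrallyClosed (Localization.AtPrime (PrimeSpectrum.asIdeal (R := N) x)) :=
        isIntegrallyClosed_of_isLocalization _ (PrimeSpectrum.asIdeal (R := N) x).primeCompl
          (Ideal.primeCompl_le_nonZeroDivisors _)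
      exact Groth.Agent.S9812.result _
    haveI : IsLocalRing ((Spec.structureSheaf N).presheaf.stalk x) :=
      inferInstanceAs (IsLocalRing ((Spec (CommRingCat.of N)).presheaf.stalk x))
    exact Groth.PropsBasic.UnibranchPunctured.isGeomUnibranch_of_isLocalization N
      (PrimeSpectrum.asIdeal (R := N) x) (Localization.AtPrime (PrimeSpectrum.asIdeal (R := N) x))
      ((Spec.structureSheaf N).presheaf.stalk x) hx
  rw [hset]
  exact isConstructible_radicialLocus f

open scoped Classical in
/-- Lifting the normalisation of a component to the normalisation of the reduction. -/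
theorem finite_normalization_component {R : Type u} [CommRing R] [IsNoetherianRing R]
    (hfin : Module.Finite (CAlg2.red R) (CAlg2.normRed R)) (q : Ideal R) [q.IsPrime] (hq : q ∈ minimalPrimes R) :
    Module.Finite (R ⧸ q) (integralClosure (R ⧸ q) (FractionRing (R ⧸ q))) := by
  let Rb := CAlg2.red R
  let π : R →+* Rb := Ideal.Quotient.mk (nilradical R)
  have hfinmin : (minimalPrimes R).Finite := minimalPrimes.finite_of_isNoetherianRing R
  have hnzd : ∀ d : R, (∀ q' ∈ minimalPrimes R, d ∉ q') → π d ∈ nonZeroDivisors Rb := by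
    intro d hd
    refine mem_nonZeroDivisors_iff_left.2 fun z hz => ?_
    obtain ⟨z, rfl⟩ := Ideal.Quotient.mk_surjective z
    rw [← map_mul, Ideal.Quotient.eq_zero_iff_mem] at hz
    rw [Ideal.Quotient.eq_zero_iff_mem, nilradical, ← Ideal.sInf_minimalPrimes, Submodule.mem_sInf]
    intro P hP
    haveI := hP.1.1
    have hzP : d * z ∈ P := nilradical_le_prime P hz
    exact (Ideal.IsPrime.mem_or_mem ‹_› hzP).resolve_left (hd P hP)
  -- the projection to the component
  let D := R ⧸ q
  let K := FractionRing D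
  let ρ : Rb →+* D := Ideal.Quotient.factor (nilradical_le_prime q)
  have hρ : ∀ d : nonZeroDivisors Rb, IsUnit ((algebraMap D K).comp ρ (d : Rb)) := by
    rintro ⟨d, hd⟩
    obtain ⟨d, rfl⟩ := Ideal.Quotient.mk_surjective d
    refine isUnit_iff_ne_zero.2 fun h => ?_
    have h1 : d ∈ q := Ideal.Quotient.eq_zero_iff_mem.1 (IsFractionRing.injective D K (h.trans (map_zero _).symm))
    obtain ⟨s, hsq, hs⟩ : ∃ s, s ∉ q ∧ ∀ P ∈ minimalPrimes R, P ≠ q → s ∈ P := by
      have hnle : ¬ (hfinmin.toFinset.erase q).inf id ≤ q := by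
        intro hle
        obtain ⟨P, hP, hPle⟩ := (Ideal.IsPrime.inf_le' (P := q) inferInstance).1 hle
        obtain ⟨hPne, hPm⟩ := Finset.mem_erase.1 hP
        exact hPne (le_antisymm hPle (hq.2 (hfinmin.mem_toFinset.1 hPm).1 hPle))
      obtain ⟨s, hs, hs'⟩ := SetLike.not_le_iff_exists.1 hnle
      exact ⟨s, hs', fun P hP hne => (Submodule.mem_finsetInf.1 hs) P (Finset.mem_erase.2 ⟨hne, hfinmin.mem_toFinset.2 hP⟩)⟩
    have h2 : π s = 0 := (mem_nonZeroDivisors_iff_left.1 hd) (π s) (by
      show π d * π s = 0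
      rw [← map_mul, Ideal.Quotient.eq_zero_iff_mem, nilradical, ← Ideal.sInf_minimalPrimes, Submodule.mem_sInf]
      intro P hP
      by_cases hPq : P = q
      · rw [hPq]; exact q.mul_mem_right _ h1
      · exact Ideal.mul_mem_left P _ (hs P hP hPq))
    exact hsq (nilradical_le_prime q (Ideal.Quotient.eq_zero_iff_mem.1 h2))
  let PK : FractionRing Rb →+* K := IsLocalization.lift (M := nonZeroDivisors Rb) hρ
  have hPK : PK.comp (algebraMap Rb (FractionRing Rb)) = (algebraMap D K).comp ρ :=
    IsLocalization.lift_comp hρ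
  let Ψ : CAlg2.normRed R →+* integralClosure D K :=
    { toFun := fun y => ⟨PK y.1, IsIntegral.map_of_comp_eq ρ PK hPK.symm y.2⟩
      map_one' := Subtype.ext (map_one PK)
      map_mul' := fun a b => Subtype.ext (map_mul PK _ _)
      map_zero' := Subtype.ext (map_zero PK)
      map_add' := fun a b => Subtype.ext (map_add PK _ _) }
  have hsurj : Function.Surjective Ψ := by
    rintro ⟨x, hx⟩
    obtain ⟨a, b, hb, hab⟩ := IsFractionRing.div_surjective D x
    obtain ⟨a, rfl⟩ := Ideal.Quotient.mk_surjective a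
    obtain ⟨b, rfl⟩ := Ideal.Quotient.mk_surjective b
    have hbq : b ∉ q := fun h => nonZeroDivisors.ne_zero hb (Ideal.Quotient.eq_zero_iff_mem.2 h)
    obtain ⟨s, hsq, hs⟩ : ∃ s, s ∉ q ∧ ∀ P ∈ minimalPrimes R, P ≠ q → s ∈ P := by
      have hnle : ¬ (hfinmin.toFinset.erase q).inf id ≤ q := by
        intro hle
        obtain ⟨P, hP, hPle⟩ := (Ideal.IsPrime.inf_le' (P := q) inferInstance).1 hle
        obtain ⟨hPne, hPm⟩ := Finset.mem_erase.1 hP
        exact hPne (le_antisymm hPle (hq.2 (hfinmin.mem_toFinset.1 hPm).1 hPle))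
      obtain ⟨s, hs, hs'⟩ := SetLike.not_le_iff_exists.1 hnle
      exact ⟨s, hs', fun P hP hne => (Submodule.mem_finsetInf.1 hs) P (Finset.mem_erase.2 ⟨hne, hfinmin.mem_toFinset.2 hP⟩)⟩
    obtain ⟨t, htq, ht⟩ : ∃ t ∈ q, ∀ P ∈ minimalPrimes R, P ≠ q → t ∉ P := by
      have hnsub : ¬ (q : Set R) ⊆ ⋃ P ∈ (↑(hfinmin.toFinset.erase q) : Set (Ideal R)), (P : Set R) := by
        rw [Ideal.subset_union_prime ⊤ ⊤ (fun P hP _ _ => (hfinmin.mem_toFinset.1 (Finset.mem_erase.1 hP).2).1.1)]
        rintro ⟨P, hP, hle⟩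
        obtain ⟨hPne, hPm⟩ := Finset.mem_erase.1 hP
        exact hPne (le_antisymm ((hfinmin.mem_toFinset.1 hPm).2 hq.1 hle) hle)
      obtain ⟨t, ht, ht'⟩ := Set.not_subset.1 hnsub
      refine ⟨t, ht, fun P hP hne h => ht' ?_⟩
      exact Set.mem_biUnion (Finset.mem_coe.2 (Finset.mem_erase.2 ⟨hne, hfinmin.mem_toFinset.2 hP⟩)) h
    have hd : π (b * s + t) ∈ nonZeroDivisors Rb := by
      refine hnzd _ fun P hP h => ?_
      haveI := hP.1.1
      by_cases hPq : P = q
      · subst hPq
        rcases Ideal.IsPrime.mem_or_mem inferInstance ((Ideal.add_mem_iff_left _ htq).1 h) with h' | h'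
        exacts [hbq h', hsq h']
      · exact ht P hP hPq ((Ideal.add_mem_iff_right _ (Ideal.mul_mem_left P _ (hs P hP hPq))).1 h)
    let y : FractionRing Rb := IsLocalization.mk' _ (π (a * s)) (⟨_, hd⟩ : nonZeroDivisors Rb)
    have hbK : algebraMap D K (Ideal.Quotient.mk q b) ≠ 0 := fun h =>
      nonZeroDivisors.ne_zero hb (IsFractionRing.injective D K (h.trans (map_zero _).symm))
    have hPKy : PK y = x := by
      rw [IsLocalization.lift_mk'_spec]
      show algebraMap D K (Ideal.Quotient.mk q (a * s)) = algebraMap D K (Ideal.Quotient.mk q (b * s + t)) * x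
      rw [← hab, map_add, Ideal.Quotient.eq_zero_iff_mem.2 htq, add_zero, map_mul, map_mul, map_mul, map_mul]
      rw [mul_right_comm (algebraMap D K (Ideal.Quotient.mk q b)), mul_div_cancel₀ _ hbK]
    refine ⟨⟨y, ?_⟩, Subtype.ext hPKy⟩
    -- integrality
    obtain ⟨p, hp, hpx⟩ := hx
    obtain ⟨pt, hpt, -, hptm⟩ := Polynomial.lifts_and_degree_eq_and_monic
      (Polynomial.map_surjective ρ (Ideal.Quotient.factor_surjective _) p) hp
    refine ⟨Polynomial.X * pt, Polynomial.monic_X.mul hptm, ?_⟩
    rw [Polynomial.eval₂_mul, Polynomial.eval₂_X]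
    obtain ⟨w, ⟨e, he⟩, hwe⟩ := IsLocalization.exists_mk'_eq (nonZeroDivisors Rb)
      (pt.eval₂ (algebraMap Rb (FractionRing Rb)) y)
    rw [← hwe, ← IsLocalization.mk'_mul, IsLocalization.mk'_eq_zero_iff]
    refine ⟨1, ?_⟩
    rw [OneMemClass.coe_one, one_mul]
    obtain ⟨w, rfl⟩ := Ideal.Quotient.mk_surjective w
    rw [← map_mul, Ideal.Quotient.eq_zero_iff_mem, nilradical, ← Ideal.sInf_minimalPrimes, Submodule.mem_sInf]
    intro P hP
    by_cases hPq : P = q
    · have h1 : PK (pt.eval₂ (algebraMap Rb (FractionRing Rb)) y) = 0 := by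
        rw [Polynomial.hom_eval₂, hPK, hPKy, ← Polynomial.eval₂_map, hpt]
        exact hpx
      rw [← hwe, IsLocalization.lift_mk'_spec, mul_zero] at h1
      rw [hPq]
      exact q.mul_mem_left _ (Ideal.Quotient.eq_zero_iff_mem.1
        (IsFractionRing.injective D K (h1.trans (map_zero _).symm)))
    · exact Ideal.mul_mem_right (I := P) _ (Ideal.mul_mem_left P _ (hs P hP hPq))
  letI : Algebra Rb D := ρ.toAlgebra
  let L : CAlg2.normRed R →ₛₗ[ρ] integralClosure D K :=
    { toFun := Ψ
      map_add' := map_add Ψ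
      map_smul' := fun r y => by
        rw [Algebra.smul_def, map_mul, Algebra.smul_def]
        refine congrArg (· * Ψ y) (Subtype.ext ?_)
        exact DFunLike.congr_fun hPK r }
  haveI : RingHomSurjective ρ := ⟨Ideal.Quotient.factor_surjective _⟩
  exact Module.Finite.of_surjective L hsurj

/-- **The geometrically unibranch locus is constructible** (EGA IV 9.7.10 style). -/
theorem isConstructible_ring (R : Type u) [CommRing R] [IsNoetherianRing R]
    (hfin : Module.Finite (CAlg2.red R) (CAlg2.normRed R)) :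
    Topology.IsConstructible
      {p : PrimeSpectrum R | CAlg2.IsGeomUnibranch (Localization.AtPrime p.asIdeal)} := by
  classical
  have hfinmin : (minimalPrimes R).Finite := minimalPrimes.finite_of_isNoetherianRing R
  let only : Ideal R → Set (PrimeSpectrum R) := fun q =>
    PrimeSpectrum.zeroLocus (q : Set R) \ ⋃ q' ∈ hfinmin.toFinset.erase q, PrimeSpectrum.zeroLocus (q' : Set R)
  have hmem : ∀ q p, p ∈ only q ↔ q ≤ p.asIdeal ∧ ∀ q' ∈ minimalPrimes R, q' ≤ p.asIdeal → q' = q := by
    intro q p
    simp only [only, Set.mem_sdiff, PrimeSpectrum.mem_zeroLocus, SetLike.coe_subset_coe, Set.mem_iUnion,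
      Finset.mem_erase, Set.Finite.mem_toFinset, not_exists, exists_prop, not_and, and_imp]
    exact and_congr_right fun _ =>
      ⟨fun h q' hq' hle => by_contra fun hne => h q' hne hq' hle, fun h q' hne hq' hle => hne (h q' hq' hle)⟩
  have key : ∀ (q : Ideal R) [q.IsPrime], q ∈ minimalPrimes R → ∀ P : PrimeSpectrum (R ⧸ q),
      PrimeSpectrum.comap (Ideal.Quotient.mk q) P ∈ only q →
      (CAlg2.IsGeomUnibranch (Localization.AtPrime (PrimeSpectrum.comap (Ideal.Quotient.mk q) P).asIdeal) ↔
        CAlg2.IsGeomUnibranch (Localization.AtPrime P.asIdeal)) := by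
    intro q _ hq P hP
    obtain ⟨-, huniq⟩ := (hmem q _).1 hP
    let π : R →+* R ⧸ q := Ideal.Quotient.mk q
    let p := P.asIdeal.comap π
    let O := Localization.AtPrime p
    let O' := Localization.AtPrime P.asIdeal
    let ψ : O →+* O' := IsLocalization.map (M := p.primeCompl) (T := P.asIdeal.primeCompl) O' π (fun x hx => hx)
    have hψ : Function.Surjective ψ := by
      intro z
      obtain ⟨x, ⟨s, hs⟩, rfl⟩ := IsLocalization.exists_mk'_eq P.asIdeal.primeCompl z
      obtain ⟨x, rfl⟩ := Ideal.Quotient.mk_surjective x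
      obtain ⟨s, rfl⟩ := Ideal.Quotient.mk_surjective s
      exact ⟨IsLocalization.mk' O x (⟨s, hs⟩ : p.primeCompl), IsLocalization.map_mk' _ _ _⟩
    have hker : RingHom.ker ψ = nilradical O := by
      haveI := RingHom.ker_isPrime ψ
      refine le_antisymm (fun z hz => ?_) (nilradical_le_prime _)
      obtain ⟨x, s, rfl⟩ := IsLocalization.exists_mk'_eq p.primeCompl z
      rw [RingHom.mem_ker, IsLocalization.map_mk', IsLocalization.mk'_eq_zero_iff] at hz
      obtain ⟨c, hc⟩ := hz
      have hx : π x = 0 := (mul_eq_zero.1 hc).resolve_left fun h0 => c.2 (by rw [h0]; exact zero_mem _)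
      rw [nilradical, Ideal.radical_eq_sInf, Submodule.mem_sInf]
      intro (Q : Ideal O) hQ'
      obtain ⟨-, hQ⟩ := hQ'
      haveI := hQ
      obtain ⟨q', hq', hq'Q⟩ := Ideal.exists_minimalPrimes_le (I := (⊥ : Ideal R))
        (J := Q.comap (algebraMap R O)) bot_le
      have hQp : Q.comap (algebraMap R O) ≤ p := by
        intro r hr
        by_contra hrp
        exact hQ.ne_top (Ideal.eq_top_of_isUnit_mem _ hr (IsLocalization.map_units O (⟨r, hrp⟩ : p.primeCompl)))
      obtain rfl := huniq q' hq' (hq'Q.trans hQp)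
      rw [IsLocalization.mk'_eq_mul_mk'_one]
      exact Q.mul_mem_right _ (hq'Q (Ideal.Quotient.eq_zero_iff_mem.1 hx))
    let r : CAlg2.red O ≃+* CAlg2.red O' :=
      ((Ideal.quotEquivOfEq hker.symm).trans (RingHom.quotientKerEquivOfSurjective hψ)).trans
        ((Ideal.quotEquivOfEq (nilradical_eq_zero O')).trans (RingEquiv.quotientBot _)).symm
    exact ⟨isGeomUnibranch_of_red_equiv r, isGeomUnibranch_of_red_equiv r.symm⟩
  have hset : {p : PrimeSpectrum R | CAlg2.IsGeomUnibranch (Localization.AtPrime p.asIdeal)} =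
      ⋃ q ∈ hfinmin.toFinset, only q ∩ PrimeSpectrum.comap (Ideal.Quotient.mk q) ''
        {P | ∃ _ : q.IsPrime, CAlg2.IsGeomUnibranch (Localization.AtPrime P.asIdeal)} := by
    ext p
    simp only [Set.mem_iUnion, Set.mem_inter_iff, exists_prop, Set.Finite.mem_toFinset]
    constructor
    · intro hp
      haveI hdom : IsDomain (CAlg2.red (Localization.AtPrime p.asIdeal)) := hp.1.1
      have hN : (nilradical (Localization.AtPrime p.asIdeal)).IsPrime := (Ideal.Quotient.isDomain_iff_prime _).1 hdom
      let n := (nilradical (Localization.AtPrime p.asIdeal)).comap (algebraMap R (Localization.AtPrime p.asIdeal))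
      have hall : ∀ q ∈ minimalPrimes R, q ≤ p.asIdeal → q = n := by
        intro q hq hle
        haveI := hq.1.1
        have hd : Disjoint (p.asIdeal.primeCompl : Set R) q := Set.disjoint_left.2 fun a ha h => ha (hle h)
        haveI := IsLocalization.isPrime_of_isPrime_disjoint p.asIdeal.primeCompl (Localization.AtPrime p.asIdeal) q hq.1.1 hd
        have hnq : n ≤ q := (Ideal.comap_mono (nilradical_le_prime _)).trans
          (IsLocalization.under_map_of_isPrime_disjoint p.asIdeal.primeCompl _ hq.1.1 hd).le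
        exact le_antisymm (hq.2 ⟨hN.comap _, bot_le⟩ hnq) hnq
      obtain ⟨q, hq, hqp⟩ := Ideal.exists_minimalPrimes_le (I := (⊥ : Ideal R)) (J := p.asIdeal) bot_le
      haveI := hq.1.1
      have honly : p ∈ only q := (hmem q p).2 ⟨hqp, fun q' hq' hle => (hall q' hq' hle).trans (hall q hq hqp).symm⟩
      obtain ⟨P, hP⟩ : p ∈ Set.range (PrimeSpectrum.comap (Ideal.Quotient.mk q)) := by
        rw [range_comap_of_surjective _ _ Ideal.Quotient.mk_surjective, Ideal.mk_ker]
        exact hqp
      subst hP
      exact ⟨q, hq, honly, P, ⟨inferInstance, (key q hq P honly).1 hp⟩, rfl⟩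
    · rintro ⟨q, hq, honly, P, ⟨hqP, hP⟩, rfl⟩
      haveI := hqP
      exact (key q hq P honly).2 hP
  rw [hset]
  have hclosed : ∀ q : Ideal R, Topology.IsConstructible (PrimeSpectrum.zeroLocus (q : Set R)) := fun q => by
    rw [← compl_compl (PrimeSpectrum.zeroLocus (q : Set R))]
    exact (IsRetrocompact.isConstructible (PrimeSpectrum.isClosed_zeroLocus _).isOpen_compl
      (fun s _ _ => NoetherianSpace.isCompact _)).compl
  refine Topology.IsConstructible.biUnion (Finset.finite_toSet _) fun q hq => ?_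
  have hq' := hfinmin.mem_toFinset.1 hq
  haveI := hq'.1.1
  refine ((hclosed q).sdiff (Topology.IsConstructible.biUnion (Finset.finite_toSet _) fun q' _ => hclosed q')).inter ?_
  refine Topology.IsConstructible.image_of_isClosedEmbedding
    (PrimeSpectrum.isClosedEmbedding_comap_of_surjective _ _ Ideal.Quotient.mk_surjective)
    (fun s _ _ => NoetherianSpace.isCompact _) ?_
  have hD := isConstructible_domain (R ⧸ q) (finite_normalization_component hfin q hq')
  convert hD using 1
  ext P
  exact ⟨fun ⟨_, h⟩ => h, fun h => ⟨inferInstance, h⟩⟩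

end Groth.GeomUnibranchLocus
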