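import Groth.Agent.SpectralTopology.SpreadQuasiAffine
import Groth.Agent.EtaleBase.FpqcDescent
import Mathlib.AlgebraicGeometry.Morphisms.FlatDescent

set_option autoImplicit false
set_option backward.isDefEq.respectTransparency false

/-!
Quasi-affine morphisms descend along faithfully flat quasi-compact morphisms (EGA IV 2.7.1 (xiv)).
-/

open AlgebraicGeometry CategoryTheory CategoryTheory.Limits MorphismProperty

namespace Groth.SpectralTopology

universe u

open Groth.EtaleBase (Fpqc)

/-- A scheme over an affine scheme is quasi-affine if its base change to a faithfully flat affine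
scheme is. -/
theorem isQuasiAffine_of_baseChange {X V W : Scheme.{u}} [IsAffine V] [IsAffine W] (w : W ⟶ V)
    (g : X ⟶ V) (hw : Fpqc w) [h : (pullback w g).IsQuasiAffine] : X.IsQuasiAffine := by
  have : Flat w := hw.1.2
  have : QuasiSeparatedSpace ↥(pullback w g) := inferInstance
  have hqs' : QuasiSeparated (pullback.fst w g) := quasiSeparated_of_quasiSeparatedSpace _
  have hqc' : QuasiCompact (pullback.fst w g) := quasiCompact_of_compactSpace _
  have hqc : QuasiCompact g := MorphismProperty.of_pullback_fst_of_descendsAlong (Q := Fpqc) hw hqc'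
  have hqs : QuasiSeparated g :=
    MorphismProperty.of_pullback_fst_of_descendsAlong (Q := Fpqc) hw hqs'
  have : CompactSpace X := QuasiCompact.compactSpace_of_compactSpace g
  have : QuasiSeparatedSpace X := quasiSeparatedSpace_of_quasiSeparated g
  have H : IsPullback (pullback.snd w g) (pullback.fst w g) g w :=
    (IsPullback.of_hasPullback _ _).flip
  have hiso := AlgebraicGeometry.isIso_pushoutSection_of_isQuasiSeparated_of_flat_right H
    (US := ⊤) (UT := ⊤) (UX := ⊤) (UY := ⊤) le_top le_top (by simp)
    (isAffineOpen_top _) (isAffineOpen_top _) CompactSpace.isCompact_univ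
    (IsQuasiSeparated.of_quasiSeparatedSpace _)
  have hpush : IsPushout g.appTop w.appTop (pullback.snd w g).appTop (pullback.fst w g).appTop := by
    have := (isIso_pushoutSection_iff H (US := ⊤) (UT := ⊤) (UX := ⊤) (UY := ⊤) le_top le_top
      (by simp)).1 hiso
    simpa [Scheme.Hom.appLE_eq_app, Scheme.Hom.appTop, Scheme.Hom.appLE] using this
  have hR : IsPullback (Spec.map (pullback.snd w g).appTop) (Spec.map (pullback.fst w g).appTop)
      (Spec.map g.appTop) (Spec.map w.appTop) :=
    isPullback_SpecMap_of_isPushout _ _ _ _ hpush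
  have houter : IsPullback (pullback.snd w g)
      ((pullback w g).toSpecΓ ≫ Spec.map (pullback.fst w g).appTop)
      (X.toSpecΓ ≫ Spec.map g.appTop) (Spec.map w.appTop) := by
    rw [← Scheme.toSpecΓ_naturality, ← Scheme.toSpecΓ_naturality]
    exact H.of_iso (Iso.refl _) (Iso.refl _) (asIso W.toSpecΓ) (asIso V.toSpecΓ)
      (by simp) (by simp) (by simp) (Scheme.toSpecΓ_naturality w)
  have hleft : IsPullback (pullback.snd w g) (pullback w g).toSpecΓ X.toSpecΓ
      (Spec.map (pullback.snd w g).appTop) :=
    IsPullback.of_bot houter (Scheme.toSpecΓ_naturality (pullback.snd w g)) hR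
  have hP0 : Fpqc (Spec.map w.appTop) :=
    (Fpqc.arrow_mk_iso_iff (arrowIsoSpecΓOfIsAffine w)).1 hw
  have hP' : Fpqc (Spec.map (pullback.snd w g).appTop) := Fpqc.of_isPullback hR.flip hP0
  have : IsOpenImmersion X.toSpecΓ :=
    MorphismProperty.of_isPullback_of_descendsAlong (P := @IsOpenImmersion) (Q := Fpqc)
      hleft.flip hP' (inferInstanceAs (IsOpenImmersion (pullback w g).toSpecΓ))
  constructor

instance descendsAlong_quasiAffineHom :
    MorphismProperty.DescendsAlong quasiAffineHom.{u} Fpqc.{u} := by
  refine ⟨fun {A X Y Z fst snd f g} h hf hfst ↦ ?_⟩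
  -- `f : X ⟶ Z` is the base change, `g : Y ⟶ Z` the morphism to descend
  have hqc' : QuasiCompact fst := hfst.1
  have hqc : QuasiCompact g :=
    MorphismProperty.of_isPullback_of_descendsAlong (P := @QuasiCompact) (Q := Fpqc) h hf hqc'
  refine ⟨hqc, fun V hV ↦ ?_⟩
  have : IsAffine (V : Scheme.{u}) := hV
  have : QuasiCompact f := hf.2
  let U := f ⁻¹ᵁ V
  have : CompactSpace (U : Scheme.{u}) :=
    isCompact_iff_compactSpace.1 (f.isCompact_preimage hV.isCompact)
  let cov := (U : Scheme.{u}).affineCover.finiteSubcover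
  have (k : cov.I₀) : IsAffine (cov.X k) := by
    rw [(U : Scheme.{u}).affineCover.finiteSubcover_X]; infer_instance
  let p : (∐ cov.X) ⟶ (U : Scheme.{u}) := Sigma.desc cov.f
  have hpS : Surjective p := ⟨fun x ↦ by
    obtain ⟨k, z, hz⟩ := cov.exists_eq x
    refine ⟨Sigma.ι cov.X k z, ?_⟩
    rw [← Scheme.Hom.comp_apply, Sigma.ι_desc, hz]⟩
  have hpF : Flat p := IsZariskiLocalAtSource.sigmaDesc (P := @Flat) fun k ↦ inferInstance
  let q : (∐ cov.X) ⟶ X := p ≫ U.ι
  let w : (∐ cov.X) ⟶ (V : Scheme.{u}) := p ≫ (f ∣_ V)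
  have hfl : Flat f := hf.1.2
  have hfs : Surjective f := hf.1.1
  have : Surjective (f ∣_ V) := IsZariskiLocalAtTarget.restrict hfs V
  have hw : Fpqc w := ⟨⟨inferInstance, inferInstance⟩, quasiCompact_of_compactSpace w⟩
  -- the base change to the affine cover
  have hq : quasiAffineHom (pullback.snd fst q) :=
    quasiAffineHom.of_isPullback (IsPullback.of_hasPullback fst q) hfst
  have hqa : (pullback fst q).IsQuasiAffine := by
    have := hq.2 ⊤ (isAffineOpen_top _)
    rw [Scheme.Hom.preimage_top] at this
    exact .of_isAffineHom (pullback fst q).topIso.inv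
  have s₁ : IsPullback (pullback.snd fst q) (pullback.fst fst q ≫ snd) (q ≫ f) g :=
    (IsPullback.of_hasPullback fst q).flip.paste_vert h
  have hqf : q ≫ f = w ≫ V.ι := by simp [q, w, U]
  rw [hqf] at s₁
  let e : pullback w (g ∣_ V) ≅ pullback fst q :=
    IsPullback.isoIsPullback _ _
      ((IsPullback.of_hasPullback w (g ∣_ V)).flip.paste_horiz (isPullback_morphismRestrict g V).flip)
      s₁.flip
  have : (pullback w (g ∣_ V)).IsQuasiAffine := .of_isAffineHom e.hom
  exact isQuasiAffine_of_baseChange w (g ∣_ V) hw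

end Groth.SpectralTopology
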