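import Mathlib.Topology.Spectral.Basic
import Mathlib.Topology.Spectral.Hom
import Mathlib.Topology.Spectral.ConstructibleTopology
import Mathlib.Topology.Constructible
import Mathlib.Topology.Connected.Separation

set_option autoImplicit false

/-!
Basic theory of the constructible topology on a spectral space.
-/

open Topology TopologicalSpace Set

namespace Groth.SpectralTopology

variable {X Y : Type*} [TopologicalSpace X] [TopologicalSpace Y]

theorem isOpen_ct {U : Set X} (hU : IsOpen U) (hc : IsCompact U) :
    IsOpen[constructibleTopology X] U :=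
  hc.isOpen_constructibleTopology_of_isOpen hU

theorem isClosed_ct {U : Set X} (hU : IsOpen U) (hc : IsCompact U) :
    IsClosed[constructibleTopology X] U := by
  rw [← @isOpen_compl_iff X U (constructibleTopology X)]
  exact IsCompact.isOpen_constructibleTopology_of_isClosed (by rwa [compl_compl]) hU.isClosed_compl

theorem constructibleTopology_le [hX : PrespectralSpace X] :
    constructibleTopology X ≤ ‹TopologicalSpace X› := by
  refine le_of_le_of_eq ?_ hX.isTopologicalBasis.eq_generateFrom.symm
  exact le_generateFrom fun U hU ↦ isOpen_ct hU.1 hU.2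

theorem isClosed_ct_of_isClosed [PrespectralSpace X] {C : Set X} (hC : IsClosed C) :
    IsClosed[constructibleTopology X] C := by
  rw [← @isOpen_compl_iff X C (constructibleTopology X)]
  exact constructibleTopology_le _ hC.isOpen_compl

theorem compactSpace_ct [CompactSpace X] [QuasiSober X] [PrespectralSpace X]
    [QuasiSeparatedSpace X] : @CompactSpace X (constructibleTopology X) := by
  have h : CompactSpace (WithConstructibleTopology X) := inferInstance
  refine @CompactSpace.mk X (constructibleTopology X) ?_
  have := @IsCompact.image (WithConstructibleTopology X) X _ (constructibleTopology X) univ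
    WithTopology.ofTopology isCompact_univ (WithTopology.continuous_ofTopology _)
  rwa [image_univ, (WithTopology.ofTopology_surjective (constructibleTopology X)).range_eq] at this

theorem totallySeparatedSpace_ct [T0Space X] [PrespectralSpace X] :
    @TotallySeparatedSpace X (constructibleTopology X) := by
  rw [@totallySeparatedSpace_iff_exists_isClopen X (constructibleTopology X)]
  intro x y hxy
  obtain ⟨U, hU, hU'⟩ := exists_isOpen_xor_mem hxy
  rcases hU' with ⟨hxU, hyU⟩ | ⟨hyU, hxU⟩
  · obtain ⟨V, ⟨hVo, hVc⟩, hxV, hVU⟩ :=
      PrespectralSpace.isTopologicalBasis.exists_subset_of_mem_open hxU hU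
    exact ⟨V, ⟨isClosed_ct hVo hVc, isOpen_ct hVo hVc⟩, hxV, fun h ↦ hyU (hVU h)⟩
  · obtain ⟨V, ⟨hVo, hVc⟩, hyV, hVU⟩ :=
      PrespectralSpace.isTopologicalBasis.exists_subset_of_mem_open hyU hU
    refine ⟨Vᶜ, ⟨?_, ?_⟩, fun h ↦ hxU (hVU h), fun h ↦ h hyV⟩
    · exact (@isClosed_compl_iff X (constructibleTopology X) _).2 (isOpen_ct hVo hVc)
    · exact (@isOpen_compl_iff X _ (constructibleTopology X)).2 (isClosed_ct hVo hVc)

theorem t2Space_ct [T0Space X] [PrespectralSpace X] : @T2Space X (constructibleTopology X) := by
  have h := totallySeparatedSpace_ct (X := X)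
  let := constructibleTopology X
  exact inferInstance

theorem isCompact_of_isCompact_ct [PrespectralSpace X] {E : Set X}
    (hE : @IsCompact X (constructibleTopology X) E) : IsCompact E := by
  have hc : @Continuous X X (constructibleTopology X) _ (id : X → X) :=
    continuous_id_iff_le.2 constructibleTopology_le
  simpa using @IsCompact.image X X (constructibleTopology X) _ E id hE hc

theorem isCompact_ct_of_isClosed_ct [SpectralSpace X] {E : Set X}
    (hE : IsClosed[constructibleTopology X] E) : @IsCompact X (constructibleTopology X) E :=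
  @IsClosed.isCompact X (constructibleTopology X) _ compactSpace_ct hE

theorem isCompact_of_isClosed_ct [SpectralSpace X] {E : Set X}
    (hE : IsClosed[constructibleTopology X] E) : IsCompact E :=
  isCompact_of_isCompact_ct (isCompact_ct_of_isClosed_ct hE)

theorem continuous_ct {f : X → Y} (hf : IsSpectralMap f) :
    Continuous[constructibleTopology X, constructibleTopology Y] f := by
  refine continuous_generateFrom_iff.2 ?_
  rintro s (⟨ho, hc⟩ | ⟨hc, hcc⟩)
  · exact isOpen_ct (ho.preimage hf.continuous) (hf.isCompact_preimage_of_isOpen ho hc)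
  · refine IsCompact.isOpen_constructibleTopology_of_isClosed ?_ (hc.preimage hf.continuous)
    exact hf.isCompact_preimage_of_isOpen hc.isOpen_compl hcc

theorem isSpectralMap_of_continuous_ct [SpectralSpace X] {f : X → Y} (hf : Continuous f)
    (h : Continuous[constructibleTopology X, constructibleTopology Y] f) : IsSpectralMap f :=
  ⟨hf, fun _ ho hc ↦ isCompact_of_isClosed_ct
    (@IsClosed.preimage X Y (constructibleTopology X) (constructibleTopology Y) f h _
      (isClosed_ct ho hc))⟩

theorem isClopen_ct_of_isConstructible [CompactSpace X] {E : Set X} (hE : IsConstructible E) :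
    @IsClopen X (constructibleTopology X) E := by
  induction hE using IsConstructible.empty_union_induction with
  | open_retrocompact U ho hr =>
    have hc : IsCompact U := by simpa using hr isCompact_univ isOpen_univ
    exact ⟨isClosed_ct ho hc, isOpen_ct ho hc⟩
  | union s _ t _ hs ht => exact @IsClopen.union X (constructibleTopology X) _ _ hs ht
  | compl s _ hs => exact @IsClopen.compl X (constructibleTopology X) _ hs

/-- Compactness in the constructible topology, for constructibly closed families. -/
theorem nonempty_iInter_ct [SpectralSpace X] {ι : Type*} (C : ι → Set X)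
    (hC : ∀ i, IsClosed[constructibleTopology X] (C i))
    (h : ∀ u : Finset ι, (⋂ i ∈ u, C i).Nonempty) : (⋂ i, C i).Nonempty := by
  have h0 : @IsCompact X (constructibleTopology X) univ :=
    @isCompact_univ X (constructibleTopology X) compactSpace_ct
  have := @IsCompact.inter_iInter_nonempty X (constructibleTopology X) univ ι h0 C hC
    (fun u ↦ by simpa using h u)
  simpa using this

/-- Points in the closure of a constructibly closed set are specializations of points of it. -/
theorem exists_specializes_of_mem_closure [SpectralSpace X] {E : Set X}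
    (hE : IsClosed[constructibleTopology X] E) {x : X} (hx : x ∈ closure E) :
    ∃ e ∈ E, e ⤳ x := by
  classical
  let ι := {U : Set X // IsOpen U ∧ IsCompact U ∧ x ∈ U}
  obtain ⟨e, he⟩ := nonempty_iInter_ct (ι := Option ι) (fun i ↦ i.elim E Subtype.val)
    (fun i ↦ by
      cases i with
      | none => exact hE
      | some U => exact isClosed_ct U.2.1 U.2.2.1) (fun u ↦ by
    have hopen : IsOpen (⋂ U ∈ u.eraseNone, (U : ι).1) :=
      isOpen_biInter_finset fun U _ ↦ U.2.1
    obtain ⟨e, he, heE⟩ := mem_closure_iff.1 hx _ hopen (mem_iInter₂.2 fun U _ ↦ U.2.2.2)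
    refine ⟨e, mem_iInter₂.2 fun i hi ↦ ?_⟩
    cases i with
    | none => exact heE
    | some U => exact mem_iInter₂.1 he U (Finset.mem_eraseNone.2 hi))
  simp only [mem_iInter] at he
  refine ⟨e, he none, specializes_iff_forall_open.2 fun V hV hxV ↦ ?_⟩
  obtain ⟨U, ⟨hUo, hUc⟩, hxU, hUV⟩ :=
    PrespectralSpace.isTopologicalBasis.exists_subset_of_mem_open hxV hV
  exact hUV (he (some ⟨U, hUo, hUc, hxU⟩))

theorem isClosed_of_isClosed_ct [SpectralSpace X] {E : Set X}
    (hE : IsClosed[constructibleTopology X] E) (hs : StableUnderSpecialization E) : IsClosed E :=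
  isClosed_of_closure_subset fun _ hx ↦
    let ⟨_, he, hspec⟩ := exists_specializes_of_mem_closure hE hx
    hs hspec he

theorem isOpen_of_isOpen_ct [SpectralSpace X] {E : Set X}
    (hE : IsOpen[constructibleTopology X] E) (hg : StableUnderGeneralization E) : IsOpen E :=
  isClosed_compl_iff.1 (isClosed_of_isClosed_ct
    ((@isClosed_compl_iff X (constructibleTopology X) _).2 hE) hg.compl)

/-- A constructibly closed subspace of a spectral space is spectral. -/
theorem spectralSpace_of_isClosed_ct [SpectralSpace X] {E : Set X}
    (hE : IsClosed[constructibleTopology X] E) : SpectralSpace E := by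
  have hEc : ∀ U : Set X, IsOpen U → IsCompact U → IsCompact (Subtype.val ⁻¹' U : Set E) :=
    fun U ho hc ↦ by
      rw [Subtype.isCompact_iff, Subtype.image_preimage_coe]
      exact isCompact_of_isClosed_ct
        (@IsClosed.inter X _ _ (constructibleTopology X) hE (isClosed_ct ho hc))
  have : CompactSpace E := isCompact_iff_compactSpace.1 (isCompact_of_isClosed_ct hE)
  have : PrespectralSpace E :=
    .of_isInducing Subtype.val IsInducing.subtypeVal ⟨continuous_subtype_val, hEc⟩
  have hqs : QuasiSeparatedSpace E := by
    constructor
    intro U V hUo hUc hVo hVc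
    have key : ∀ U : Set E, IsOpen U → IsCompact U →
        ∃ K : Set X, IsOpen K ∧ IsCompact K ∧ Subtype.val ⁻¹' K = U := by
      intro U ho hc
      obtain ⟨W, hW, rfl⟩ := isOpen_induced_iff.1 ho
      obtain ⟨K, hKc, hKo, h1, h2⟩ := PrespectralSpace.exists_isCompact_and_isOpen_between
        (hc.image continuous_subtype_val) hW (image_preimage_subset _ _)
      exact ⟨K, hKo, hKc, Subset.antisymm (preimage_mono h2) (image_subset_iff.1 h1)⟩
    obtain ⟨K, hKo, hKc, rfl⟩ := key U hUo hUc
    obtain ⟨L, hLo, hLc, rfl⟩ := key V hVo hVc
    rw [← preimage_inter]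
    exact hEc _ (hKo.inter hLo)
      (QuasiSeparatedSpace.inter_isCompact _ _ hKo hKc hLo hLc)
  have : QuasiSober E := by
    constructor
    intro Z hZ hZc
    have hirr : IsIrreducible (Subtype.val '' Z) := hZ.image _ continuous_subtype_val.continuousOn
    obtain ⟨C, hC, rfl⟩ := isClosed_induced_iff.1 hZc
    have hξ := hirr.closure.isGenericPoint_genericPoint isClosed_closure
    set ξ := hirr.closure.genericPoint
    have hcl : IsClosed[constructibleTopology X]
        (Subtype.val '' (Subtype.val ⁻¹' C : Set E)) := by
      rw [Subtype.image_preimage_coe]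
      exact @IsClosed.inter X _ _ (constructibleTopology X) hE (isClosed_ct_of_isClosed hC)
    obtain ⟨_, ⟨e, he, rfl⟩, hes⟩ := exists_specializes_of_mem_closure hcl hξ.mem
    have heq : (e : X) = ξ :=
      (hes.antisymm (hξ.specializes (subset_closure ⟨e, he, rfl⟩))).eq
    refine ⟨e, ?_⟩
    rw [IsGenericPoint, IsInducing.subtypeVal.closure_eq_preimage_closure_image,
      image_singleton, heq, hξ.def]
    refine Subset.antisymm (fun z hz ↦ ?_) (fun z hz ↦ subset_closure ⟨z, hz, rfl⟩)
    exact closure_minimal (image_preimage_subset _ _) hC hz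
  constructor

end Groth.SpectralTopology
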