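import Mathlib.AlgebraicGeometry.Morphisms.UniversallyInjective
import Mathlib.AlgebraicGeometry.Morphisms.Preimmersion
import Mathlib.AlgebraicGeometry.Fiber
import Mathlib.AlgebraicGeometry.Morphisms.UniversallyOpen
import Groth.Prelude.Def_EGA4Misc

set_option autoImplicit false

/-!
Morphisms radicial at a point, and their residue field extensions.
-/

open AlgebraicGeometry CategoryTheory CategoryTheory.Limits Function

namespace Groth.SpectralTopology

universe u

section Fields

variable {F E K : Type u} [Field F] [Field E] [Field K] {f : F →+* E} {g : E →+* K}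

theorem purelyInseparable_of_comp (h : (g.comp f).IsPurelyInseparable) :
    f.IsPurelyInseparable ∧ g.IsPurelyInseparable := by
  algebraize [f, g, g.comp f]
  have : IsPurelyInseparable F K := h
  exact ⟨IsPurelyInseparable.tower_bot F E K, IsPurelyInseparable.tower_top F E K⟩

theorem purelyInseparable_of_bijective (hf : Bijective f) : f.IsPurelyInseparable := by
  let e := RingEquiv.ofBijective f hf
  have h : ((e.symm : E →+* F).comp f) = RingHom.id F := RingHom.ext e.symm_apply_apply
  exact (purelyInseparable_of_comp (f := f) (g := (e.symm : E →+* F))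
    (h ▸ RingHom.IsPurelyInseparable.id F)).1

theorem purelyInseparable_comp_iff :
    (g.comp f).IsPurelyInseparable ↔ f.IsPurelyInseparable ∧ g.IsPurelyInseparable :=
  ⟨purelyInseparable_of_comp, fun h ↦ h.1.comp h.2⟩

end Fields

variable {X Y Z : Scheme.{u}}

theorem bijective_residueFieldMap (f : X ⟶ Y) [IsPreimmersion f] (x : X) :
    Bijective (f.residueFieldMap x).hom := by
  refine ⟨RingHom.injective _, fun a ↦ ?_⟩
  obtain ⟨b, rfl⟩ := Scheme.residue_surjective X x a
  obtain ⟨c, rfl⟩ := f.stalkMap_surjective x b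
  exact ⟨Y.residue (f x) c, (ConcreteCategory.congr_hom (Scheme.residue_residueFieldMap f x) c)⟩

theorem hom_comp (f : X ⟶ Y) (g : Y ⟶ Z) (x : X) :
    ((f ≫ g).residueFieldMap x).hom =
      (f.residueFieldMap x).hom.comp (g.residueFieldMap (f x)).hom := by
  rw [Scheme.residueFieldMap_comp]; rfl

theorem congr_prop {P : ∀ {F E : Type u} [Field F] [Field E], (F →+* E) → Prop}
    {f g : X ⟶ Y} (e : f = g) (x : X) :
    P (f.residueFieldMap x).hom ↔ P (g.residueFieldMap x).hom := by
  subst e; exact Iff.rfl

theorem pi_comp (f : X ⟶ Y) (g : Y ⟶ Z) (x : X) :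
    ((f ≫ g).residueFieldMap x).hom.IsPurelyInseparable ↔
      (g.residueFieldMap (f x)).hom.IsPurelyInseparable ∧
        (f.residueFieldMap x).hom.IsPurelyInseparable := by
  rw [Scheme.residueFieldMap_comp]
  exact purelyInseparable_comp_iff (f := (g.residueFieldMap (f x)).hom)
    (g := (f.residueFieldMap x).hom)

theorem residueField_pi_fiberι (f : X ⟶ Y) (y : Y) (z : f.fiber y) :
    (f.residueFieldMap (f.fiberι y z)).hom.IsPurelyInseparable ↔
      ((f.fiberToSpecResidueField y).residueFieldMap z).hom.IsPurelyInseparable := by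
  have hb1 := bijective_residueFieldMap (f.fiberι y) z
  have hb2 := bijective_residueFieldMap (Y.fromSpecResidueField y) (f.fiberToSpecResidueField y z)
  have h := congr_prop (P := fun φ ↦ φ.IsPurelyInseparable) (f.fiber_fac y) z
  have h' := ((pi_comp (f.fiberι y) f z).symm.trans h).trans (pi_comp _ _ z)
  exact ⟨fun hf ↦ (h'.1 ⟨hf, purelyInseparable_of_bijective hb1⟩).2,
    fun hq ↦ (h'.2 ⟨purelyInseparable_of_bijective hb2, hq⟩).1⟩

theorem isRadicialAt_iff_universallyInjective (f : X ⟶ Y) (y : Y) :
    RadPt.IsRadicialAt f y ↔ UniversallyInjective (f.fiberToSpecResidueField y) := by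
  rw [(tfae_universallyInjective (f.fiberToSpecResidueField y)).out 0 2 rfl rfl]
  have hmem : ∀ z : f.fiber y, f (f.fiberι y z) = y := fun z ↦ by
    have : f.fiberι y z ∈ Set.range (f.fiberι y) := ⟨z, rfl⟩
    rw [f.range_fiberι y] at this
    exact this
  have hinj : Injective (f.fiberι y) := (f.fiberι y).isEmbedding.injective
  constructor
  · rintro ⟨h1, h2⟩
    exact ⟨fun a b _ ↦ hinj (h1 _ _ (hmem a) (hmem b)),
      fun z ↦ (residueField_pi_fiberι f y z).1 (h2 _ (hmem z))⟩
  · rintro ⟨h1, h2⟩
    have hex : ∀ x, f x = y → ∃ z, f.fiberι y z = x := fun x hx ↦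
      (f.range_fiberι y).ge (show x ∈ f ⁻¹' {y} from hx)
    refine ⟨fun x x' hx hx' ↦ ?_, fun x hx ↦ ?_⟩
    · obtain ⟨z, rfl⟩ := hex x hx
      obtain ⟨z', rfl⟩ := hex x' hx'
      rw [h1 (Subsingleton.elim (α := PrimeSpectrum _) _ _ : f.fiberToSpecResidueField y z =
        f.fiberToSpecResidueField y z')]
    · obtain ⟨z, rfl⟩ := hex x hx
      exact (residueField_pi_fiberι f y z).2 (h2 z)

theorem universallyInjective_descend {X' Y' : Scheme.{u}} {f : X ⟶ Y} {h : Y' ⟶ Y} {f' : X' ⟶ Y'}
    {h' : X' ⟶ X} (sq : IsPullback h' f' f h) [AlgebraicGeometry.Surjective h] [UniversallyInjective f'] :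
    UniversallyInjective f := by
  have hd : AlgebraicGeometry.Surjective (pullback.diagonal f') := by
    rw [← UniversallyInjective.iff_diagonal]; infer_instance
  rw [UniversallyInjective.iff_diagonal]
  refine ⟨fun t ↦ ?_⟩
  obtain ⟨z', hz'⟩ := h.surjective ((pullback.fst f f ≫ f) t)
  have e1 : f (pullback.fst f f t) = h z' := hz'.symm
  have e2 : f (pullback.snd f f t) = h z' := by
    rw [hz', pullback.condition, Scheme.Hom.comp_apply]
  obtain ⟨a, ha, ha'⟩ := Scheme.Pullback.exists_preimage_pullback (f := pullback.fst f f ≫ f)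
    (g := h) t z' hz'.symm
  let a1 : pullback (pullback.fst f f ≫ f) h ⟶ X' :=
    sq.lift (pullback.fst _ _ ≫ pullback.fst f f) (pullback.snd _ _)
      ((Category.assoc _ _ _).trans pullback.condition)
  let a2 : pullback (pullback.fst f f ≫ f) h ⟶ X' :=
    sq.lift (pullback.fst _ _ ≫ pullback.snd f f) (pullback.snd _ _)
      ((Category.assoc _ _ _).trans
        ((whisker_eq _ pullback.condition.symm).trans pullback.condition))
  let q : pullback (pullback.fst f f ≫ f) h ⟶ pullback f' f' :=
    pullback.lift a1 a2 (by simp [a1, a2])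
  obtain ⟨x', hx'⟩ := hd.surj (q a)
  refine ⟨h' x', ?_⟩
  have key : q ≫ pullback.map f' f' f f h' h' h sq.w.symm sq.w.symm = pullback.fst _ _ := by
    apply pullback.hom_ext
    · rw [Category.assoc, pullback.lift_fst, ← Category.assoc, pullback.lift_fst, sq.lift_fst]
    · rw [Category.assoc, pullback.lift_snd, ← Category.assoc, pullback.lift_snd, sq.lift_fst]
  have := congrArg (fun φ : _ ⟶ pullback f f ↦ φ a) key
  simp only [Scheme.Hom.comp_apply, ha] at this
  rw [← hx'] at this
  have e : h' ≫ pullback.diagonal f =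
      pullback.diagonal f' ≫ pullback.map f' f' f f h' h' h sq.w.symm sq.w.symm := by
    apply pullback.hom_ext
    · rw [Category.assoc, Category.assoc, pullback.lift_fst, pullback.diagonal_fst, Category.comp_id,
        ← Category.assoc, pullback.diagonal_fst, Category.id_comp]
    · rw [Category.assoc, Category.assoc, pullback.lift_snd, pullback.diagonal_snd, Category.comp_id,
        ← Category.assoc, pullback.diagonal_snd, Category.id_comp]
  rw [← this, ← Scheme.Hom.comp_apply, ← Scheme.Hom.comp_apply, e]

/-- A morphism onto a point radicial with trivial residue extension admits a section there. -/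
theorem exists_section_of_bijective (f : X ⟶ Y) {x : X}
    (h : Bijective (f.residueFieldMap x).hom) :
    ∃ s : Spec (Y.residueField (f x)) ⟶ X, s ≫ f = Y.fromSpecResidueField (f x) := by
  have : IsIso (f.residueFieldMap x) := (ConcreteCategory.isIso_iff_bijective _).2 h
  refine ⟨Spec.map (inv (f.residueFieldMap x)) ≫ X.fromSpecResidueField x, ?_⟩
  rw [Category.assoc, ← Scheme.Hom.SpecMap_residueFieldMap_fromSpecResidueField, ← Category.assoc,
    ← Spec.map_comp, IsIso.hom_inv_id, Spec.map_id, Category.id_comp]

end Groth.SpectralTopology
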