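import Groth.Agent.SpectralTopology.Constructible
import Groth.Agent.SpectralTopology.Radicial
import Groth.Agent.PropsBasic2.Reduced
import Groth.Prelude.Def_EGA4Misc
import Groth.Prelude.Def_W4ega4s0809p4Pair
import Groth.Prelude.Def_ProCons
import Mathlib.AlgebraicGeometry.Noetherian
import Mathlib.AlgebraicGeometry.Morphisms.FinitePresentation

set_option autoImplicit false

/-!
EGA IV 9.2-9.3, Noetherian part: the locus of a (ind-)constructible property of algebraic schemes is
(ind-)constructible over a Noetherian base; loci commute with base change.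
-/

open AlgebraicGeometry CategoryTheory CategoryTheory.Limits Topology TopologicalSpace

namespace Groth.SpectralTopology

universe u

section Point

variable {T T' : Scheme.{u}} [IsIntegral T] [Subsingleton T] [IsIntegral T'] [Subsingleton T']

omit [IsIntegral T] [Subsingleton T'] in
theorem surjective_of_point (h : T' ⟶ T) : Surjective h := by
  obtain ⟨t⟩ := (inferInstance : Nonempty T')
  exact ⟨fun x ↦ ⟨t, Subsingleton.elim _ _⟩⟩

instance subsingleton_spec_residueField (S : Scheme.{u}) (s : S) :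
    Subsingleton (Spec (S.residueField s)) :=
  inferInstanceAs (Subsingleton (PrimeSpectrum (S.residueField s)))

end Point

variable {X Y S X' Y' S' : Scheme.{u}}

instance lft_fiberToSpecResidueField (u : X ⟶ S) [LocallyOfFiniteType u] (s : S) :
    LocallyOfFiniteType (u.fiberToSpecResidueField s) :=
  MorphismProperty.pullback_snd _ _ inferInstance

instance qc_fiberToSpecResidueField (u : X ⟶ S) [QuasiCompact u] (s : S) :
    QuasiCompact (u.fiberToSpecResidueField s) :=
  MorphismProperty.pullback_snd _ _ inferInstance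

theorem isPullback_fiber (u : X ⟶ S) (s : S) :
    IsPullback (u.fiberι s) (u.fiberToSpecResidueField s) u (S.fromSpecResidueField s) :=
  IsPullback.of_hasPullback _ _

theorem fiberMap_fiberι (f : X ⟶ Y) (g : Y ⟶ S) (s : S) :
    MoreMor.fiberMap f g s ≫ g.fiberι s = (f ≫ g).fiberι s ≫ f :=
  pullback.lift_fst _ _ _

theorem fiberMap_toSpec (f : X ⟶ Y) (g : Y ⟶ S) (s : S) :
    MoreMor.fiberMap f g s ≫ g.fiberToSpecResidueField s = (f ≫ g).fiberToSpecResidueField s :=
  pullback.lift_snd _ _ _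

/-- The morphism of fibres is the base change of `f` along the inclusion of the fibre. -/
theorem isPullback_fiberMap (f : X ⟶ Y) (g : Y ⟶ S) (s : S) :
    IsPullback ((f ≫ g).fiberι s) (MoreMor.fiberMap f g s) f (g.fiberι s) := by
  refine IsPullback.of_bot ?_ (fiberMap_fiberι f g s).symm (isPullback_fiber g s)
  rw [fiberMap_toSpec]
  exact isPullback_fiber (f ≫ g) s

instance lft_fiberMap_comp (f : X ⟶ Y) (g : Y ⟶ S) [LocallyOfFiniteType (f ≫ g)] (s : S) :
    LocallyOfFiniteType (MoreMor.fiberMap f g s ≫ g.fiberToSpecResidueField s) := by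
  rw [fiberMap_toSpec]; infer_instance

instance qc_fiberMap_comp (f : X ⟶ Y) (g : Y ⟶ S) [QuasiCompact (f ≫ g)] (s : S) :
    QuasiCompact (MoreMor.fiberMap f g s ≫ g.fiberToSpecResidueField s) := by
  rw [fiberMap_toSpec]; infer_instance

section BaseChange

/-- The map of fibres attached to a cartesian square. -/
noncomputable def fiberBC {u : X ⟶ S} {u' : X' ⟶ S'} {h : S' ⟶ S} {q : X' ⟶ X}
    (sq : IsPullback q u' u h) (s' : S') : u'.fiber s' ⟶ u.fiber (h s') :=
  pullback.map _ _ _ _ q (Spec.map (h.residueFieldMap s')) h sq.w.symm (by simp)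

theorem isPullback_fiberBC {u : X ⟶ S} {u' : X' ⟶ S'} {h : S' ⟶ S} {q : X' ⟶ X}
    (sq : IsPullback q u' u h) (s' : S') :
    IsPullback (fiberBC sq s') (u'.fiberToSpecResidueField s') (u.fiberToSpecResidueField (h s'))
      (Spec.map (h.residueFieldMap s')) :=
  isPullback_fiberToSpecResidueField_of_isPullback sq s'

theorem fiberBC_ι {u : X ⟶ S} {u' : X' ⟶ S'} {h : S' ⟶ S} {q : X' ⟶ X}
    (sq : IsPullback q u' u h) (s' : S') :
    fiberBC sq s' ≫ u.fiberι (h s') = u'.fiberι s' ≫ q :=
  pullback.lift_fst _ _ _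

theorem locus_preimage {P : ∀ ⦃Y T : Scheme.{u}⦄, (Y ⟶ T) → Prop} (hP : ConsProp.IsFieldStable P)
    {u : X ⟶ S} {u' : X' ⟶ S'} {h : S' ⟶ S} {h' : X' ⟶ X}
    [LocallyOfFiniteType u] [QuasiCompact u] (sq : IsPullback h' u' u h) :
    ConsProp.locus P u' = h ⁻¹' ConsProp.locus P u := by
  ext s'
  exact (hP (u.fiberToSpecResidueField (h s')) (u'.fiberToSpecResidueField s') (fiberBC sq s') _
    (isPullback_fiberBC sq s')).symm

theorem locusPair_preimage {P : ∀ ⦃X Y T : Scheme.{u}⦄, (X ⟶ T) → (Y ⟶ T) → Prop}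
    (hP : ConsPropPair.IsFieldStablePair P) {u : X ⟶ S} {v : Y ⟶ S} {u' : X' ⟶ S'} {v' : Y' ⟶ S'}
    {h : S' ⟶ S} {qX : X' ⟶ X} {qY : Y' ⟶ Y}
    [LocallyOfFiniteType u] [QuasiCompact u] [LocallyOfFiniteType v] [QuasiCompact v]
    (hX : IsPullback qX u' u h) (hY : IsPullback qY v' v h) :
    ConsPropPair.locusPair P u' v' = h ⁻¹' ConsPropPair.locusPair P u v := by
  ext s'
  exact (hP (u.fiberToSpecResidueField (h s')) (v.fiberToSpecResidueField (h s'))
    (u'.fiberToSpecResidueField s') (v'.fiberToSpecResidueField s') (fiberBC hX s') (fiberBC hY s') _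
    (isPullback_fiberBC hX s') (isPullback_fiberBC hY s')).symm

theorem locusMor_preimage {P : ∀ ⦃X Y T : Scheme.{u}⦄, (X ⟶ Y) → (Y ⟶ T) → Prop}
    (hP : ConsProp.IsFieldStableMor P) {f : X ⟶ Y} {g : Y ⟶ S} {f' : X' ⟶ Y'} {g' : Y' ⟶ S'}
    {h : S' ⟶ S} {qX : X' ⟶ X} {qY : Y' ⟶ Y}
    [LocallyOfFiniteType g] [QuasiCompact g] [LocallyOfFiniteType (f ≫ g)] [QuasiCompact (f ≫ g)]
    (hX : IsPullback qX f' f qY) (hY : IsPullback qY g' g h) :
    ConsProp.locusMor P f' g' = h ⁻¹' ConsProp.locusMor P f g := by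
  ext s'
  have sqXY := hX.paste_vert hY
  have hw : fiberBC sqXY s' ≫ MoreMor.fiberMap f g (h s') =
      MoreMor.fiberMap f' g' s' ≫ fiberBC hY s' := by
    apply (isPullback_fiber g (h s')).hom_ext
    · rw [Category.assoc, fiberMap_fiberι, reassoc_of% (fiberBC_ι sqXY s'), hX.w, Category.assoc,
        fiberBC_ι hY s', reassoc_of% (fiberMap_fiberι f' g' s')]
    · rw [Category.assoc, fiberMap_toSpec, (isPullback_fiberBC sqXY s').w, Category.assoc,
        (isPullback_fiberBC hY s').w, reassoc_of% (fiberMap_toSpec f' g' s')]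
  have sqX : IsPullback (fiberBC sqXY s') (MoreMor.fiberMap f' g' s')
      (MoreMor.fiberMap f g (h s')) (fiberBC hY s') := by
    refine IsPullback.of_bot ?_ hw (isPullback_fiberBC hY s')
    rw [fiberMap_toSpec, fiberMap_toSpec]
    exact isPullback_fiberBC sqXY s'
  exact (hP (MoreMor.fiberMap f g (h s')) (g.fiberToSpecResidueField (h s'))
    (MoreMor.fiberMap f' g' s') (g'.fiberToSpecResidueField s') (fiberBC sqXY s') (fiberBC hY s') _
    (isPullback_fiberBC hY s') sqX).symm

end BaseChange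

section Noetherian

variable [AlgebraicGeometry.IsNoetherian S] {E : Set S}

omit [AlgebraicGeometry.IsNoetherian S] in
theorem nonempty_trace_of_interior {Z : Scheme.{u}} (i : Z ⟶ S) [IsClosedImmersion i] {A : Set Z}
    (hA : (interior A).Nonempty) {B : Set S} (h : A ⊆ i ⁻¹' B) :
    ∃ U : Set S, IsOpen U ∧ (U ∩ Set.range i).Nonempty ∧ U ∩ Set.range i ⊆ B := by
  obtain ⟨U, hU, hUA⟩ := i.isEmbedding.isInducing.isOpen_iff.1 (isOpen_interior (s := A))
  obtain ⟨z, hz⟩ := hA
  refine ⟨U, hU, ⟨i z, ?_, z, rfl⟩, ?_⟩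
  · rw [← hUA] at hz; exact hz
  · rintro _ ⟨hxU, w, rfl⟩
    exact h (interior_subset (hUA ▸ hxU : w ∈ interior A))

/-- EGA IV 9.2.3: constructibility over a Noetherian base from behaviour on integral subschemes. -/
theorem isConstructible_of_forall_integral
    (h : ∀ (Z : Scheme.{u}) (i : Z ⟶ S) [IsClosedImmersion i] [IsIntegral Z] [AlgebraicGeometry.IsNoetherian Z],
      (interior (i ⁻¹' E)).Nonempty ∨ (interior (i ⁻¹' E)ᶜ).Nonempty) :
    IsConstructible E := by
  refine isConstructible_of_forall_irreducible fun Y hY hYirr ↦ ?_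
  let I := Scheme.IdealSheafData.vanishingIdeal (⟨Y, hY⟩ : Closeds S)
  have hr : Set.range I.subschemeι = Y := Groth.PropsBasic2.range_vanishingIdeal_subschemeι _
  have : IsReduced I.subscheme := Groth.PropsBasic2.isReduced_vanishingIdeal_subscheme _
  have : IrreducibleSpace I.subscheme := by
    refine @IrreducibleSpace.mk _ _ ⟨?_⟩ ?_
    · rintro u v hu hv ⟨a, -, hau⟩ ⟨b, -, hbv⟩
      obtain ⟨u', hu', rfl⟩ := I.subschemeι.isEmbedding.isInducing.isOpen_iff.1 hu
      obtain ⟨v', hv', rfl⟩ := I.subschemeι.isEmbedding.isInducing.isOpen_iff.1 hv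
      obtain ⟨y, hy, hyu, hyv⟩ := hYirr.2 u' v' hu' hv' ⟨_, hr.le ⟨a, rfl⟩, hau⟩
        ⟨_, hr.le ⟨b, rfl⟩, hbv⟩
      obtain ⟨z, rfl⟩ := hr.ge hy
      exact ⟨z, trivial, hyu, hyv⟩
    · obtain ⟨y, hy⟩ := hYirr.nonempty
      obtain ⟨z, -⟩ := hr.ge hy
      exact ⟨z⟩
  have : IsIntegral I.subscheme := isIntegral_of_irreducibleSpace_of_isReduced _
  have : IsLocallyNoetherian I.subscheme := LocallyOfFiniteType.isLocallyNoetherian I.subschemeι
  have : CompactSpace I.subscheme := QuasiCompact.compactSpace_of_compactSpace I.subschemeι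
  have : AlgebraicGeometry.IsNoetherian I.subscheme := {}
  rcases h I.subscheme I.subschemeι with hne | hne
  · obtain ⟨U, hU, h1, h2⟩ := nonempty_trace_of_interior I.subschemeι hne subset_rfl
    rw [hr] at h1 h2
    exact Or.inr ⟨U, hU, h1, h2⟩
  · obtain ⟨U, hU, h1, h2⟩ :=
      nonempty_trace_of_interior I.subschemeι (B := Eᶜ) hne (by rw [Set.preimage_compl])
    rw [hr] at h1 h2
    refine (dense_or_isNowhereDense_preimage hYirr).imp_right fun hd ↦ False.elim ?_
    obtain ⟨y, hyU, hyY⟩ := h1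
    obtain ⟨x, hxU, hxE, hxY⟩ := mem_closure_iff.1 (hd hyY) U hU hyU
    exact h2 ⟨hxU, hxY⟩ hxE

/-- EGA IV 9.2.3: ind-constructible case. -/
theorem exists_constructible_of_forall_integral
    (h : ∀ (Z : Scheme.{u}) (i : Z ⟶ S) [IsClosedImmersion i] [IsIntegral Z] [AlgebraicGeometry.IsNoetherian Z],
      i (genericPoint Z) ∈ E → (interior (i ⁻¹' E)).Nonempty) {s : S} (hs : s ∈ E) :
    ∃ C : Set S, IsConstructible C ∧ s ∈ C ∧ C ⊆ E := by
  let I := Scheme.IdealSheafData.vanishingIdeal (⟨closure {s}, isClosed_closure⟩ : Closeds S)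
  have hr : Set.range I.subschemeι = closure {s} :=
    Groth.PropsBasic2.range_vanishingIdeal_subschemeι _
  have : IsReduced I.subscheme := Groth.PropsBasic2.isReduced_vanishingIdeal_subscheme _
  obtain ⟨z, hz⟩ := hr.ge (subset_closure rfl)
  have hgen : IsGenericPoint z (Set.univ : Set I.subscheme) := by
    rw [IsGenericPoint, I.subschemeι.isEmbedding.isInducing.closure_eq_preimage_closure_image,
      Set.image_singleton, hz, ← hr, Set.preimage_range]
  have : IrreducibleSpace I.subscheme :=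
    @IrreducibleSpace.mk _ _ ⟨hgen.isIrreducible.2⟩ ⟨z⟩
  have : IsIntegral I.subscheme := isIntegral_of_irreducibleSpace_of_isReduced _
  have : IsLocallyNoetherian I.subscheme := LocallyOfFiniteType.isLocallyNoetherian I.subschemeι
  have : CompactSpace I.subscheme := QuasiCompact.compactSpace_of_compactSpace I.subschemeι
  have : AlgebraicGeometry.IsNoetherian I.subscheme := {}
  have hzg : genericPoint I.subscheme = z := (genericPoint_spec _).eq hgen
  obtain ⟨U, hU, ⟨y, hyU, hy⟩, h2⟩ := nonempty_trace_of_interior I.subschemeι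
    (h I.subscheme I.subschemeι (by rw [hzg, hz]; exact hs)) subset_rfl
  rw [hr] at hy h2
  refine ⟨U ∩ closure {s}, (isConstructible_of_isOpen hU).inter
    (isConstructible_of_isClosed isClosed_closure), ⟨?_, subset_closure rfl⟩, h2⟩
  exact (specializes_iff_mem_closure.2 hy).mem_open hU hyU

variable {P₁ : ∀ ⦃Y T : Scheme.{u}⦄, (Y ⟶ T) → Prop}

theorem isConstructible_locus (hP : ConsProp.IsCons P₁) (u : X ⟶ S)
    [LocallyOfFiniteType u] [QuasiCompact u] : IsConstructible (ConsProp.locus P₁ u) := by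
  refine isConstructible_of_forall_integral fun Z i _ _ _ ↦ ?_
  rw [← locus_preimage hP.1 (IsPullback.of_hasPullback u i)]
  exact hP.2 _

theorem exists_constructible_locus (hP : ConsProp.IsIndCons P₁) (u : X ⟶ S)
    [LocallyOfFiniteType u] [QuasiCompact u] {s : S} (hs : s ∈ ConsProp.locus P₁ u) :
    ∃ C : Set S, IsConstructible C ∧ s ∈ C ∧ C ⊆ ConsProp.locus P₁ u := by
  refine exists_constructible_of_forall_integral (fun Z i _ _ _ hg ↦ ?_) hs
  rw [← locus_preimage hP.1 (IsPullback.of_hasPullback u i)]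
  refine hP.2 _ ?_
  rw [locus_preimage hP.1 (IsPullback.of_hasPullback u i)]
  exact hg

variable {P₂ : ∀ ⦃X Y T : Scheme.{u}⦄, (X ⟶ T) → (Y ⟶ T) → Prop}

theorem isConstructible_locusPair (hP : ConsPropPair.IsConsPair P₂) (u : X ⟶ S) (v : Y ⟶ S)
    [LocallyOfFiniteType u] [QuasiCompact u] [LocallyOfFiniteType v] [QuasiCompact v] :
    IsConstructible (ConsPropPair.locusPair P₂ u v) := by
  refine isConstructible_of_forall_integral fun Z i _ _ _ ↦ ?_
  rw [← locusPair_preimage hP.1 (IsPullback.of_hasPullback u i) (IsPullback.of_hasPullback v i)]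
  exact hP.2 _ _

theorem exists_constructible_locusPair (hP : ConsPropPair.IsIndConsPair P₂) (u : X ⟶ S) (v : Y ⟶ S)
    [LocallyOfFiniteType u] [QuasiCompact u] [LocallyOfFiniteType v] [QuasiCompact v] {s : S}
    (hs : s ∈ ConsPropPair.locusPair P₂ u v) :
    ∃ C : Set S, IsConstructible C ∧ s ∈ C ∧ C ⊆ ConsPropPair.locusPair P₂ u v := by
  refine exists_constructible_of_forall_integral (fun Z i _ _ _ hg ↦ ?_) hs
  rw [← locusPair_preimage hP.1 (IsPullback.of_hasPullback u i) (IsPullback.of_hasPullback v i)]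
  refine hP.2 _ _ ?_
  rw [locusPair_preimage hP.1 (IsPullback.of_hasPullback u i) (IsPullback.of_hasPullback v i)]
  exact hg

variable {P₃ : ∀ ⦃X Y T : Scheme.{u}⦄, (X ⟶ Y) → (Y ⟶ T) → Prop}

omit [AlgebraicGeometry.IsNoetherian S] in
theorem lft_qc_baseChange (f : X ⟶ Y) (g : Y ⟶ S) [LocallyOfFiniteType (f ≫ g)]
    [QuasiCompact (f ≫ g)] {Z : Scheme.{u}} (i : Z ⟶ S) :
    LocallyOfFiniteType (pullback.snd f (pullback.fst g i) ≫ pullback.snd g i) ∧
      QuasiCompact (pullback.snd f (pullback.fst g i) ≫ pullback.snd g i) := by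
  have sq := (IsPullback.of_hasPullback f (pullback.fst g i)).paste_vert
    (IsPullback.of_hasPullback g i)
  exact ⟨MorphismProperty.of_isPullback sq inferInstance,
    MorphismProperty.of_isPullback sq inferInstance⟩

theorem isConstructible_locusMor (hP : ConsProp.IsConsMor P₃) (f : X ⟶ Y) (g : Y ⟶ S)
    [LocallyOfFiniteType g] [QuasiCompact g] [LocallyOfFiniteType (f ≫ g)] [QuasiCompact (f ≫ g)] :
    IsConstructible (ConsProp.locusMor P₃ f g) := by
  refine isConstructible_of_forall_integral fun Z i _ _ _ ↦ ?_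
  rw [← locusMor_preimage hP.1 (IsPullback.of_hasPullback f (pullback.fst g i))
    (IsPullback.of_hasPullback g i)]
  have := (lft_qc_baseChange f g i).1
  have := (lft_qc_baseChange f g i).2
  exact hP.2 _ _

theorem exists_constructible_locusMor (hP : ConsProp.IsIndConsMor P₃) (f : X ⟶ Y) (g : Y ⟶ S)
    [LocallyOfFiniteType g] [QuasiCompact g] [LocallyOfFiniteType (f ≫ g)] [QuasiCompact (f ≫ g)]
    {s : S} (hs : s ∈ ConsProp.locusMor P₃ f g) :
    ∃ C : Set S, IsConstructible C ∧ s ∈ C ∧ C ⊆ ConsProp.locusMor P₃ f g := by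
  refine exists_constructible_of_forall_integral (fun Z i _ _ _ hg ↦ ?_) hs
  rw [← locusMor_preimage hP.1 (IsPullback.of_hasPullback f (pullback.fst g i))
    (IsPullback.of_hasPullback g i)]
  have := (lft_qc_baseChange f g i).1
  have := (lft_qc_baseChange f g i).2
  refine hP.2 _ _ ?_
  rw [locusMor_preimage hP.1 (IsPullback.of_hasPullback f (pullback.fst g i))
    (IsPullback.of_hasPullback g i)]
  exact hg

omit [AlgebraicGeometry.IsNoetherian S] in
/-- A constructible subset of an irreducible space containing the generic point is a neighbourhood. -/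
theorem genericPoint_mem_interior [IrreducibleSpace S] {C : Set S} (hC : IsConstructible C)
    (h : genericPoint S ∈ C) : genericPoint S ∈ interior C := by
  obtain ⟨U, hU, ⟨x, hxU, -⟩, hsub⟩ := exists_open_of_dense hC
    (IrreducibleSpace.isIrreducible_univ S)
    (fun y _ ↦ closure_mono (show ({genericPoint S} : Set S) ⊆ C ∩ Set.univ by simpa using h)
      (specializes_iff_mem_closure.1 ((genericPoint_spec S).specializes trivial)))
  exact interior_maximal (fun y hy ↦ hsub ⟨hy, trivial⟩) hU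
    (((genericPoint_spec S).specializes trivial).mem_open hU hxU)

omit [AlgebraicGeometry.IsNoetherian S] in
theorem interior_nonempty_or_of_isConstructible [IrreducibleSpace S] (hE : IsConstructible E) :
    (interior E).Nonempty ∨ (interior Eᶜ).Nonempty := by
  by_cases h : genericPoint S ∈ E
  · exact Or.inl ⟨_, genericPoint_mem_interior hE h⟩
  · exact Or.inr ⟨_, genericPoint_mem_interior hE.compl h⟩

end Noetherian

end Groth.SpectralTopology
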