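import Groth.Agent.SpectralTopology.FibreClosureAlg
import Groth.Agent.SpectralTopology.ConsBase
import Groth.Agent.SpectralTopology.Spectral
import Groth.Agent.EGA41Two.ConsTop
import Mathlib.RingTheory.TensorProduct.MvPolynomial
import Mathlib.RingTheory.Spectrum.Prime.Chevalley
import Mathlib.AlgebraicGeometry.Morphisms.UniversallyOpen

set_option autoImplicit false

/-!
EGA IV 9.5.3, 9.5.4: the union of the closures of a constructible set in the fibres of a morphism
locally of finite presentation is locally constructible.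
-/

open AlgebraicGeometry CategoryTheory CategoryTheory.Limits Topology TopologicalSpace

namespace Groth.SpectralTopology

universe u

variable {X X' S S' : Scheme.{u}}

theorem generalizingMap_fiberBC {u : X ⟶ S} {u' : X' ⟶ S'} {h : S' ⟶ S} {q : X' ⟶ X}
    (sq : IsPullback q u' u h) (s' : S') : GeneralizingMap (fiberBC sq s') := by
  have : Flat (Spec.map (h.residueFieldMap s')) := by
    rw [Flat.SpecMap_iff]
    algebraize [(h.residueFieldMap s').hom]
    let : Field (S.residueField (h s')) := inferInstance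
    exact RingHom.flat_algebraMap_iff.2 Module.Flat.of_free
  have : Flat (fiberBC sq s') := MorphismProperty.of_isPullback (isPullback_fiberBC sq s').flip this
  exact Flat.generalizingMap _

/-- Fibrewise closures commute with base change. -/
theorem fibreCl_preimage {u : X ⟶ S} {u' : X' ⟶ S'} {h : S' ⟶ S} {q : X' ⟶ X}
    (sq : IsPullback q u' u h) (Z : Set X) :
    fibreCl u' (q ⁻¹' Z) = q ⁻¹' fibreCl u Z := by
  have hw (x : X') : u (q x) = h (u' x) := by
    rw [← Scheme.Hom.comp_apply, sq.w, Scheme.Hom.comp_apply]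
  ext x'
  constructor
  · rintro ⟨z, hz, hfz, hzx⟩
    exact ⟨q z, hz, by rw [hw, hw, hfz], hzx.map q.continuous⟩
  · rintro ⟨z, hz, hfz, hzx⟩
    rw [hw] at hfz
    have hfac := fiberBC_ι sq (u' x')
    obtain ⟨w, hw'⟩ := (u.range_fiberι (h (u' x'))).ge hfz
    have hy : u.fiberι _ (fiberBC sq _ (u'.asFiber x')) = q x' := by
      rw [← Scheme.Hom.comp_apply, hfac, Scheme.Hom.comp_apply, u'.fiberι_asFiber]
    have hwy : w ⤳ fiberBC sq _ (u'.asFiber x') :=
      (u.fiberι _).isEmbedding.isInducing.specializes_iff.1 (by rw [hw', hy]; exact hzx)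
    obtain ⟨w', hw'y, hw'w⟩ := generalizingMap_fiberBC sq (u' x') hwy
    refine ⟨u'.fiberι _ w', ?_, ?_, ?_⟩
    · rw [Set.mem_preimage, ← Scheme.Hom.comp_apply, ← hfac, Scheme.Hom.comp_apply, hw'w, hw']
      exact hz
    · exact (u'.range_fiberι _).le ⟨w', rfl⟩
    · simpa only [u'.fiberι_asFiber] using hw'y.map (u'.fiberι _).continuous

/-- Fibrewise closures and charts. -/
theorem fibreCl_chart {f : X ⟶ S} {f' : X' ⟶ S'} {j : X' ⟶ X} {k : S' ⟶ S} (w : j ≫ f = f' ≫ k)
    (hj : IsInducing j) (hk : Function.Injective k) (Z : Set X)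
    (hr : ∀ z ∈ Z, ∀ x', z ⤳ j x' → z ∈ Set.range j) :
    j ⁻¹' fibreCl f Z = fibreCl f' (j ⁻¹' Z) := by
  have hw (x : X') : f (j x) = k (f' x) := by
    rw [← Scheme.Hom.comp_apply, w, Scheme.Hom.comp_apply]
  ext x'
  constructor
  · rintro ⟨z, hz, hfz, hzx⟩
    obtain ⟨z', rfl⟩ := hr z hz x' hzx
    exact ⟨z', hz, hk (by rw [← hw, ← hw, hfz]), hj.specializes_iff.1 hzx⟩
  · rintro ⟨z', hz, hfz, hzx⟩
    exact ⟨j z', hz, by rw [hw, hw, hfz], hzx.map j.continuous⟩

theorem isConstructible_fibreCl_mvPolynomial (R : Type u) [CommRing R] (n : ℕ)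
    {Z : Set (PrimeSpectrum (MvPolynomial (Fin n) R))} (hZ : IsConstructible Z) :
    IsConstructible (fibreCl (PrimeSpectrum.comap (MvPolynomial.C (σ := Fin n))) Z) := by
  classical
  obtain ⟨D, rfl⟩ := PrimeSpectrum.exists_constructibleSetData_iff.2 hZ
  let cs : Finset R := D.biUnion fun C ↦
    C.f.coeffs ∪ Finset.univ.biUnion fun i ↦ (C.g i).coeffs
  let R₀ := Subring.closure (cs : Set R)
  have : IsNoetherianRing R₀ := is_noetherian_subring_closure _ cs.finite_toSet
  let m := MvPolynomial.map (σ := Fin n) R₀.subtype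
  have hmem (p : MvPolynomial (Fin n) R) (hp : ∀ c ∈ p.coeffs, c ∈ cs) : ∃ p₀, m p₀ = p :=
    MvPolynomial.mem_range_map_iff_coeffs_subset.2 fun c hc ↦
      ⟨⟨c, Subring.subset_closure (hp c hc)⟩, rfl⟩
  let pre (p : MvPolynomial (Fin n) R) := if h : ∃ p₀, m p₀ = p then h.choose else 0
  have hpre (p) (hp : ∀ c ∈ p.coeffs, c ∈ cs) : m (pre p) = p := by
    simp only [pre, dif_pos (hmem p hp)]; exact (hmem p hp).choose_spec
  let D₀ : PrimeSpectrum.ConstructibleSetData (MvPolynomial (Fin n) R₀) :=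
    D.image fun C ↦ ⟨pre C.f, C.n, pre ∘ C.g⟩
  have hD : D₀.map m = D := by
    rw [PrimeSpectrum.ConstructibleSetData.map, Finset.image_image]
    refine (Finset.image_congr fun C hC ↦ ?_).trans Finset.image_id
    have h (c : R) (hc : c ∈ C.f.coeffs ∪ Finset.univ.biUnion fun i ↦ (C.g i).coeffs) : c ∈ cs :=
      Finset.mem_biUnion.2 ⟨C, hC, hc⟩
    ext1
    · exact hpre _ fun c hc ↦ h c (Finset.mem_union_left _ hc)
    · rfl
    · exact heq_of_eq (funext fun i ↦ hpre _ fun c hc ↦
        h c (Finset.mem_union_right _ (Finset.mem_biUnion.2 ⟨i, Finset.mem_univ _, hc⟩)))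
  rw [← hD, PrimeSpectrum.ConstructibleSetData.toSet_map]
  let := MvPolynomial.algebraMvPolynomial (σ := Fin n) (R := R₀) (S := R)
  have sq := isPullback_SpecMap_of_isPushout _ _ _ _
    (CommRingCat.isPushout_of_isPushout R₀ (MvPolynomial (Fin n) R₀) R (MvPolynomial (Fin n) R))
  have h := fibreCl_preimage sq D₀.toSet
  have hcons := (Spec.map (CommRingCat.ofHom m)).isConstructible_preimage
    (isConstructible_fibreCl_noetherian (MvPolynomial.C (σ := Fin n))
      (RingHom.finiteType_algebraMap.2 inferInstance) D₀.isConstructible_toSet)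
  exact h.symm ▸ hcons

theorem isConstructible_fibreCl_Spec {R A : CommRingCat.{u}} (φ : R ⟶ A)
    (hφ : φ.hom.FinitePresentation) {Z : Set (Spec A)} (hZ : IsConstructible Z) :
    IsConstructible (fibreCl (Spec.map φ) Z) := by
  algebraize [φ.hom]
  obtain ⟨n, π, hπ, hker⟩ := (inferInstance : Algebra.FinitePresentation R A).out
  let i : Spec A ⟶ Spec (CommRingCat.of (MvPolynomial (Fin n) R)) :=
    Spec.map (CommRingCat.ofHom π.toRingHom)
  have w : i ≫ Spec.map (CommRingCat.ofHom MvPolynomial.C) = Spec.map φ ≫ 𝟙 _ := by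
    rw [Category.comp_id, ← Spec.map_comp]
    exact congrArg Spec.map (CommRingCat.hom_ext π.comp_algebraMap)
  have hi : IsClosedEmbedding i := PrimeSpectrum.isClosedEmbedding_comap_of_surjective A π.toRingHom hπ
  have hZ' : IsConstructible (i '' Z) :=
    PrimeSpectrum.isConstructible_comap_image (f := π.toRingHom)
      (RingHom.FinitePresentation.of_surjective _ hπ hker) hZ
  have key := fibreCl_chart (k := 𝟙 _) w hi.isInducing (fun _ _ h ↦ h) (i '' Z)
    (fun z hz _ _ ↦ by obtain ⟨a, -, rfl⟩ := hz; exact ⟨a, rfl⟩)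
  rw [Set.preimage_image_eq _ hi.injective] at key
  rw [← key]
  exact i.isConstructible_preimage (isConstructible_fibreCl_mvPolynomial R n hZ')

/-- A set is locally constructible if it is constructible in affine charts. -/
theorem isLocallyConstructible_of_charts {T : Set X}
    (h : ∀ x : X, ∃ (A : CommRingCat.{u}) (j : Spec A ⟶ X) (_ : IsOpenImmersion j),
      x ∈ Set.range j ∧ IsConstructible (j ⁻¹' T)) :
    IsLocallyConstructible T := by
  intro x
  obtain ⟨A, j, hj, hx, hT⟩ := h x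
  let e := j.isOpenEmbedding.isEmbedding.toHomeomorph
  refine ⟨_, j.isOpenEmbedding.isOpen_range.mem_nhds hx, j.isOpenEmbedding.isOpen_range, ?_⟩
  have := hT.preimage_of_isOpenEmbedding e.symm.isOpenEmbedding
  convert this using 1
  ext ⟨_, a, rfl⟩
  simp only [Set.mem_preimage]
  rw [show e.symm ⟨j a, a, rfl⟩ = a from e.symm_apply_apply a]

theorem isLocallyConstructible_preimage {Y : Scheme.{u}} (g : X ⟶ Y) {Z : Set Y}
    (hZ : IsLocallyConstructible Z) : IsLocallyConstructible (g ⁻¹' Z) := by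
  refine isLocallyConstructible_of_charts fun x ↦ ?_
  obtain ⟨_, ⟨U, hU, rfl⟩, hxU, -⟩ :=
    Y.isBasis_affineOpens.exists_subset_of_mem_open (Set.mem_univ (g x)) isOpen_univ
  obtain ⟨_, ⟨V, hV, rfl⟩, hxV, hVU⟩ :=
    X.isBasis_affineOpens.exists_subset_of_mem_open (show x ∈ g ⁻¹ᵁ U from hxU) (g ⁻¹ᵁ U).isOpen
  refine ⟨_, hV.fromSpec, inferInstance, hV.range_fromSpec.ge hxV, ?_⟩
  rw [← Set.preimage_comp, ← TopCat.coe_comp, ← Scheme.Hom.comp_base,
    ← IsAffineOpen.SpecMap_appLE_fromSpec g hU hV hVU, Scheme.Hom.comp_base, TopCat.coe_comp,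
    Set.preimage_comp]
  exact Scheme.Hom.isConstructible_preimage _
    (hZ.preimage_of_isOpenEmbedding hU.fromSpec.isOpenEmbedding).isConstructible

/-- EGA IV 9.5.3-9.5.4 in universal form. -/
theorem isLocallyConstructible_fibreCl (f : X ⟶ S) [LocallyOfFinitePresentation f] {Z : Set X}
    (hZ : IsLocallyConstructible Z) : IsLocallyConstructible (fibreCl f Z) := by
  refine isLocallyConstructible_of_charts fun x ↦ ?_
  obtain ⟨_, ⟨U, hU, rfl⟩, hxU, -⟩ :=
    S.isBasis_affineOpens.exists_subset_of_mem_open (Set.mem_univ (f x)) isOpen_univ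
  obtain ⟨_, ⟨V, hV, rfl⟩, hxV, hVU⟩ :=
    X.isBasis_affineOpens.exists_subset_of_mem_open (show x ∈ f ⁻¹ᵁ U from hxU) (f ⁻¹ᵁ U).isOpen
  refine ⟨_, hV.fromSpec, inferInstance, hV.range_fromSpec.ge hxV, ?_⟩
  rw [fibreCl_chart (IsAffineOpen.SpecMap_appLE_fromSpec f hU hV hVU).symm
    hV.fromSpec.isOpenEmbedding.isInducing hU.fromSpec.isOpenEmbedding.injective Z
    (fun z _ x' h ↦ h.mem_open hV.fromSpec.isOpenEmbedding.isOpen_range ⟨x', rfl⟩)]
  exact isConstructible_fibreCl_Spec _ (f.finitePresentation_appLE hU hV hVU)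
    (hZ.preimage_of_isOpenEmbedding hV.fromSpec.isOpenEmbedding).isConstructible

/-- Within a fibre, the closure of a locally constructible set is its set of specializations. -/
theorem mem_fibreCl_of_mem_closure (f : X ⟶ S) {Z : Set X} (hZ : IsLocallyConstructible Z) {x : X}
    (hx : x ∈ closure (Z ∩ f ⁻¹' {f x})) : x ∈ fibreCl f Z := by
  let ι := f.fiberι (f x)
  have hx' : f.asFiber x ∈ closure (ι ⁻¹' Z) := by
    rw [ι.isEmbedding.isInducing.closure_eq_preimage_closure_image, Set.mem_preimage,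
      Set.image_preimage_eq_inter_range, f.range_fiberι, f.fiberι_asFiber]
    exact hx
  obtain ⟨_, ⟨V, hV, rfl⟩, hxV, -⟩ := (f.fiber (f x)).isBasis_affineOpens.exists_subset_of_mem_open
    (Set.mem_univ (f.asFiber x)) isOpen_univ
  obtain ⟨p, hp⟩ := hV.range_fromSpec.ge hxV
  have hpcl : p ∈ closure ((hV.fromSpec ≫ ι) ⁻¹' Z) := by
    rw [Scheme.Hom.comp_base, TopCat.coe_comp, Set.preimage_comp,
      ← hV.fromSpec.isOpenEmbedding.isOpenMap.preimage_closure_eq_closure_preimage
        hV.fromSpec.continuous, Set.mem_preimage, hp]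
    exact hx'
  have hc := (isLocallyConstructible_preimage (hV.fromSpec ≫ ι) hZ).isConstructible
  have : SpectralSpace ↥(Spec Γ(f.fiber (f x), V)) :=
    inferInstanceAs (SpectralSpace (PrimeSpectrum _))
  obtain ⟨e, he, hep⟩ := exists_specializes_of_mem_closure
    (isClopen_ct_of_isConstructible hc).1 hpcl
  refine ⟨_, he, (f.range_fiberι (f x)).le ⟨hV.fromSpec e, rfl⟩, ?_⟩
  have := hep.map (hV.fromSpec ≫ ι).continuous
  rwa [Scheme.Hom.comp_apply hV.fromSpec ι p, hp, f.fiberι_asFiber] at this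

theorem mem_fibreCl_iff (f : X ⟶ S) {Z : Set X} (hZ : IsLocallyConstructible Z) {x : X} :
    x ∈ fibreCl f Z ↔ x ∈ closure (Z ∩ f ⁻¹' {f x}) :=
  ⟨fun ⟨_, hz, hfz, hzx⟩ ↦ hzx.mem_closed isClosed_closure (subset_closure ⟨hz, hfz⟩),
    mem_fibreCl_of_mem_closure f hZ⟩

end Groth.SpectralTopology
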