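import Groth.Agent.SpectralTopology.ModelsOfDescend

set_option autoImplicit false

/-!
EGA IV 9.3.2-9.3.4: loci of (ind-)constructible properties are locally (ind-)constructible over any
base; passage to the limit. Relative to descent of finitely presented schemes along the system of
finitely generated subrings of a ring.
-/

open AlgebraicGeometry CategoryTheory CategoryTheory.Limits Topology

namespace Groth.SpectralTopology

universe u

variable (hd : ∀ A : CommRingCat.{u}, CanDescend A)
variable {X Y S : Scheme.{u}}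

/-- An affine open as a limit of Noetherian affine schemes. -/
noncomputable def affineIso {V : S.Opens} (hV : IsAffineOpen V) :
    V.toScheme ≅ (fgCone Γ(S, V)).pt := hV.isoSpec

/-- The structure map of an affine open as a map out of the limit of Noetherian affine schemes. -/
noncomputable def affineToBase {V : S.Opens} (hV : IsAffineOpen V) : (fgCone Γ(S, V)).pt ⟶ S :=
  (affineIso hV).inv ≫ V.ι

theorem preimage_ι_eq {V : S.Opens} (hV : IsAffineOpen V) (E : Set S) :
    ⇑V.ι ⁻¹' E = ⇑(affineIso hV).hom ⁻¹' (⇑(affineToBase hV) ⁻¹' E) := by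
  ext x
  show V.ι x ∈ E ↔ affineToBase hV ((affineIso hV).hom x) ∈ E
  rw [← Scheme.Hom.comp_apply, affineToBase, Iso.hom_inv_id_assoc]

section Pair

variable {P : ∀ ⦃X Y T : Scheme.{u}⦄, (X ⟶ T) → (Y ⟶ T) → Prop}
variable (u : X ⟶ S) (v : Y ⟶ S)
  [LocallyOfFinitePresentation u] [QuasiCompact u] [QuasiSeparated u]
  [LocallyOfFinitePresentation v] [QuasiCompact v] [QuasiSeparated v]

include hd in
theorem isLocallyConstructible_locusPair (hP : ConsPropPair.IsConsPair P) :
    IsLocallyConstructible (ConsPropPair.locusPair P u v) := by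
  refine isLocallyConstructible_of_affines fun V hV ↦ ?_
  rw [preimage_ι_eq hV, ← locusPair_preimage hP.1 (IsPullback.of_hasPullback u (affineToBase hV))
    (IsPullback.of_hasPullback v (affineToBase hV))]
  obtain ⟨M⟩ := nonempty_pairModel_fgCone (hd _) (pullback.snd u (affineToBase hV))
    (pullback.snd v (affineToBase hV))
  exact (affineIso hV).hom.isConstructible_preimage (isConstructible_locusPair_of_model hP M)

include hd in
theorem isIndConstructible_locusPair (hP : ConsPropPair.IsIndConsPair P) :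
    ProCons.IsIndConstructible (ConsPropPair.locusPair P u v) := by
  refine isIndConstructible_of_affines fun V hV x hx ↦ ?_
  rw [preimage_ι_eq hV, ← locusPair_preimage hP.1 (IsPullback.of_hasPullback u (affineToBase hV))
    (IsPullback.of_hasPullback v (affineToBase hV))] at hx ⊢
  obtain ⟨M⟩ := nonempty_pairModel_fgCone (hd _) (pullback.snd u (affineToBase hV))
    (pullback.snd v (affineToBase hV))
  obtain ⟨C, hC, hxC, hCE⟩ := exists_constructible_locusPair_of_model hP M hx
  exact ⟨_, (affineIso hV).hom.isConstructible_preimage hC, hxC, Set.preimage_mono hCE⟩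

end Pair

section Mor

variable {P : ∀ ⦃X Y T : Scheme.{u}⦄, (X ⟶ Y) → (Y ⟶ T) → Prop}
variable (f : X ⟶ Y) (g : Y ⟶ S)
  [LocallyOfFinitePresentation g] [QuasiCompact g] [QuasiSeparated g]
  [LocallyOfFinitePresentation (f ≫ g)] [QuasiCompact (f ≫ g)] [QuasiSeparated (f ≫ g)]

/-- Base change keeps the composite of finite presentation. -/
theorem fp_baseChange_comp {Z : Scheme.{u}} (i : Z ⟶ S) :
    LocallyOfFinitePresentation (pullback.snd f (pullback.fst g i) ≫ pullback.snd g i) ∧
      QuasiCompact (pullback.snd f (pullback.fst g i) ≫ pullback.snd g i) ∧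
      QuasiSeparated (pullback.snd f (pullback.fst g i) ≫ pullback.snd g i) := by
  have sq := (IsPullback.of_hasPullback f (pullback.fst g i)).paste_vert
    (IsPullback.of_hasPullback g i)
  exact ⟨MorphismProperty.of_isPullback sq inferInstance,
    MorphismProperty.of_isPullback sq inferInstance,
    MorphismProperty.of_isPullback sq inferInstance⟩

include hd in
theorem isLocallyConstructible_locusMor (hP : ConsProp.IsConsMor P) :
    IsLocallyConstructible (ConsProp.locusMor P f g) := by
  refine isLocallyConstructible_of_affines fun V hV ↦ ?_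
  rw [preimage_ι_eq hV, ← locusMor_preimage hP.1
    (IsPullback.of_hasPullback f (pullback.fst g (affineToBase hV)))
    (IsPullback.of_hasPullback g (affineToBase hV))]
  obtain ⟨h1, h2, h3⟩ := fp_baseChange_comp f g (affineToBase hV)
  obtain ⟨M⟩ := nonempty_morModel_fgCone (hd _) (pullback.snd f (pullback.fst g (affineToBase hV)))
    (pullback.snd g (affineToBase hV))
  exact (affineIso hV).hom.isConstructible_preimage (isConstructible_locusMor_of_model hP M)

include hd in
theorem isIndConstructible_locusMor (hP : ConsProp.IsIndConsMor P) :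
    ProCons.IsIndConstructible (ConsProp.locusMor P f g) := by
  refine isIndConstructible_of_affines fun V hV x hx ↦ ?_
  rw [preimage_ι_eq hV, ← locusMor_preimage hP.1
    (IsPullback.of_hasPullback f (pullback.fst g (affineToBase hV)))
    (IsPullback.of_hasPullback g (affineToBase hV))] at hx ⊢
  obtain ⟨h1, h2, h3⟩ := fp_baseChange_comp f g (affineToBase hV)
  obtain ⟨M⟩ := nonempty_morModel_fgCone (hd _) (pullback.snd f (pullback.fst g (affineToBase hV)))
    (pullback.snd g (affineToBase hV))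
  obtain ⟨C, hC, hxC, hCE⟩ := exists_constructible_locusMor_of_model hP M hx
  exact ⟨_, (affineIso hV).hom.isConstructible_preimage hC, hxC, Set.preimage_mono hCE⟩

end Mor

section Limit

variable {I : Type u} [Category.{u} I] [IsCofiltered I] (D : I ⥤ Scheme.{u})
  [∀ (i j : I) (f : i ⟶ j), IsAffineHom (D.map f)] (c : Cone D) (hc : IsLimit c)

include hd hc in
theorem forall_locusPair_iff_eventually
    {P : ∀ ⦃X Y T : Scheme.{u}⦄, (X ⟶ T) → (Y ⟶ T) → Prop} (hP : ConsPropPair.IsIndConsPair P)
    {i₀ : I} [CompactSpace (D.obj i₀)]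
    {X₀ Y₀ : Scheme.{u}} (u₀ : X₀ ⟶ D.obj i₀) (v₀ : Y₀ ⟶ D.obj i₀)
    [LocallyOfFinitePresentation u₀] [QuasiCompact u₀] [QuasiSeparated u₀]
    [LocallyOfFinitePresentation v₀] [QuasiCompact v₀] [QuasiSeparated v₀]
    {X Y : Scheme.{u}} (u : X ⟶ c.pt) (v : Y ⟶ c.pt) (qX : X ⟶ X₀) (qY : Y ⟶ Y₀)
    (hX : IsPullback qX u u₀ (c.π.app i₀)) (hY : IsPullback qY v v₀ (c.π.app i₀)) :
    (∀ s : c.pt, s ∈ ConsPropPair.locusPair P u v) ↔
      ∃ (j : I) (φ : j ⟶ i₀) (Xj Yj : Scheme.{u}) (uj : Xj ⟶ D.obj j) (vj : Yj ⟶ D.obj j)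
        (pX : Xj ⟶ X₀) (pY : Yj ⟶ Y₀), IsPullback pX uj u₀ (D.map φ) ∧ IsPullback pY vj v₀ (D.map φ) ∧
          ∀ t : D.obj j, t ∈ ConsPropPair.locusPair P uj vj := by
  refine ⟨fun h ↦ ?_, ?_⟩
  · obtain ⟨j, φ, hj⟩ := exists_preimage_eq_univ_of_isIndConstructible D c hc
      (isIndConstructible_locusPair hd u₀ v₀ hP) fun x ↦
        (locusPair_preimage hP.1 hX hY).subset (h x)
    exact ⟨j, φ, _, _, pullback.snd u₀ (D.map φ), pullback.snd v₀ (D.map φ), _, _,
      IsPullback.of_hasPullback _ _, IsPullback.of_hasPullback _ _,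
      fun t ↦ (locusPair_preimage hP.1 (IsPullback.of_hasPullback u₀ (D.map φ))
        (IsPullback.of_hasPullback v₀ (D.map φ))).symm.subset (hj t)⟩
  · rintro ⟨j, φ, Xj, Yj, uj, vj, pX, pY, sX, sY, hj⟩ s
    have : LocallyOfFinitePresentation uj := MorphismProperty.of_isPullback sX inferInstance
    have : QuasiCompact uj := MorphismProperty.of_isPullback sX inferInstance
    have : LocallyOfFinitePresentation vj := MorphismProperty.of_isPullback sY inferInstance
    have : QuasiCompact vj := MorphismProperty.of_isPullback sY inferInstance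
    have tX : IsPullback (sX.lift qX (u ≫ c.π.app j) (by rw [Category.assoc, c.w, hX.w])) u uj
        (c.π.app j) :=
      IsPullback.of_right (by rw [sX.lift_fst, c.w]; exact hX) (sX.lift_snd _ _ _) sX
    have tY : IsPullback (sY.lift qY (v ≫ c.π.app j) (by rw [Category.assoc, c.w, hY.w])) v vj
        (c.π.app j) :=
      IsPullback.of_right (by rw [sY.lift_fst, c.w]; exact hY) (sY.lift_snd _ _ _) sY
    exact (locusPair_preimage hP.1 tX tY).symm.subset (hj _)

include hd hc in
theorem forall_locusMor_iff_eventually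
    {P : ∀ ⦃X Y T : Scheme.{u}⦄, (X ⟶ Y) → (Y ⟶ T) → Prop} (hP : ConsProp.IsIndConsMor P)
    {i₀ : I} [CompactSpace (D.obj i₀)]
    {X₀ Y₀ : Scheme.{u}} (f₀ : X₀ ⟶ Y₀) (g₀ : Y₀ ⟶ D.obj i₀)
    [LocallyOfFinitePresentation g₀] [QuasiCompact g₀] [QuasiSeparated g₀]
    [LocallyOfFinitePresentation (f₀ ≫ g₀)] [QuasiCompact (f₀ ≫ g₀)] [QuasiSeparated (f₀ ≫ g₀)]
    {X Y : Scheme.{u}} (f : X ⟶ Y) (g : Y ⟶ c.pt) (qY : Y ⟶ Y₀) (qX : X ⟶ X₀)
    (hY : IsPullback qY g g₀ (c.π.app i₀)) (hX : IsPullback qX f f₀ qY) :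
    (∀ s : c.pt, s ∈ ConsProp.locusMor P f g) ↔
      ∃ (j : I) (φ : j ⟶ i₀) (Xj Yj : Scheme.{u}) (fj : Xj ⟶ Yj) (gj : Yj ⟶ D.obj j)
        (pY : Yj ⟶ Y₀) (pX : Xj ⟶ X₀), IsPullback pY gj g₀ (D.map φ) ∧ IsPullback pX fj f₀ pY ∧
          ∀ t : D.obj j, t ∈ ConsProp.locusMor P fj gj := by
  refine ⟨fun h ↦ ?_, ?_⟩
  · obtain ⟨j, φ, hj⟩ := exists_preimage_eq_univ_of_isIndConstructible D c hc
      (isIndConstructible_locusMor hd f₀ g₀ hP) fun x ↦
        (locusMor_preimage hP.1 hX hY).subset (h x)
    exact ⟨j, φ, _, _, pullback.snd f₀ (pullback.fst g₀ (D.map φ)), pullback.snd g₀ (D.map φ), _, _,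
      IsPullback.of_hasPullback _ _, IsPullback.of_hasPullback _ _,
      fun t ↦ (locusMor_preimage hP.1 (IsPullback.of_hasPullback f₀ (pullback.fst g₀ (D.map φ)))
        (IsPullback.of_hasPullback g₀ (D.map φ))).symm.subset (hj t)⟩
  · rintro ⟨j, φ, Xj, Yj, fj, gj, pY, pX, sY, sX, hj⟩ s
    have : LocallyOfFinitePresentation gj := MorphismProperty.of_isPullback sY inferInstance
    have : QuasiCompact gj := MorphismProperty.of_isPullback sY inferInstance
    have : LocallyOfFinitePresentation (fj ≫ gj) :=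
      MorphismProperty.of_isPullback (sX.paste_vert sY) inferInstance
    have : QuasiCompact (fj ≫ gj) :=
      MorphismProperty.of_isPullback (sX.paste_vert sY) inferInstance
    let lY := sY.lift qY (g ≫ c.π.app j) (by rw [Category.assoc, c.w, hY.w])
    have tY : IsPullback lY g gj (c.π.app j) :=
      IsPullback.of_right (by rw [sY.lift_fst, c.w]; exact hY) (sY.lift_snd _ _ _) sY
    have tX : IsPullback (sX.lift qX (f ≫ lY) (by rw [Category.assoc, sY.lift_fst, hX.w])) f fj lY :=
      IsPullback.of_right (by rw [sX.lift_fst, sY.lift_fst]; exact hX) (sX.lift_snd _ _ _) sX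
    exact (locusMor_preimage hP.1 tX tY).symm.subset (hj _)

end Limit

end Groth.SpectralTopology
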