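import Groth.Agent.Limits.OpenPullback
import Mathlib.AlgebraicGeometry.Morphisms.FinitePresentation
import Mathlib.AlgebraicGeometry.Morphisms.QuasiSeparated

set_option autoImplicit false
set_option backward.isDefEq.respectTransparency false

/-!
EGA IV 8.8.2 (i): a morphism between base changes of a quasi-compact quasi-separated scheme and a
scheme locally of finite presentation over a stage descends to a stage.
-/

open AlgebraicGeometry CategoryTheory CategoryTheory.Limits

namespace Groth.SpectralTopology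

universe u

variable {I : Type u} [Category.{u} I] [IsCofiltered I] (D : I ⥤ Scheme.{u})
  [∀ (i j : I) (f : i ⟶ j), IsAffineHom (D.map f)] (c : Cone D) (hc : IsLimit c)

include hc in
theorem exists_descend_hom {i : I} [CompactSpace (D.obj i)] [QuasiSeparatedSpace (D.obj i)]
    {X₁ Y₁ : Scheme.{u}} (u₁ : X₁ ⟶ D.obj i) (g₁ : Y₁ ⟶ D.obj i)
    [LocallyOfFinitePresentation g₁] [QuasiCompact u₁] [QuasiSeparated u₁]
    {X Y : Scheme.{u}} (f : X ⟶ Y) (g : Y ⟶ c.pt) (qX : X ⟶ X₁) (qY : Y ⟶ Y₁)
    (hX : IsPullback qX (f ≫ g) u₁ (c.π.app i)) (hY : IsPullback qY g g₁ (c.π.app i)) :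
    ∃ (j : I) (φ : j ⟶ i) (Xj Yj : Scheme.{u}) (fj : Xj ⟶ Yj) (gj : Yj ⟶ D.obj j)
      (pX : Xj ⟶ X₁) (pY : Yj ⟶ Y₁) (rX : X ⟶ Xj) (rY : Y ⟶ Yj),
      IsPullback pY gj g₁ (D.map φ) ∧ IsPullback pX (fj ≫ gj) u₁ (D.map φ) ∧
      IsPullback rX f fj rY ∧ IsPullback rY g gj (c.π.app j) := by
  have hfst {k l : Over i} (ψ : k ⟶ l) :
      (Groth.Limits.pullbackDiagram D i u₁).map ψ ≫ pullback.fst (D.map l.hom) u₁ =
        pullback.fst (D.map k.hom) u₁ ≫ D.map ψ.left := pullback.lift_fst _ _ _
  have hπfst (k : Over i) :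
      (Groth.Limits.pullbackCone D i u₁ c).π.app k ≫ pullback.fst (D.map k.hom) u₁ =
        pullback.fst (c.π.app i) u₁ ≫ c.π.app k.left := pullback.lift_fst _ _ _
  let t : Groth.Limits.pullbackDiagram D i u₁ ⟶ (Functor.const (Over i)).obj (D.obj i) :=
    { app := fun k ↦ pullback.fst (D.map k.hom) u₁ ≫ D.map k.hom
      naturality := fun k l ψ ↦ by
        change (Groth.Limits.pullbackDiagram D i u₁).map ψ ≫
          pullback.fst (D.map l.hom) u₁ ≫ D.map l.hom = _ ≫ 𝟙 _
        rw [Category.comp_id, ← Category.assoc]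
        refine (congrArg (· ≫ D.map l.hom) (hfst ψ)).trans ?_
        rw [Category.assoc, ← D.map_comp, Over.w] }
  let e : X ≅ pullback (c.π.app i) u₁ := hX.flip.isoPullback
  let a : (Groth.Limits.pullbackCone D i u₁ c).pt ⟶ Y₁ := e.inv ≫ f ≫ qY
  have ha : (Groth.Limits.pullbackCone D i u₁ c).π ≫ t =
      (Functor.const (Over i)).map (a ≫ g₁) := by
    ext k : 2
    change (Groth.Limits.pullbackCone D i u₁ c).π.app k ≫
      pullback.fst (D.map k.hom) u₁ ≫ D.map k.hom = (e.inv ≫ f ≫ qY) ≫ g₁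
    rw [← Category.assoc]
    refine (congrArg (· ≫ D.map k.hom) (hπfst k)).trans ?_
    rw [Category.assoc, c.w, Category.assoc, Category.assoc, hY.w, ← Category.assoc f g]
    refine Eq.trans ?_ (Category.assoc e.inv (f ≫ g) (c.π.app i))
    exact (congrArg (· ≫ c.π.app i) hX.flip.isoPullback_inv_fst).symm
  have : ∀ k : Over i, CompactSpace ((Groth.Limits.pullbackDiagram D i u₁).obj k) := fun k ↦
    have : CompactSpace X₁ := QuasiCompact.compactSpace_of_compactSpace u₁
    QuasiCompact.compactSpace_of_compactSpace (pullback.snd (D.map k.hom) u₁)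
  have : ∀ k : Over i, QuasiSeparatedSpace ((Groth.Limits.pullbackDiagram D i u₁).obj k) := fun k ↦
    have : QuasiSeparatedSpace X₁ := quasiSeparatedSpace_of_quasiSeparated u₁
    quasiSeparatedSpace_of_quasiSeparated (pullback.snd (D.map k.hom) u₁)
  obtain ⟨k, g', hg', hg'₁⟩ := Scheme.exists_π_app_comp_eq_of_locallyOfFinitePresentation
    (Groth.Limits.pullbackDiagram D i u₁) t g₁ (Groth.Limits.pullbackCone D i u₁ c)
    (Groth.Limits.isLimitPullbackCone D i u₁ hc) a ha
  change g' ≫ g₁ = pullback.fst (D.map k.hom) u₁ ≫ D.map k.hom at hg'₁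
  have hsqY : IsPullback (pullback.snd (D.map k.hom) g₁) (pullback.fst (D.map k.hom) g₁)
      g₁ (D.map k.hom) := (IsPullback.of_hasPullback _ _).flip
  let fj : pullback (D.map k.hom) u₁ ⟶ pullback (D.map k.hom) g₁ :=
    pullback.lift (pullback.fst _ _) g' hg'₁.symm
  have hfj : fj ≫ pullback.fst (D.map k.hom) g₁ = pullback.fst (D.map k.hom) u₁ :=
    pullback.lift_fst _ _ _
  let rY : Y ⟶ pullback (D.map k.hom) g₁ :=
    pullback.lift (g ≫ c.π.app k.left) qY (by rw [Category.assoc, c.w, hY.w])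
  let rX : X ⟶ pullback (D.map k.hom) u₁ :=
    pullback.lift ((f ≫ g) ≫ c.π.app k.left) qX (by rw [Category.assoc, c.w, hX.w])
  have hrY : IsPullback rY g (pullback.fst (D.map k.hom) g₁) (c.π.app k.left) :=
    IsPullback.of_right (by rw [pullback.lift_snd, c.w]; exact hY)
      (pullback.lift_fst _ _ _) hsqY
  have hrXu : IsPullback rX (f ≫ g) (pullback.fst (D.map k.hom) u₁) (c.π.app k.left) :=
    IsPullback.of_right (by rw [pullback.lift_snd, c.w]; exact hX)
      (pullback.lift_fst _ _ _) (IsPullback.of_hasPullback _ _).flip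
  have hrX : e.hom ≫ (Groth.Limits.pullbackCone D i u₁ c).π.app k = rX := by
    apply pullback.hom_ext
    · rw [Category.assoc]
      refine (congrArg (e.hom ≫ ·) (hπfst k)).trans ?_
      refine (hX.flip.isoPullback_hom_fst_assoc _).trans ?_
      exact (pullback.lift_fst _ _ _).symm
    · rw [Category.assoc]
      refine (congrArg (e.hom ≫ ·) (pullback.lift_snd _ _ _)).trans ?_
      exact hX.flip.isoPullback_hom_snd.trans (pullback.lift_snd _ _ _).symm
  have hcomm : rX ≫ fj = f ≫ rY := by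
    apply pullback.hom_ext
    · simp only [rX, rY, Category.assoc, hfj, pullback.lift_fst]
    · rw [Category.assoc, pullback.lift_snd, Category.assoc, pullback.lift_snd, ← hrX,
        Category.assoc]
      refine (congrArg (e.hom ≫ ·) hg').trans ?_
      exact e.hom_inv_id_assoc _
  refine ⟨k.left, k.hom, _, _, fj, pullback.fst _ _, pullback.snd _ _, pullback.snd _ _, rX, rY,
    hsqY, ?_, IsPullback.of_bot (by rw [hfj]; exact hrXu) hcomm hrY, hrY⟩
  rw [hfj]
  exact (IsPullback.of_hasPullback _ _).flip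

end Groth.SpectralTopology
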