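import Groth.Agent.SpectralTopology.ConsLemmas

set_option autoImplicit false

/-!
Finite and radicial are constructible properties.
-/

open AlgebraicGeometry CategoryTheory CategoryTheory.Limits Topology

namespace Groth.SpectralTopology

universe u

variable {X Y : Scheme.{u}}

theorem isCons_finite : ConsProp.IsCons.{u} (fun Y T g => AlgebraicGeometry.IsFinite g) := by
  refine ⟨fun Y Y' T T' g g' e h _ _ _ _ _ _ sq ↦ ?_, fun X S u _ _ _ _ ↦ ?_⟩
  · refine ⟨fun hg ↦ MorphismProperty.of_isPullback (P := @IsFinite) sq hg, fun hg' ↦ ?_⟩
    have : Surjective e :=
      MorphismProperty.of_isPullback (P := @Surjective) sq.flip (surjective_of_point h)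
    have : Finite Y' := by
      obtain ⟨t⟩ := (inferInstance : Nonempty T')
      have := g'.finite_preimage_singleton t
      have heq : g' ⁻¹' {t} = Set.univ := Set.eq_univ_of_forall fun y ↦ Subsingleton.elim _ _
      rw [heq] at this
      exact Set.finite_univ_iff.1 this
    have : Finite Y := Finite.of_surjective e e.surjective
    have : LocallyQuasiFinite g := .of_finite_preimage_singleton g fun _ ↦ Set.toFinite _
    exact IsFinite.of_locallyQuasiFinite g
  · rw [locus_isFinite]
    have : LocallyOfFinitePresentation u :=
      LocallyOfFinitePresentation.iff_locallyOfFiniteType.2 inferInstance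
    have : CompactSpace X := QuasiCompact.compactSpace_of_compactSpace u
    have : IsLocallyNoetherian X := LocallyOfFiniteType.isLocallyNoetherian u
    have : AlgebraicGeometry.IsNoetherian X := {}
    exact interior_nonempty_or_of_isConstructible
      (u.isConstructible_image (isConstructible_of_isClosed u.quasiFiniteLocus.isOpen.isClosed_compl)).compl

theorem isCons_ui : ConsProp.IsCons.{u} (fun Y T g => AlgebraicGeometry.UniversallyInjective g) := by
  refine ⟨fun Y Y' T T' g g' e h _ _ _ _ _ _ sq ↦ ?_, fun X S u _ _ _ _ ↦ ?_⟩
  · refine ⟨fun hg ↦ MorphismProperty.of_isPullback (P := @UniversallyInjective) sq hg, fun hg' ↦ ?_⟩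
    have := surjective_of_point h
    exact universallyInjective_descend sq
  · rw [locus_universallyInjective]
    have : IsLocallyNoetherian X := LocallyOfFiniteType.isLocallyNoetherian u
    have : CompactSpace X := QuasiCompact.compactSpace_of_compactSpace u
    have : QuasiCompact (pullback.fst u u ≫ u) := inferInstance
    have : LocallyOfFinitePresentation (pullback.fst u u ≫ u) :=
      LocallyOfFinitePresentation.iff_locallyOfFiniteType.2 inferInstance
    have : IsLocallyNoetherian ↑(pullback u u) :=
      LocallyOfFiniteType.isLocallyNoetherian (pullback.fst u u)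
    have : CompactSpace ↑(pullback u u) :=
      QuasiCompact.compactSpace_of_compactSpace (pullback.fst u u)
    have : AlgebraicGeometry.IsNoetherian (pullback u u) := {}
    have hd : IsConstructible (Set.range (pullback.diagonal u)) :=
      isConstructible_of_isLocallyClosed (pullback.diagonal u).isLocallyClosed_range
    exact interior_nonempty_or_of_isConstructible
      ((pullback.fst u u ≫ u).isConstructible_image hd.compl).compl

end Groth.SpectralTopology
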