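import Groth.Agent.SpectralTopology.ConsBase
import Groth.Agent.Limits.Topology

set_option autoImplicit false

/-!
EGA IV 9.3.2-9.3.4, formal part: loci are (ind-)constructible as soon as, over each affine open,
they come from a Noetherian base; passage to the limit.
-/

open AlgebraicGeometry CategoryTheory CategoryTheory.Limits Topology TopologicalSpace

namespace Groth.SpectralTopology

universe u

variable {X Y S : Scheme.{u}}

theorem isLocallyConstructible_of_affines {E : Set S}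
    (h : ∀ V : S.Opens, IsAffineOpen V → IsConstructible (⇑V.ι ⁻¹' E)) :
    IsLocallyConstructible E := by
  intro x
  obtain ⟨_, ⟨V, hV, rfl⟩, hxV, -⟩ :=
    S.isBasis_affineOpens.exists_subset_of_mem_open (Set.mem_univ x) isOpen_univ
  exact ⟨V, V.isOpen.mem_nhds hxV, V.isOpen, h V hV⟩

theorem isIndConstructible_of_affines {E : Set S}
    (h : ∀ V : S.Opens, IsAffineOpen V → ∀ x ∈ ⇑V.ι ⁻¹' E,
      ∃ C : Set V.toScheme, IsConstructible C ∧ x ∈ C ∧ C ⊆ ⇑V.ι ⁻¹' E) :
    ProCons.IsIndConstructible E := by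
  intro x
  obtain ⟨_, ⟨V, hV, rfl⟩, hxV, -⟩ :=
    S.isBasis_affineOpens.exists_subset_of_mem_open (Set.mem_univ x) isOpen_univ
  refine ⟨V, V.isOpen, hxV,
    {T | IsLocallyConstructible T ∧ T ⊆ Subtype.val ⁻¹' E}, fun T hT ↦ hT.1, ?_⟩
  refine Set.Subset.antisymm (fun y hy ↦ ?_) (Set.sUnion_subset fun T hT ↦ hT.2)
  obtain ⟨C, hC, hyC, hCE⟩ := h V hV y hy
  exact ⟨C, ⟨hC.isLocallyConstructible, hCE⟩, hyC⟩

section Pair

variable {P : ∀ ⦃X Y T : Scheme.{u}⦄, (X ⟶ T) → (Y ⟶ T) → Prop}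

/-- A common Noetherian model of two morphisms. -/
structure PairModel (u : X ⟶ S) (v : Y ⟶ S) where
  S₀ : Scheme.{u}
  [noetherian : AlgebraicGeometry.IsNoetherian S₀]
  h : S ⟶ S₀
  X₀ : Scheme.{u}
  Y₀ : Scheme.{u}
  u₀ : X₀ ⟶ S₀
  v₀ : Y₀ ⟶ S₀
  [lftu : LocallyOfFiniteType u₀]
  [qcu : QuasiCompact u₀]
  [lftv : LocallyOfFiniteType v₀]
  [qcv : QuasiCompact v₀]
  qX : X ⟶ X₀
  qY : Y ⟶ Y₀
  hX : IsPullback qX u u₀ h
  hY : IsPullback qY v v₀ h

theorem isConstructible_locusPair_of_model (hP : ConsPropPair.IsConsPair P) {u : X ⟶ S} {v : Y ⟶ S}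
    (M : PairModel u v) : IsConstructible (ConsPropPair.locusPair P u v) := by
  have := M.noetherian; have := M.lftu; have := M.qcu; have := M.lftv; have := M.qcv
  rw [locusPair_preimage hP.1 M.hX M.hY]
  exact M.h.isConstructible_preimage (isConstructible_locusPair hP M.u₀ M.v₀)

theorem exists_constructible_locusPair_of_model (hP : ConsPropPair.IsIndConsPair P)
    {u : X ⟶ S} {v : Y ⟶ S} (M : PairModel u v) {s : S}
    (hs : s ∈ ConsPropPair.locusPair P u v) :
    ∃ C : Set S, IsConstructible C ∧ s ∈ C ∧ C ⊆ ConsPropPair.locusPair P u v := by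
  have := M.noetherian; have := M.lftu; have := M.qcu; have := M.lftv; have := M.qcv
  rw [locusPair_preimage hP.1 M.hX M.hY] at hs ⊢
  obtain ⟨C, hC, hsC, hCE⟩ := exists_constructible_locusPair hP M.u₀ M.v₀ hs
  exact ⟨_, M.h.isConstructible_preimage hC, hsC, Set.preimage_mono hCE⟩

end Pair

section Mor

variable {P : ∀ ⦃X Y T : Scheme.{u}⦄, (X ⟶ Y) → (Y ⟶ T) → Prop}

/-- A Noetherian model of a morphism of schemes over a base. -/
structure MorModel (f : X ⟶ Y) (g : Y ⟶ S) where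
  S₀ : Scheme.{u}
  [noetherian : AlgebraicGeometry.IsNoetherian S₀]
  h : S ⟶ S₀
  X₀ : Scheme.{u}
  Y₀ : Scheme.{u}
  f₀ : X₀ ⟶ Y₀
  g₀ : Y₀ ⟶ S₀
  [lftg : LocallyOfFiniteType g₀]
  [qcg : QuasiCompact g₀]
  [lftfg : LocallyOfFiniteType (f₀ ≫ g₀)]
  [qcfg : QuasiCompact (f₀ ≫ g₀)]
  qX : X ⟶ X₀
  qY : Y ⟶ Y₀
  hX : IsPullback qX f f₀ qY
  hY : IsPullback qY g g₀ h

theorem isConstructible_locusMor_of_model (hP : ConsProp.IsConsMor P) {f : X ⟶ Y} {g : Y ⟶ S}
    (M : MorModel f g) : IsConstructible (ConsProp.locusMor P f g) := by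
  have := M.noetherian; have := M.lftg; have := M.qcg; have := M.lftfg; have := M.qcfg
  rw [locusMor_preimage hP.1 M.hX M.hY]
  exact M.h.isConstructible_preimage (isConstructible_locusMor hP M.f₀ M.g₀)

theorem exists_constructible_locusMor_of_model (hP : ConsProp.IsIndConsMor P)
    {f : X ⟶ Y} {g : Y ⟶ S} (M : MorModel f g) {s : S}
    (hs : s ∈ ConsProp.locusMor P f g) :
    ∃ C : Set S, IsConstructible C ∧ s ∈ C ∧ C ⊆ ConsProp.locusMor P f g := by
  have := M.noetherian; have := M.lftg; have := M.qcg; have := M.lftfg; have := M.qcfg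
  rw [locusMor_preimage hP.1 M.hX M.hY] at hs ⊢
  obtain ⟨C, hC, hsC, hCE⟩ := exists_constructible_locusMor hP M.f₀ M.g₀ hs
  exact ⟨_, M.h.isConstructible_preimage hC, hsC, Set.preimage_mono hCE⟩

end Mor

section Limit

variable {I : Type u} [Category.{u} I] [IsCofiltered I] (D : I ⥤ Scheme.{u})
  [∀ (i j : I) (f : i ⟶ j), IsAffineHom (D.map f)] (c : Cone D) (hc : IsLimit c)

include hc in
/-- If an ind-constructible set contains the image of the limit, it is everything at some stage. -/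
theorem exists_preimage_eq_univ_of_isIndConstructible {i₀ : I} [CompactSpace (D.obj i₀)]
    {E : Set (D.obj i₀)} (hE : ProCons.IsIndConstructible E)
    (h : ∀ x, c.π.app i₀ x ∈ E) : ∃ (j : I) (φ : j ⟶ i₀), ∀ t, D.map φ t ∈ E := by
  obtain ⟨j, φ, hj⟩ := Groth.Limits.exists_preimage_subset D c hc (E := Set.univ) (F := E)
    Groth.Limits.pc_univ.qcImage (Groth.Limits.pc_compl_of_isIndConstructible hE)
    (fun x _ ↦ h x)
  exact ⟨j, φ, fun t ↦ hj trivial⟩

end Limit

end Groth.SpectralTopology
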