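import Groth.Agent.Limits.OpenPullback
import Groth.Agent.Limits.Topology
import Mathlib.AlgebraicGeometry.Morphisms.FinitePresentation
import Mathlib.AlgebraicGeometry.Morphisms.QuasiSeparated

set_option autoImplicit false
set_option backward.isDefEq.respectTransparency false

/-!
EGA IV 8.8.2: models of a scheme over the limit of a system at a stage; morphisms between models,
two models of the same scheme agree at a later stage.
-/

open AlgebraicGeometry CategoryTheory CategoryTheory.Limits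

namespace Groth.SpectralTopology

universe u

variable {I : Type u} [Category.{u} I] [IsCofiltered I] {D : I ⥤ Scheme.{u}}
  [∀ (i j : I) (f : i ⟶ j), IsAffineHom (D.map f)] {c : Cone D}

/-- A model of `f : X ⟶ lim D` at the stage `i`: a morphism of finite presentation whose base
change is `f`. -/
structure StageModel {X : Scheme.{u}} (f : X ⟶ c.pt) (i : I) where
  obj : Scheme.{u}
  hom : obj ⟶ D.obj i
  map : X ⟶ obj
  [lfp : LocallyOfFinitePresentation hom]
  [qc : QuasiCompact hom]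
  [qs : QuasiSeparated hom]
  sq : IsPullback map f hom (c.π.app i)

attribute [instance] StageModel.lfp StageModel.qc StageModel.qs

namespace StageModel

variable {X : Scheme.{u}} {f : X ⟶ c.pt} {i j k l : I}

/-- The base change of a model to a later stage. -/
noncomputable abbrev pull (M : StageModel f i) (φ : j ⟶ i) : StageModel f j where
  obj := pullback (D.map φ) M.hom
  hom := pullback.fst _ _
  map := pullback.lift (f ≫ c.π.app j) M.map (by rw [Category.assoc, c.w, M.sq.w])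
  lfp := MorphismProperty.pullback_fst _ _ inferInstance
  qc := MorphismProperty.pullback_fst _ _ inferInstance
  qs := MorphismProperty.pullback_fst _ _ inferInstance
  sq := IsPullback.of_right (by rw [pullback.lift_snd, c.w]; exact M.sq)
    (pullback.lift_fst _ _ _) (IsPullback.of_hasPullback _ _).flip

/-- Projection of the pulled back model to the model. -/
noncomputable abbrev proj (M : StageModel f i) (φ : j ⟶ i) : (M.pull φ).obj ⟶ M.obj :=
  pullback.snd _ _

omit [IsCofiltered I] in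
theorem map_proj (M : StageModel f i) (φ : j ⟶ i) : (M.pull φ).map ≫ M.proj φ = M.map :=
  pullback.lift_snd _ _ _

omit [IsCofiltered I] in
theorem proj_hom (M : StageModel f i) (φ : j ⟶ i) :
    M.proj φ ≫ M.hom = (M.pull φ).hom ≫ D.map φ :=
  pullback.condition.symm

/-- Transition map between two pullbacks of a model. -/
noncomputable def trans (M : StageModel f i) {φ : j ⟶ i} {χ : k ⟶ i} (ψ : k ⟶ j)
    (h : ψ ≫ φ = χ) : (M.pull χ).obj ⟶ (M.pull φ).obj :=
  pullback.lift ((M.pull χ).hom ≫ D.map ψ) (M.proj χ)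
    (by rw [Category.assoc, ← D.map_comp, h, proj_hom])

omit [IsCofiltered I] in
@[reassoc (attr := simp)]
theorem trans_hom (M : StageModel f i) {φ : j ⟶ i} {χ : k ⟶ i} (ψ : k ⟶ j) (h : ψ ≫ φ = χ) :
    M.trans ψ h ≫ (M.pull φ).hom = (M.pull χ).hom ≫ D.map ψ :=
  pullback.lift_fst _ _ _

omit [IsCofiltered I] in
@[reassoc (attr := simp)]
theorem trans_proj (M : StageModel f i) {φ : j ⟶ i} {χ : k ⟶ i} (ψ : k ⟶ j) (h : ψ ≫ φ = χ) :
    M.trans ψ h ≫ M.proj φ = M.proj χ :=
  pullback.lift_snd _ _ _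

omit [IsCofiltered I] in
theorem map_trans (M : StageModel f i) {φ : j ⟶ i} {χ : k ⟶ i} (ψ : k ⟶ j) (h : ψ ≫ φ = χ) :
    (M.pull χ).map ≫ M.trans ψ h = (M.pull φ).map := by
  apply pullback.hom_ext
  · rw [Category.assoc, trans_hom, pullback.lift_fst_assoc, pullback.lift_fst, Category.assoc, c.w]
  · rw [Category.assoc, trans_proj, map_proj, pullback.lift_snd]

omit [IsCofiltered I] in
theorem isPullback_trans (M : StageModel f i) {φ : j ⟶ i} {χ : k ⟶ i} (ψ : k ⟶ j)
    (h : ψ ≫ φ = χ) :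
    IsPullback (M.trans ψ h) (M.pull χ).hom (M.pull φ).hom (D.map ψ) :=
  IsPullback.of_right (by rw [trans_proj, ← D.map_comp, h]; exact (IsPullback.of_hasPullback _ _).flip)
    (trans_hom M ψ h) (IsPullback.of_hasPullback _ _).flip

omit [IsCofiltered I] in
theorem trans_trans (M : StageModel f i) {φ : j ⟶ i} {χ : k ⟶ i} {ω : l ⟶ i} (ψ : k ⟶ j)
    (ψ' : l ⟶ k) (h : ψ ≫ φ = χ) (h' : ψ' ≫ χ = ω) :
    M.trans ψ' h' ≫ M.trans ψ h = M.trans (ψ' ≫ ψ) (by rw [Category.assoc, h, h']) := by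
  apply pullback.hom_ext
  · simp [trans, D.map_comp]
  · simp [trans]

section Hom

variable [∀ i, CompactSpace (D.obj i)] [∀ i, QuasiSeparatedSpace (D.obj i)] (hc : IsLimit c)

/-- The transformation to the constant diagram. -/
noncomputable def toBase (M : StageModel f i) :
    Groth.Limits.pullbackDiagram D i M.hom ⟶ (Functor.const (Over i)).obj (D.obj i) where
  app k := pullback.fst (D.map k.hom) M.hom ≫ D.map k.hom
  naturality k l ψ := by
    change (Groth.Limits.pullbackDiagram D i M.hom).map ψ ≫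
      pullback.fst (D.map l.hom) M.hom ≫ D.map l.hom = _ ≫ 𝟙 _
    have hfst : (Groth.Limits.pullbackDiagram D i M.hom).map ψ ≫ pullback.fst (D.map l.hom) M.hom =
        pullback.fst (D.map k.hom) M.hom ≫ D.map ψ.left := pullback.lift_fst _ _ _
    rw [Category.comp_id, ← Category.assoc]
    refine (congrArg (· ≫ D.map l.hom) hfst).trans ?_
    rw [Category.assoc, ← D.map_comp, Over.w]

instance compactSpace_diagram (M : StageModel f i) (k : Over i) :
    CompactSpace ((Groth.Limits.pullbackDiagram D i M.hom).obj k) :=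
  QuasiCompact.compactSpace_of_compactSpace (M.pull k.hom).hom

instance quasiSeparatedSpace_diagram (M : StageModel f i) (k : Over i) :
    QuasiSeparatedSpace ((Groth.Limits.pullbackDiagram D i M.hom).obj k) :=
  quasiSeparatedSpace_of_quasiSeparated (M.pull k.hom).hom

omit [∀ i, CompactSpace (D.obj i)] [∀ i, QuasiSeparatedSpace (D.obj i)] in
theorem isoPullback_π (M : StageModel f i) (k : Over i) :
    M.sq.flip.isoPullback.hom ≫ (Groth.Limits.pullbackCone D i M.hom c).π.app k =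
      (M.pull k.hom).map := by
  apply pullback.hom_ext
  · rw [Category.assoc]
    refine (congrArg (M.sq.flip.isoPullback.hom ≫ ·) (pullback.lift_fst _ _ _)).trans ?_
    refine (M.sq.flip.isoPullback_hom_fst_assoc _).trans ?_
    exact (pullback.lift_fst _ _ _).symm
  · rw [Category.assoc]
    refine (congrArg (M.sq.flip.isoPullback.hom ≫ ·) (pullback.lift_snd _ _ _)).trans ?_
    exact M.sq.flip.isoPullback_hom_snd.trans (pullback.lift_snd _ _ _).symm

include hc in
/-- A morphism out of the limit into a scheme locally of finite presentation over a stage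
factors through a stage. -/
theorem exists_hom (M : StageModel f i) {Z : Scheme.{u}} (g₁ : Z ⟶ D.obj i)
    [LocallyOfFinitePresentation g₁] (a : X ⟶ Z) (ha : a ≫ g₁ = f ≫ c.π.app i) :
    ∃ (j : I) (φ : j ⟶ i) (g : (M.pull φ).obj ⟶ Z),
      g ≫ g₁ = (M.pull φ).hom ≫ D.map φ ∧ (M.pull φ).map ≫ g = a := by
  let e : X ≅ pullback (c.π.app i) M.hom := M.sq.flip.isoPullback
  have ha' : (Groth.Limits.pullbackCone D i M.hom c).π ≫ M.toBase =
      (Functor.const (Over i)).map ((e.inv ≫ a) ≫ g₁) := by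
    ext k : 2
    change (Groth.Limits.pullbackCone D i M.hom c).π.app k ≫
      pullback.fst (D.map k.hom) M.hom ≫ D.map k.hom = (e.inv ≫ a) ≫ g₁
    rw [Category.assoc, ha, ← Category.assoc]
    refine (congrArg (· ≫ D.map k.hom) (pullback.lift_fst _ _ _)).trans ?_
    refine (Category.assoc _ _ _).trans ?_
    refine (congrArg (pullback.fst (c.π.app i) M.hom ≫ ·) (c.w k.hom)).trans ?_
    exact (M.sq.flip.isoPullback_inv_fst_assoc _).symm
  obtain ⟨k, g, hg, hg₁⟩ := Scheme.exists_π_app_comp_eq_of_locallyOfFinitePresentation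
    (Groth.Limits.pullbackDiagram D i M.hom) M.toBase g₁ (Groth.Limits.pullbackCone D i M.hom c)
    (Groth.Limits.isLimitPullbackCone D i M.hom hc) (e.inv ≫ a) ha'
  refine ⟨k.left, k.hom, g, hg₁, ?_⟩
  rw [← isoPullback_π M k, Category.assoc]
  exact (congrArg (e.hom ≫ ·) hg).trans (e.hom_inv_id_assoc a)

include hc in
/-- Two morphisms from a stage that agree on the limit agree at a later stage. -/
theorem exists_trans_comp_eq (M : StageModel f i) {Z : Scheme.{u}} (g₁ : Z ⟶ D.obj i)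
    [LocallyOfFiniteType g₁] {φ : j ⟶ i} (g g' : (M.pull φ).obj ⟶ Z)
    (hg : g ≫ g₁ = (M.pull φ).hom ≫ D.map φ) (hg' : g' ≫ g₁ = (M.pull φ).hom ≫ D.map φ)
    (he : (M.pull φ).map ≫ g = (M.pull φ).map ≫ g') :
    ∃ (k : I) (ψ : k ⟶ j), M.trans ψ rfl ≫ g = M.trans ψ rfl ≫ g' := by
  have he' : (Groth.Limits.pullbackCone D i M.hom c).π.app (Over.mk φ) ≫ g =
      (Groth.Limits.pullbackCone D i M.hom c).π.app (Over.mk φ) ≫ g' := by
    rw [← cancel_epi M.sq.flip.isoPullback.hom]
    refine ((reassoc_of% (isoPullback_π M (Over.mk φ))) g).trans ?_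
    exact he.trans ((reassoc_of% (isoPullback_π M (Over.mk φ))) g').symm
  obtain ⟨k, ψ, hψ⟩ := Scheme.exists_hom_comp_eq_comp_of_locallyOfFiniteType
    (Groth.Limits.pullbackDiagram D i M.hom) M.toBase g₁ (Groth.Limits.pullbackCone D i M.hom c)
    (Groth.Limits.isLimitPullbackCone D i M.hom hc) (i := Over.mk φ) g g' hg.symm hg'.symm he'
  refine ⟨k.left, ψ.left, ?_⟩
  have hh : ψ.left ≫ φ = k.hom := Over.w ψ
  have ht : (Groth.Limits.pullbackDiagram D i M.hom).map ψ = M.trans ψ.left hh := by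
    apply pullback.hom_ext
    · exact (pullback.lift_fst _ _ _).trans (trans_hom M _ _).symm
    · exact (pullback.lift_snd _ _ _).trans (trans_proj M _ _).symm
  rw [ht] at hψ
  have key : ∀ (χ : k.left ⟶ i) (h : ψ.left ≫ φ = χ),
      M.trans ψ.left h ≫ g = M.trans ψ.left h ≫ g' →
        M.trans ψ.left rfl ≫ g = M.trans ψ.left rfl ≫ g' := by
    rintro χ rfl h; exact h
  exact key _ hh hψ

end Hom

section Iso

variable {M N : StageModel f i}

/-- Base change of a morphism between pulled back models. -/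
noncomputable def bcHom {φ : j ⟶ i} {χ : k ⟶ i} (ψ : k ⟶ j) (hψ : ψ ≫ φ = χ)
    (h : (M.pull φ).obj ⟶ (N.pull φ).obj) (w : h ≫ (N.pull φ).hom = (M.pull φ).hom) :
    (M.pull χ).obj ⟶ (N.pull χ).obj :=
  (N.isPullback_trans ψ hψ).lift (M.trans ψ hψ ≫ h) (M.pull χ).hom
    (by rw [Category.assoc, w, trans_hom])

variable {φ : j ⟶ i} {χ : k ⟶ i} (ψ : k ⟶ j) (hψ : ψ ≫ φ = χ)
    (h : (M.pull φ).obj ⟶ (N.pull φ).obj) (w : h ≫ (N.pull φ).hom = (M.pull φ).hom)

omit [IsCofiltered I] in
@[reassoc (attr := simp)]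
theorem bcHom_trans : bcHom ψ hψ h w ≫ N.trans ψ hψ = M.trans ψ hψ ≫ h :=
  IsPullback.lift_fst _ _ _ _

omit [IsCofiltered I] in
@[reassoc (attr := simp)]
theorem bcHom_hom : bcHom ψ hψ h w ≫ (N.pull χ).hom = (M.pull χ).hom :=
  IsPullback.lift_snd _ _ _ _

omit [IsCofiltered I] in
theorem map_bcHom (hm : (M.pull φ).map ≫ h = (N.pull φ).map) :
    (M.pull χ).map ≫ bcHom ψ hψ h w = (N.pull χ).map := by
  apply (N.isPullback_trans ψ hψ).hom_ext
  · rw [Category.assoc, bcHom_trans, reassoc_of% (map_trans M ψ hψ), hm, map_trans]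
  · rw [Category.assoc, bcHom_hom, pullback.lift_fst, pullback.lift_fst]

variable [∀ i, CompactSpace (D.obj i)] [∀ i, QuasiSeparatedSpace (D.obj i)] (hc : IsLimit c)

include hc in
/-- A morphism of models compatible with the maps from `X` exists at a later stage. -/
theorem exists_comparison (M N : StageModel f i) :
    ∃ (j : I) (φ : j ⟶ i) (h : (M.pull φ).obj ⟶ (N.pull φ).obj),
      h ≫ (N.pull φ).hom = (M.pull φ).hom ∧ (M.pull φ).map ≫ h = (N.pull φ).map := by
  obtain ⟨j, φ, g, hg, hg'⟩ := M.exists_hom hc N.hom N.map N.sq.w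
  refine ⟨j, φ, pullback.lift (M.pull φ).hom g hg.symm, pullback.lift_fst _ _ _, ?_⟩
  apply pullback.hom_ext
  · rw [Category.assoc, pullback.lift_fst, pullback.lift_fst, pullback.lift_fst]
  · rw [Category.assoc, pullback.lift_snd, hg', pullback.lift_snd]

include hc in
/-- A compatible endomorphism of a model is the identity at a later stage. -/
theorem exists_bcHom_eq_id (M : StageModel f i) {φ : j ⟶ i} (h : (M.pull φ).obj ⟶ (M.pull φ).obj)
    (w : h ≫ (M.pull φ).hom = (M.pull φ).hom) (hm : (M.pull φ).map ≫ h = (M.pull φ).map) :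
    ∃ (k : I) (ψ : k ⟶ j), bcHom ψ rfl h w = 𝟙 _ := by
  obtain ⟨k, ψ, hk⟩ := M.exists_trans_comp_eq hc M.hom (h ≫ M.proj φ) (M.proj φ)
    (by rw [Category.assoc, proj_hom, reassoc_of% w]) (proj_hom M φ) (by rw [reassoc_of% hm])
  refine ⟨k, ψ, ?_⟩
  apply pullback.hom_ext
  · rw [Category.id_comp]; exact bcHom_hom _ _ _ _
  · change bcHom ψ rfl h w ≫ M.proj _ = 𝟙 _ ≫ M.proj _
    rw [Category.id_comp, ← trans_proj M ψ rfl, bcHom_trans_assoc, hk]

include hc in
/-- Two models of the same morphism agree at a later stage. -/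
theorem exists_iso (M N : StageModel f i) :
    ∃ (j : I) (φ : j ⟶ i) (e : (M.pull φ).obj ≅ (N.pull φ).obj),
      e.hom ≫ (N.pull φ).hom = (M.pull φ).hom ∧ (M.pull φ).map ≫ e.hom = (N.pull φ).map := by
  obtain ⟨j₁, φ₁, a, ha, ha'⟩ := exists_comparison hc M N
  obtain ⟨j₂, φ₂, b, hb, hb'⟩ := exists_comparison hc N M
  obtain ⟨j, ψ₁, ψ₂, hψ⟩ := IsCofiltered.cospan φ₁ φ₂
  let φ := ψ₁ ≫ φ₁
  have h₂ : ψ₂ ≫ φ₂ = φ := hψ.symm
  let A := bcHom ψ₁ (rfl : ψ₁ ≫ φ₁ = φ) a ha
  let B := bcHom ψ₂ h₂ b hb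
  have hA : A ≫ (N.pull φ).hom = (M.pull φ).hom := bcHom_hom _ _ _ _
  have hB : B ≫ (M.pull φ).hom = (N.pull φ).hom := bcHom_hom _ _ _ _
  have hA' : (M.pull φ).map ≫ A = (N.pull φ).map := map_bcHom _ _ _ _ ha'
  have hB' : (N.pull φ).map ≫ B = (M.pull φ).map := map_bcHom _ _ _ _ hb'
  have hAB : (A ≫ B) ≫ (M.pull φ).hom = (M.pull φ).hom := by rw [Category.assoc, hB, hA]
  obtain ⟨k, ψ, hk⟩ := M.exists_bcHom_eq_id hc (A ≫ B) hAB (by rw [reassoc_of% hA', hB'])
  have hBA : (bcHom ψ rfl B hB ≫ bcHom ψ rfl A hA) ≫ (N.pull (ψ ≫ φ)).hom =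
      (N.pull (ψ ≫ φ)).hom := by rw [Category.assoc, bcHom_hom, bcHom_hom]
  obtain ⟨l, ω, hl⟩ := N.exists_bcHom_eq_id hc _ hBA
    (by rw [reassoc_of% (map_bcHom ψ rfl B hB hB'), map_bcHom ψ rfl A hA hA'])
  let A' := bcHom ω rfl (bcHom ψ rfl A hA) (bcHom_hom _ _ _ _)
  let B' := bcHom ω rfl (bcHom ψ rfl B hB) (bcHom_hom _ _ _ _)
  have hA₁ : bcHom ψ rfl A hA ≫ (N.pull (ψ ≫ φ)).hom = (M.pull (ψ ≫ φ)).hom :=
    bcHom_hom ψ rfl A hA
  refine ⟨l, ω ≫ ψ ≫ φ, ⟨A', B', ?_, ?_⟩, bcHom_hom ω rfl (bcHom ψ rfl A hA) hA₁,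
    map_bcHom ω rfl (bcHom ψ rfl A hA) hA₁ (map_bcHom ψ rfl A hA hA')⟩
  · have hk' : bcHom ψ rfl A hA ≫ bcHom ψ rfl B hB = 𝟙 _ := by
      refine Eq.trans ?_ hk
      apply (M.isPullback_trans ψ rfl).hom_ext
      · rw [Category.assoc, bcHom_trans, bcHom_trans_assoc, bcHom_trans]
      · rw [Category.assoc, bcHom_hom, bcHom_hom, bcHom_hom]
    apply (M.isPullback_trans ω rfl).hom_ext
    · simp only [A', B', Category.assoc, bcHom_trans, bcHom_trans_assoc, Category.id_comp]
      rw [hk', Category.comp_id]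
    · rw [Category.assoc, bcHom_hom, bcHom_hom, Category.id_comp]
  · refine Eq.trans ?_ hl
    apply (N.isPullback_trans ω rfl).hom_ext
    · rw [Category.assoc, bcHom_trans, bcHom_trans_assoc, bcHom_trans]
    · rw [Category.assoc, bcHom_hom, bcHom_hom, bcHom_hom]

end Iso

end StageModel

end Groth.SpectralTopology
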