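import Groth.Agent.SpectralTopology.SpreadPair
import Groth.Agent.SpectralTopology.StageModel
import Groth.Agent.SpectralTopology.ConsExamples
import Groth.Agent.SpectralTopology.ConsGlobal
import Groth.Agent.Limits.DescentStage
import Groth.Agent.Limits.ImmersionDescent
import Groth.Agent.Limits.HomDescent

set_option autoImplicit false
set_option backward.isDefEq.respectTransparency false

/-!
EGA IV 8.10.5 over Noetherian stages: properties of morphisms of finite presentation spread out.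
-/

open AlgebraicGeometry CategoryTheory CategoryTheory.Limits Topology

namespace Groth.SpectralTopology

universe u

/-- `Q` descends along limit systems of Noetherian schemes, for morphisms of finite presentation
into a stage. -/
def BaseSpreads (Q : MorphismProperty Scheme.{u}) : Prop :=
  ∀ {I : Type u} [SmallCategory I] [IsCofiltered I] (D : I ⥤ Scheme.{u}) (c : Cone D)
    (_ : IsLimit c) [∀ (i j : I) (a : i ⟶ j), IsAffineHom (D.map a)]
    [∀ i, CompactSpace (D.obj i)] [∀ i, QuasiSeparatedSpace (D.obj i)]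
    [∀ i, IsLocallyNoetherian (D.obj i)]
    {i : I} {X₀ : Scheme.{u}} (f₀ : X₀ ⟶ D.obj i)
    [LocallyOfFinitePresentation f₀] [QuasiCompact f₀] [QuasiSeparated f₀],
    Q (pullback.snd f₀ (c.π.app i)) → ∃ (j : I) (φ : j ⟶ i), Q (pullback.snd f₀ (D.map φ))

/-- Pulling back twice. -/
theorem prop_snd_snd_iff (Q : MorphismProperty Scheme.{u}) [Q.RespectsIso] {X S T T' : Scheme.{u}}
    (f : X ⟶ S) (a : T ⟶ S) (b : T' ⟶ T) :
    Q (pullback.snd (pullback.snd f a) b) ↔ Q (pullback.snd f (b ≫ a)) := by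
  rw [← pullbackLeftPullbackSndIso_hom_snd f a b]
  exact Q.cancel_left_of_respectsIso _ _

theorem spreads_of_baseSpreads {Q : MorphismProperty Scheme.{u}} [Q.RespectsIso]
    (h : BaseSpreads Q) : Spreads Q := by
  intro I _ _ D c hc _ _ _ _ i X₀ Y₀ f₀ g₀ _ _ _ _ _ _ X Y f g qY qX hY hX hQ
  let E := Groth.Limits.pullbackDiagram D i g₀
  have hE₁ (k : Over i) : CompactSpace (E.obj k) :=
    QuasiCompact.compactSpace_of_compactSpace (pullback.fst (D.map k.hom) g₀)
  have hE₂ (k : Over i) : QuasiSeparatedSpace (E.obj k) :=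
    quasiSeparatedSpace_of_quasiSeparated (pullback.fst (D.map k.hom) g₀)
  have hE₃ (k : Over i) : IsLocallyNoetherian (E.obj k) :=
    LocallyOfFiniteType.isLocallyNoetherian (pullback.fst (D.map k.hom) g₀)
  let p : E.obj (Over.mk (𝟙 i)) ⟶ Y₀ := pullback.snd (D.map (𝟙 i)) g₀
  have hp : (Groth.Limits.pullbackCone D i g₀ c).π.app (Over.mk (𝟙 i)) ≫ p =
      pullback.snd (c.π.app i) g₀ := pullback.lift_snd _ _ _
  have hQ' : Q (pullback.snd (pullback.snd f₀ p)
      ((Groth.Limits.pullbackCone D i g₀ c).π.app (Over.mk (𝟙 i)))) := by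
    rw [prop_snd_snd_iff Q, hp]
    exact Groth.Limits.prop_snd_of_isPullback Q hY hX hQ
  obtain ⟨k, ψ, hk⟩ := h E (Groth.Limits.pullbackCone D i g₀ c)
    (Groth.Limits.isLimitPullbackCone D i g₀ hc) (pullback.snd f₀ p) hQ'
  refine ⟨k.left, k.hom, ?_⟩
  rw [prop_snd_snd_iff Q] at hk
  have hψ : E.map ψ ≫ p = pullback.snd (D.map k.hom) g₀ := pullback.lift_snd _ _ _
  rwa [hψ] at hk

theorem baseSpreads_isIso : BaseSpreads.{u} (MorphismProperty.isomorphisms Scheme.{u}) := by
  intro I _ _ D c hc _ _ _ _ i X₀ f₀ _ _ _ h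
  have : IsIso (pullback.snd f₀ (c.π.app i)) := h
  let M : StageModel (pullback.snd f₀ (c.π.app i)) i :=
    { obj := X₀, hom := f₀, map := pullback.fst _ _, sq := IsPullback.of_hasPullback _ _ }
  let N : StageModel (pullback.snd f₀ (c.π.app i)) i :=
    { obj := D.obj i, hom := 𝟙 _, map := pullback.snd _ _ ≫ c.π.app i,
      sq := (IsPullback.of_vert_isIso ⟨by rw [Category.comp_id]⟩) }
  obtain ⟨j, φ, e, he, -⟩ := StageModel.exists_iso hc M N
  refine ⟨j, φ, ?_⟩
  have : IsIso (pullback.fst (D.map φ) f₀) := by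
    change IsIso (M.pull φ).hom
    rw [← he]
    have : IsIso (N.pull φ).hom := inferInstanceAs (IsIso (pullback.fst (D.map φ) (𝟙 (D.obj i))))
    infer_instance
  show IsIso (pullback.snd f₀ (D.map φ))
  rw [← pullbackSymmetry_hom_comp_fst]
  infer_instance

theorem spreads_isIso : Spreads.{u} (MorphismProperty.isomorphisms Scheme.{u}) :=
  spreads_of_baseSpreads baseSpreads_isIso

theorem mono_iff_isIso_fst_self {X S : Scheme.{u}} (f : X ⟶ S) :
    Mono f ↔ IsIso (pullback.fst f f) := by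
  refine ⟨fun _ ↦ inferInstance, fun h ↦ ⟨fun {W} a b hab ↦ ?_⟩⟩
  have hd : pullback.fst f f ≫ pullback.diagonal f = 𝟙 _ := by
    rw [← cancel_mono (pullback.fst f f), Category.assoc, pullback.diagonal_fst, Category.comp_id,
      Category.id_comp]
  have : pullback.fst f f = pullback.snd f f := by
    conv_rhs => rw [← Category.id_comp (pullback.snd f f), ← hd, Category.assoc,
      pullback.diagonal_snd, Category.comp_id]
  rw [← pullback.lift_fst a b hab, this, pullback.lift_snd]

/-- The first projection of the self product commutes with base change. -/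
theorem exists_isPullback_fst_self {X S T : Scheme.{u}} (f : X ⟶ S) (a : T ⟶ S) :
    ∃ m, IsPullback m (pullback.fst (pullback.snd f a) (pullback.snd f a)) (pullback.fst f f)
      (pullback.fst f a) := by
  let f' := pullback.snd f a
  have sq : IsPullback (pullback.snd f' f' ≫ pullback.fst f a) (pullback.fst f' f') f
      (f' ≫ a) :=
    (IsPullback.of_hasPullback f' f').flip.paste_horiz (IsPullback.of_hasPullback f a)
  have s₂ := (IsPullback.of_hasPullback f f).flip
  rw [← pullback.condition] at sq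
  refine ⟨s₂.lift (pullback.snd f' f' ≫ pullback.fst f a) (pullback.fst f' f' ≫ pullback.fst f a)
    (by rw [sq.w, Category.assoc]), ?_⟩
  exact IsPullback.of_right (by rw [s₂.lift_fst]; exact sq) (s₂.lift_snd _ _ _) s₂

theorem baseSpreads_mono : BaseSpreads.{u} (MorphismProperty.monomorphisms Scheme.{u}) := by
  intro I _ _ D c hc _ _ _ _ i X₀ f₀ _ _ _ h
  have : Mono (pullback.snd f₀ (c.π.app i)) := h
  obtain ⟨m, hm⟩ := exists_isPullback_fst_self f₀ (c.π.app i)
  obtain ⟨j, φ, hj⟩ := spreads_isIso D c hc (pullback.fst f₀ f₀) f₀ _ (pullback.snd f₀ (c.π.app i))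
    (pullback.fst f₀ (c.π.app i)) m (IsPullback.of_hasPullback _ _) hm
    ((mono_iff_isIso_fst_self _).1 this)
  refine ⟨j, φ, (mono_iff_isIso_fst_self _).2 ?_⟩
  obtain ⟨m', hm'⟩ := exists_isPullback_fst_self f₀ (D.map φ)
  replace hm' : IsPullback m' (pullback.fst (pullback.snd f₀ (D.map φ)) (pullback.snd f₀ (D.map φ)))
      (pullback.fst f₀ f₀) ((pullbackSymmetry f₀ (D.map φ)).hom ≫ pullback.snd (D.map φ) f₀) := by
    rw [pullbackSymmetry_hom_comp_snd]; exact hm'
  let s := IsPullback.of_hasPullback (pullback.fst f₀ f₀) (pullback.snd (D.map φ) f₀)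
  have sq := IsPullback.of_right (h₁₁ := s.lift m' (pullback.fst (pullback.snd f₀ (D.map φ))
    (pullback.snd f₀ (D.map φ)) ≫ (pullbackSymmetry f₀ (D.map φ)).hom)
      (by rw [hm'.w, Category.assoc])) (by rw [s.lift_fst]; exact hm') (s.lift_snd _ _ _) s
  exact MorphismProperty.of_isPullback (P := MorphismProperty.isomorphisms Scheme.{u}) sq hj

theorem spreads_mono : Spreads.{u} (MorphismProperty.monomorphisms Scheme.{u}) :=
  spreads_of_baseSpreads baseSpreads_mono

theorem baseSpreads_isOpenImmersion : BaseSpreads.{u} @IsOpenImmersion := by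
  intro I _ _ D c hc _ _ _ _ i X₀ f₀ _ _ _ h
  obtain ⟨j, φ, hj⟩ := baseSpreads_mono D c hc f₀
    (show Mono (pullback.snd f₀ (c.π.app i)) from inferInstance)
  have : Mono (pullback.snd f₀ (D.map φ)) := hj
  obtain ⟨k, ψ, hk⟩ := Groth.Limits.exists_isOpenImmersion_stage (i := j) D
    (pullback.snd f₀ (D.map φ)) hc (by
      rw [prop_snd_snd_iff @IsOpenImmersion, c.w]; exact h)
  rw [prop_snd_snd_iff @IsOpenImmersion, ← D.map_comp] at hk
  exact ⟨k, ψ ≫ φ, hk⟩

theorem baseSpreads_surjective : BaseSpreads.{u} @Surjective := by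
  intro I _ _ D c hc _ _ _ _ i X₀ f₀ _ _ _ h
  have : IsConstructible (Set.range f₀) := by
    rw [← Set.image_univ]; exact f₀.isConstructible_image IsConstructible.univ
  obtain ⟨j, φ, hj⟩ := Groth.Limits.exists_preimage_subset D c hc (E := Set.univ)
    (F := Set.range f₀) Groth.Limits.pc_univ.qcImage
    (Groth.Limits.pc_compl_of_isConstructible this) (fun x _ ↦ by
      obtain ⟨y, rfl⟩ := h.surj x
      exact ⟨pullback.fst f₀ (c.π.app i) y, by
        rw [← Scheme.Hom.comp_apply, pullback.condition, Scheme.Hom.comp_apply]⟩)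
  refine ⟨j, φ, ⟨fun t ↦ ?_⟩⟩
  obtain ⟨x, hx⟩ := hj (show t ∈ ⇑(D.map φ) ⁻¹' Set.univ from trivial)
  obtain ⟨z, -, hz⟩ := Scheme.Pullback.exists_preimage_pullback x t hx
  exact ⟨z, hz⟩

/-- A constructible locus that is everything in the limit is everything at a stage. -/
theorem exists_locus_eq_univ {P : ∀ ⦃Y T : Scheme.{u}⦄, (Y ⟶ T) → Prop} (hP : ConsProp.IsCons P)
    {I : Type u} [SmallCategory I] [IsCofiltered I] (D : I ⥤ Scheme.{u}) (c : Cone D)
    (hc : IsLimit c) [∀ (i j : I) (a : i ⟶ j), IsAffineHom (D.map a)]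
    {i : I} [CompactSpace (D.obj i)] [IsLocallyNoetherian (D.obj i)] {X₀ : Scheme.{u}}
    (f₀ : X₀ ⟶ D.obj i) [LocallyOfFiniteType f₀] [QuasiCompact f₀]
    (h : ConsProp.locus P (pullback.snd f₀ (c.π.app i)) = Set.univ) :
    ∃ (j : I) (φ : j ⟶ i), ConsProp.locus P (pullback.snd f₀ (D.map φ)) = Set.univ := by
  have : AlgebraicGeometry.IsNoetherian (D.obj i) := {}
  have hC := isConstructible_locus hP f₀
  rw [locus_preimage hP.1 (IsPullback.of_hasPullback f₀ (c.π.app i))] at h
  obtain ⟨j, φ, hj⟩ := Groth.Limits.exists_preimage_subset D c hc (E := Set.univ)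
    (F := ConsProp.locus P f₀) Groth.Limits.pc_univ.qcImage
    (Groth.Limits.pc_compl_of_isConstructible hC) (fun x _ ↦ h.symm.subset trivial)
  refine ⟨j, φ, ?_⟩
  rw [locus_preimage hP.1 (IsPullback.of_hasPullback f₀ (D.map φ))]
  exact Set.eq_univ_of_univ_subset hj

theorem universallyInjective_iff_locus {X S : Scheme.{u}} (u : X ⟶ S) :
    UniversallyInjective u ↔
      ConsProp.locus (fun _ _ g ↦ UniversallyInjective g) u = Set.univ := by
  rw [locus_universallyInjective, Set.compl_univ_iff, Set.image_eq_empty, Set.compl_empty_iff,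
    universallyInjective_eq_diagonal]
  exact ⟨fun h ↦ Set.range_eq_univ.2 h.surj, fun h ↦ ⟨Set.range_eq_univ.1 h⟩⟩

theorem baseSpreads_universallyInjective : BaseSpreads.{u} @UniversallyInjective := by
  intro I _ _ D c hc _ _ _ _ i X₀ f₀ _ _ _ h
  obtain ⟨j, φ, hj⟩ := exists_locus_eq_univ isCons_ui D c hc f₀
    ((universallyInjective_iff_locus _).1 h)
  exact ⟨j, φ, (universallyInjective_iff_locus _).2 hj⟩

theorem locallyQuasiFinite_iff_locus {X S : Scheme.{u}} (u : X ⟶ S) [LocallyOfFiniteType u]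
    [QuasiCompact u] :
    LocallyQuasiFinite u ↔ ConsProp.locus (fun _ _ g ↦ IsFinite g) u = Set.univ := by
  rw [locus_isFinite, Set.compl_univ_iff, Set.image_eq_empty, Set.compl_empty_iff,
    TopologicalSpace.Opens.coe_eq_univ, Scheme.Hom.quasiFiniteLocus_eq_top_iff]

/-- Morphisms of finite type that are quasi-finite. -/
def quasiFiniteHom : MorphismProperty Scheme.{u} := fun _ _ f ↦
  LocallyOfFiniteType f ∧ QuasiCompact f ∧ LocallyQuasiFinite f

instance : quasiFiniteHom.{u}.IsStableUnderBaseChange :=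
  ⟨fun {_ _ _ _ _ _ _ _} sq h ↦ ⟨MorphismProperty.of_isPullback sq h.1,
    MorphismProperty.of_isPullback sq h.2.1, MorphismProperty.of_isPullback sq h.2.2⟩⟩

instance : quasiFiniteHom.{u}.RespectsIso := MorphismProperty.IsStableUnderBaseChange.respectsIso

theorem baseSpreads_quasiFiniteHom : BaseSpreads.{u} quasiFiniteHom.{u} := by
  intro I _ _ D c hc _ _ _ _ i X₀ f₀ _ _ _ h
  obtain ⟨j, φ, hj⟩ := exists_locus_eq_univ isCons_finite D c hc f₀
    ((locallyQuasiFinite_iff_locus _).1 h.2.2)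
  exact ⟨j, φ, inferInstance, inferInstance, (locallyQuasiFinite_iff_locus _).2 hj⟩

theorem spreads_isAffineHom : Spreads.{u} @IsAffineHom := by
  intro I _ _ D c hc _ _ _ _ i X₀ Y₀ f₀ g₀ _ _ _ _ _ _ X Y f g qY qX hY hX hQ
  have : CompactSpace Y₀ := QuasiCompact.compactSpace_of_compactSpace g₀
  obtain ⟨j, hj⟩ := Groth.Limits.exists_isAffineHom_stage hc hY hX
  exact ⟨j.left, j.hom, hj⟩

theorem spreads_isClosedImmersion : Spreads.{u} @IsClosedImmersion := by
  intro I _ _ D c hc _ _ _ _ i X₀ Y₀ f₀ g₀ _ _ _ _ _ _ X Y f g qY qX hY hX hQ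
  have : CompactSpace Y₀ := QuasiCompact.compactSpace_of_compactSpace g₀
  obtain ⟨j, hj⟩ := Groth.Limits.exists_isClosedImmersion_stage hc hY hX
  exact ⟨j.left, j.hom, hj⟩

theorem spreads_isFinite : Spreads.{u} @IsFinite := by
  intro I _ _ D c hc _ _ _ _ i X₀ Y₀ f₀ g₀ _ _ _ _ _ _ X Y f g qY qX hY hX hQ
  have : CompactSpace Y₀ := QuasiCompact.compactSpace_of_compactSpace g₀
  obtain ⟨j, hj⟩ := Groth.Limits.exists_isFinite_stage hc hY hX
  exact ⟨j.left, j.hom, hj⟩

theorem spreads_isSeparated : Spreads.{u} @IsSeparated := by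
  intro I _ _ D c hc _ _ _ _ i X₀ Y₀ f₀ g₀ _ _ _ _ _ _ X Y f g qY qX hY hX hQ
  have : CompactSpace Y₀ := QuasiCompact.compactSpace_of_compactSpace g₀
  obtain ⟨j, hj⟩ := Groth.Limits.exists_isSeparated_stage hc hY hX
  exact ⟨j.left, j.hom, hj⟩

theorem spreads_isImmersion : Spreads.{u} @IsImmersion := by
  intro I _ _ D c hc _ _ _ _ i X₀ Y₀ f₀ g₀ _ _ _ _ _ _ X Y f g qY qX hY hX hQ
  have : CompactSpace Y₀ := QuasiCompact.compactSpace_of_compactSpace g₀
  have : CompactSpace X₀ := QuasiCompact.compactSpace_of_compactSpace f₀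
  obtain ⟨j, hj⟩ := Groth.Limits.exists_isImmersion_stage hc hY hX
  exact ⟨j.left, j.hom, hj⟩

end Groth.SpectralTopology
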