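import Groth.Agent.GenericFree.Presentation
import Mathlib.LinearAlgebra.TensorProduct.RightExactness
import Mathlib.RingTheory.Localization.FractionRing

set_option autoImplicit false

/-!
EGA IV 9.4.2: exactness at the generic fibre spreads to the neighbouring fibres.
-/

open TensorProduct

namespace Groth.SpectralTopology

universe u

variable {R : Type u} [CommRing R]

/-- An injective map with cokernel killed by powers of `f` becomes bijective where `f` is a unit. -/
theorem bijective_baseChange_of_cofinal {M N : Type u} [AddCommGroup M] [Module R M]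
    [AddCommGroup N] [Module R N] (φ : M →ₗ[R] N) (hφ : Function.Injective φ) {f : R}
    (hs : ∀ n, ∃ (k : ℕ) (z : M), φ z = f ^ k • n) (K : Type u) [CommRing K] [Algebra R K]
    (hu : IsUnit (algebraMap R K f)) :
    Function.Bijective (φ.baseChange K) := by
  obtain ⟨w, hw⟩ := hu.exists_left_inv
  have hwf (k : ℕ) : (w ^ k : K) * algebraMap R K (f ^ k) = 1 := by
    rw [map_pow, ← mul_pow, hw, one_pow]
  choose k z hz using hs
  have wd (n : N) (l : ℕ) (y : M) (hy : φ y = f ^ l • n) :
      (w ^ k n) ⊗ₜ[R] z n = (w ^ l) ⊗ₜ[R] y := by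
    have e : f ^ l • z n = f ^ k n • y := hφ (by rw [map_smul, map_smul, hz, hy, smul_comm])
    calc (w ^ k n) ⊗ₜ[R] z n = (w ^ k n * (w ^ l * algebraMap R K (f ^ l))) ⊗ₜ[R] z n := by
            rw [hwf, mul_one]
      _ = (w ^ k n * w ^ l) ⊗ₜ[R] (f ^ l • z n) := by
            rw [← mul_assoc, mul_comm _ (algebraMap R K _), ← Algebra.smul_def, smul_tmul]
      _ = (w ^ l * (w ^ k n * algebraMap R K (f ^ k n))) ⊗ₜ[R] y := by
            rw [e, ← smul_tmul, Algebra.smul_def, mul_comm (algebraMap R K _), mul_comm (w ^ k n) (w ^ l),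
              mul_assoc]
      _ = (w ^ l) ⊗ₜ[R] y := by rw [hwf, mul_one]
  let Ψ : N →ₗ[R] K ⊗[R] M :=
    { toFun n := (w ^ k n) ⊗ₜ[R] z n
      map_add' a b := by
        rw [wd (a + b) (k a + k b) (f ^ k b • z a + f ^ k a • z b) (by
          rw [map_add, map_smul, map_smul, hz, hz, smul_smul, smul_smul, ← pow_add, ← pow_add,
            smul_add, add_comm (k b)]), TensorProduct.tmul_add, ← smul_tmul, ← smul_tmul,
          Algebra.smul_def, Algebra.smul_def, pow_add]
        congr 1
        · rw [show algebraMap R K (f ^ k b) * (w ^ k a * w ^ k b) =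
            w ^ k a * (w ^ k b * algebraMap R K (f ^ k b)) by ring, hwf, mul_one]
        · rw [show algebraMap R K (f ^ k a) * (w ^ k a * w ^ k b) =
            w ^ k b * (w ^ k a * algebraMap R K (f ^ k a)) by ring, hwf, mul_one]
      map_smul' r a := by
        rw [wd (r • a) (k a) (r • z a) (by rw [map_smul, hz, smul_comm]), TensorProduct.tmul_smul,
          RingHom.id_apply] }
  have hΨφ (m : M) : Ψ (φ m) = 1 ⊗ₜ[R] m := by
    show _ = _
    rw [show (Ψ (φ m)) = (w ^ k (φ m)) ⊗ₜ[R] z (φ m) from rfl, wd (φ m) 0 m (by simp), pow_zero]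
  refine Function.bijective_iff_has_inverse.2 ⟨Ψ.liftBaseChange K, fun x ↦ ?_, fun x ↦ ?_⟩
  · induction x using TensorProduct.induction_on with
    | zero => simp
    | add a b ha hb => rw [map_add, map_add, ha, hb]
    | tmul c m =>
      rw [LinearMap.baseChange_tmul, LinearMap.liftBaseChange_tmul, hΨφ, smul_tmul', smul_eq_mul,
        mul_one]
  · induction x using TensorProduct.induction_on with
    | zero => simp
    | add a b ha hb => rw [map_add, map_add, ha, hb]
    | tmul c n =>
      rw [LinearMap.liftBaseChange_tmul, map_smul, show Ψ n = (w ^ k n) ⊗ₜ[R] z n from rfl,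
        LinearMap.baseChange_tmul, hz, TensorProduct.tmul_smul, smul_tmul', smul_tmul',
        smul_eq_mul, Algebra.smul_def, mul_comm (algebraMap R K (f ^ k n)) (w ^ k n), hwf, mul_one]

variable [IsDomain R] {B : Type u} [CommRing B] [Algebra R B] [Algebra.FiniteType R B]

theorem exists_smul_eq_zero_of_tmul {N : Type u} [AddCommGroup N] [Module R N] {n : N}
    (h : (1 : FractionRing R) ⊗ₜ[R] n = 0) : ∃ r : R, r ≠ 0 ∧ r • n = 0 := by
  have : IsLocalizedModule (nonZeroDivisors R) (TensorProduct.mk R (FractionRing R) N 1) :=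
    (isLocalizedModule_iff_isBaseChange (nonZeroDivisors R) (FractionRing R) _).2
      (TensorProduct.isBaseChange R N (FractionRing R))
  obtain ⟨⟨r, hr⟩, h'⟩ := (IsLocalizedModule.eq_zero_iff (nonZeroDivisors R) _).1
    (show TensorProduct.mk R (FractionRing R) N 1 n = 0 from h)
  exact ⟨r, nonZeroDivisors.ne_zero hr, h'⟩

/-- The case of a complex. -/
theorem exists_forall_exact_of_comp_eq_zero
    {F G H : Type u} [AddCommGroup F] [Module B F] [Module R F] [IsScalarTower R B F]
    [AddCommGroup G] [Module B G] [Module R G] [IsScalarTower R B G] [Module.Finite B G]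
    [AddCommGroup H] [Module B H] [Module R H] [IsScalarTower R B H] [Module.Finite B H]
    (u : F →ₗ[B] G) (v : G →ₗ[B] H) (huv : v ∘ₗ u = 0)
    (hgen : Function.Exact ((u.restrictScalars R).baseChange (FractionRing R))
      ((v.restrictScalars R).baseChange (FractionRing R))) :
    ∃ f : R, f ≠ 0 ∧ ∀ (K : Type u) [Field K] [Algebra R K], algebraMap R K f ≠ 0 →
      Function.Exact ((u.restrictScalars R).baseChange K) ((v.restrictScalars R).baseChange K) := by
  let π := Submodule.mkQ (LinearMap.range u)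
  let vb : G ⧸ LinearMap.range u →ₗ[B] H := (LinearMap.range u).liftQ v
    (LinearMap.range_le_ker_iff.2 huv)
  have hvπ : vb ∘ₗ π = v := Submodule.liftQ_mkQ _ _ _
  have hexu : Function.Exact (u.restrictScalars R) (π.restrictScalars R) := LinearMap.exact_map_mkQ_range u
  obtain ⟨f₁, hf₁, ι₁, φ, hφ, hs₁⟩ :=
    Groth.GenericFree.gf_of_finiteType (R := R) B (G ⧸ LinearMap.range u)
  obtain ⟨f₂, hf₂, ι₂, φ₂, hφ₂, hs₂⟩ :=
    Groth.GenericFree.gf_of_finiteType (R := R) B (H ⧸ LinearMap.range v)
  let q := (Submodule.mkQ (LinearMap.range v)).restrictScalars R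
  have hq : Function.Surjective q := Submodule.mkQ_surjective (LinearMap.range v)
  let Φ : (ι₂ →₀ R) →ₗ[R] H :=
    Finsupp.linearCombination R fun i ↦ Function.surjInv hq (φ₂ (.single i 1))
  have hqΦ : q ∘ₗ Φ = φ₂ := Finsupp.lhom_ext fun i a ↦ by
    rw [LinearMap.comp_apply, Finsupp.linearCombination_single, map_smul,
      Function.surjInv_eq hq, ← map_smul, Finsupp.smul_single_one]
  let Θ : (ι₁ →₀ R) × (ι₂ →₀ R) →ₗ[R] H := ((vb.restrictScalars R) ∘ₗ φ).coprod Φ
  have hqv (c) : q (vb c) = 0 := by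
    obtain ⟨g, rfl⟩ := Submodule.mkQ_surjective _ c
    exact (Submodule.Quotient.mk_eq_zero _).2 ⟨g, (LinearMap.congr_fun hvπ g).symm⟩
  have hΘ : Function.Injective Θ := by
    rw [injective_iff_map_eq_zero]
    rintro ⟨a, b⟩ h
    simp only [Θ, LinearMap.coprod_apply, LinearMap.comp_apply, LinearMap.restrictScalars_apply] at h
    have hb : b = 0 := hφ₂ (by
      have := congrArg q h
      rw [map_add, hqv, zero_add, map_zero] at this
      rw [map_zero, ← this]
      exact (LinearMap.congr_fun hqΦ b).symm)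
    subst hb
    rw [map_zero, add_zero] at h
    obtain ⟨g, hg⟩ := Submodule.mkQ_surjective _ (φ a)
    have hvg : v g = 0 := by
      rw [← hvπ, LinearMap.comp_apply]
      exact (congrArg vb hg).trans h
    have h1 : (v.restrictScalars R).baseChange (FractionRing R) (1 ⊗ₜ g) = 0 := by
      rw [LinearMap.baseChange_tmul, LinearMap.restrictScalars_apply, hvg, tmul_zero]
    obtain ⟨x, hx⟩ := (hgen _).1 h1
    have h2 : (1 : FractionRing R) ⊗ₜ[R] (φ a) = 0 := by
      have hz : ((π.restrictScalars R) ∘ₗ (u.restrictScalars R)) = 0 := hexu.linearMap_comp_eq_zero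
      have := congrArg ((π.restrictScalars R).baseChange (FractionRing R)) hx
      rw [← LinearMap.comp_apply, ← LinearMap.baseChange_comp, hz, LinearMap.baseChange_zero,
        LinearMap.zero_apply, LinearMap.baseChange_tmul, LinearMap.restrictScalars_apply, hg] at this
      exact this.symm
    obtain ⟨r, hr, hra⟩ := exists_smul_eq_zero_of_tmul h2
    have : r • a = 0 := hφ (by rw [map_smul, hra, map_zero])
    rw [show a = 0 from (smul_eq_zero_iff_right hr).1 this]
    rfl
  refine ⟨f₁ * f₂, mul_ne_zero hf₁ hf₂, fun K _ _ hu ↦ ?_⟩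
  have hu₁ : IsUnit (algebraMap R K f₁) := IsUnit.mk0 _ (left_ne_zero_of_mul (map_mul (algebraMap R K) f₁ f₂ ▸ hu))
  have hcof : ∀ m : H, ∃ (k : ℕ) (z : (ι₁ →₀ R) × (ι₂ →₀ R)), Θ z = (f₁ * f₂) ^ k • m := by
    intro m
    obtain ⟨k, b, hb⟩ := hs₂ (q m)
    obtain ⟨c, hc⟩ : ∃ c, vb c = f₂ ^ k • m - Φ b := by
      have : q (f₂ ^ k • m - Φ b) = 0 := by
        rw [map_sub, map_smul, ← hb, ← LinearMap.comp_apply, hqΦ, sub_self]
      obtain ⟨g, hg⟩ := (Submodule.Quotient.mk_eq_zero _).1 this
      exact ⟨π g, (LinearMap.congr_fun hvπ g).trans hg⟩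
    obtain ⟨l, a, ha⟩ := hs₁ c
    refine ⟨k + l, ((f₁ ^ k * f₂ ^ l) • a, (f₁ ^ (k + l) * f₂ ^ l) • b), ?_⟩
    simp only [Θ, LinearMap.coprod_apply, LinearMap.comp_apply, LinearMap.restrictScalars_apply,
      map_smul, ha]
    rw [hc, smul_sub, smul_sub]
    simp only [smul_smul]
    module
  have hΘb := bijective_baseChange_of_cofinal Θ hΘ hcof K (IsUnit.mk0 _ hu)
  have hφb := bijective_baseChange_of_cofinal φ hφ hs₁ K hu₁
  have hinl : Function.Injective ((LinearMap.inl R (ι₁ →₀ R) (ι₂ →₀ R)).baseChange K) := by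
    refine Function.HasLeftInverse.injective ⟨(LinearMap.fst R _ _).baseChange K, fun x ↦ ?_⟩
    rw [← LinearMap.comp_apply, ← LinearMap.baseChange_comp, LinearMap.fst_comp_inl,
      LinearMap.baseChange_id, LinearMap.id_apply]
  have hvb : Function.Injective ((vb.restrictScalars R).baseChange K) := by
    intro x y hxy
    obtain ⟨x, rfl⟩ := hφb.2 x
    obtain ⟨y, rfl⟩ := hφb.2 y
    have key : ∀ z, (vb.restrictScalars R).baseChange K (φ.baseChange K z) =
        Θ.baseChange K ((LinearMap.inl R (ι₁ →₀ R) (ι₂ →₀ R)).baseChange K z) := fun z ↦ by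
      rw [← LinearMap.comp_apply, ← LinearMap.baseChange_comp, ← LinearMap.comp_apply,
        ← LinearMap.baseChange_comp, LinearMap.coprod_inl]
    exact congrArg _ (hinl (hΘb.1 ((key x).symm.trans (hxy.trans (key y)))))
  have hπs : Function.Surjective (π.restrictScalars R) := fun y ↦
    Submodule.mkQ_surjective (LinearMap.range u) y
  have hex := lTensor_exact K hexu hπs
  intro x
  have hv : (v.restrictScalars R).baseChange K x =
      (vb.restrictScalars R).baseChange K ((π.restrictScalars R).baseChange K x) := by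
    rw [← LinearMap.comp_apply, ← LinearMap.baseChange_comp]
    congr 2
  constructor
  · intro h
    rw [hv] at h
    exact (hex x).1 (hvb (h.trans (map_zero _).symm))
  · intro h
    rw [hv, show (π.restrictScalars R).baseChange K x = 0 from (hex x).2 h, map_zero]

omit [IsDomain R] in
theorem baseChange_exact_smul_iff {M N P : Type u} [AddCommGroup M] [Module R M]
    [AddCommGroup N] [Module R N] [AddCommGroup P] [Module R P] (a : M →ₗ[R] N) (b : N →ₗ[R] P)
    {r : R} (K : Type u) [Field K] [Algebra R K] (hr : algebraMap R K r ≠ 0) :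
    Function.Exact (a.baseChange K) ((r • b).baseChange K) ↔
      Function.Exact (a.baseChange K) (b.baseChange K) := by
  refine forall_congr' fun x ↦ iff_congr ?_ Iff.rfl
  rw [LinearMap.baseChange_smul, LinearMap.smul_apply, ← algebraMap_smul K, smul_eq_zero_iff_right hr]

/-- EGA IV 9.4.2. -/
theorem exists_forall_exact
    {F G H : Type u} [AddCommGroup F] [Module B F] [Module R F] [IsScalarTower R B F] [Module.Finite B F]
    [AddCommGroup G] [Module B G] [Module R G] [IsScalarTower R B G] [Module.Finite B G]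
    [AddCommGroup H] [Module B H] [Module R H] [IsScalarTower R B H] [Module.Finite B H]
    (u : F →ₗ[B] G) (v : G →ₗ[B] H)
    (hgen : Function.Exact ((u.restrictScalars R).baseChange (FractionRing R))
      ((v.restrictScalars R).baseChange (FractionRing R))) :
    ∃ f : R, f ≠ 0 ∧ ∀ (K : Type u) [Field K] [Algebra R K], algebraMap R K f ≠ 0 →
      Function.Exact ((u.restrictScalars R).baseChange K) ((v.restrictScalars R).baseChange K) := by
  obtain ⟨s, hs⟩ := (inferInstance : Module.Finite B F).fg_top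
  have hz : ∀ x : F, ∃ r : R, r ≠ 0 ∧ r • v (u x) = 0 := fun x ↦ by
    refine exists_smul_eq_zero_of_tmul ?_
    have := (hgen ((u.restrictScalars R).baseChange (FractionRing R) (1 ⊗ₜ x))).2 ⟨_, rfl⟩
    simpa using this
  choose r hr hrx using hz
  let r₀ := ∏ x ∈ s, r x
  have hr₀ : r₀ ≠ 0 := Finset.prod_ne_zero_iff.2 fun x _ ↦ hr x
  have huv : (r₀ • v) ∘ₗ u = 0 := by
    refine LinearMap.ext_on hs fun x hx ↦ ?_
    show r₀ • v (u x) = 0
    obtain ⟨c, hc⟩ := Finset.dvd_prod_of_mem r (Finset.mem_coe.1 hx)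
    rw [show r₀ = c * r x from hc.trans (mul_comm _ _), mul_smul, hrx, smul_zero]
  have he : (r₀ • v).restrictScalars R = r₀ • v.restrictScalars R := rfl
  have hK : algebraMap R (FractionRing R) r₀ ≠ 0 :=
    ((FaithfulSMul.algebraMap_injective R (FractionRing R)).ne_iff' (map_zero _)).2 hr₀
  obtain ⟨f, hf, hfK⟩ := exists_forall_exact_of_comp_eq_zero u (r₀ • v) huv
    (by rw [he]; exact (baseChange_exact_smul_iff _ _ _ hK).2 hgen)
  refine ⟨r₀ * f, mul_ne_zero hr₀ hf, fun K _ _ h ↦ ?_⟩
  rw [map_mul] at h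
  have := hfK K (right_ne_zero_of_mul h)
  rw [he] at this
  exact (baseChange_exact_smul_iff _ _ _ (left_ne_zero_of_mul h)).1 this

end Groth.SpectralTopology
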