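import Groth.Agent.SpectralTopology.Spectral
import Mathlib.Topology.Order
import Mathlib.Topology.Compactness.Compact

set_option autoImplicit false

/-!
Products of spectral spaces and powers of the Sierpinski space.
-/

open Topology TopologicalSpace Set

namespace Groth.SpectralTopology

universe u

variable {X Y : Type*} [TopologicalSpace X] [TopologicalSpace Y]

/-- A space with a basis of compact opens stable under intersection is quasi-separated. -/
theorem quasiSeparatedSpace_of_basis {ι : Type*} {b : ι → Set X}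
    (hb : IsTopologicalBasis (range b)) (hc : ∀ i, IsCompact (b i))
    (hi : ∀ i j, IsCompact (b i ∩ b j)) : QuasiSeparatedSpace X := by
  constructor
  intro U V hUo hUc hVo hVc
  obtain ⟨s, hs, rfl⟩ := eq_finite_iUnion_of_isTopologicalBasis_of_isCompact_open b hb U hUc hUo
  obtain ⟨t, ht, rfl⟩ := eq_finite_iUnion_of_isTopologicalBasis_of_isCompact_open b hb V hVc hVo
  simp only [iUnion_inter, inter_iUnion]
  exact ht.isCompact_biUnion fun j _ ↦ hs.isCompact_biUnion fun i _ ↦ hi i j

theorem spectralSpace_prod [SpectralSpace X] [SpectralSpace Y] : SpectralSpace (X × Y) := by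
  let b : {U : Set X // IsOpen U ∧ IsCompact U} × {V : Set Y // IsOpen V ∧ IsCompact V} →
    Set (X × Y) := fun p ↦ p.1.1 ×ˢ p.2.1
  have hb : IsTopologicalBasis (range b) := by
    have := (PrespectralSpace.isTopologicalBasis (X := X)).prod
      (PrespectralSpace.isTopologicalBasis (X := Y))
    convert this using 1
    ext W
    constructor
    · rintro ⟨⟨U, V⟩, rfl⟩
      exact ⟨U.1, U.2, V.1, V.2, rfl⟩
    · rintro ⟨U, hU, V, hV, rfl⟩
      exact ⟨⟨⟨U, hU⟩, ⟨V, hV⟩⟩, rfl⟩
  have hc : ∀ p, IsCompact (b p) := fun p ↦ p.1.2.2.prod p.2.2.2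
  have : PrespectralSpace (X × Y) := .of_isTopologicalBasis' hb hc
  have : QuasiSeparatedSpace (X × Y) := quasiSeparatedSpace_of_basis hb hc fun p q ↦ by
    rw [prod_inter_prod]
    exact (QuasiSeparatedSpace.inter_isCompact _ _ p.1.2.1 p.1.2.2 q.1.2.1 q.1.2.2).prod
      (QuasiSeparatedSpace.inter_isCompact _ _ p.2.2.1 p.2.2.2 q.2.2.1 q.2.2.2)
  have : QuasiSober (X × Y) := by
    constructor
    intro Z hZ hZc
    have h1 := (hZ.image Prod.fst continuous_fst.continuousOn).closure
    have h2 := (hZ.image Prod.snd continuous_snd.continuousOn).closure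
    have g1 := h1.isGenericPoint_genericPoint isClosed_closure
    have g2 := h2.isGenericPoint_genericPoint isClosed_closure
    set ξ := h1.genericPoint
    set η := h2.genericPoint
    have hcl : ∀ z ∈ Z, (ξ, η) ⤳ z := fun z hz ↦
      (g1.specializes (subset_closure (mem_image_of_mem _ hz))).prod
        (g2.specializes (subset_closure (mem_image_of_mem _ hz)))
    have hmem : (ξ, η) ∈ Z := by
      rw [← hZc.closure_eq, hb.mem_closure_iff]
      rintro _ ⟨p, rfl⟩ ⟨hξ, hη⟩
      obtain ⟨_, hxU, ⟨z₁, hz₁, rfl⟩⟩ := mem_closure_iff.1 g1.mem _ p.1.2.1 hξ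
      obtain ⟨_, hyV, ⟨z₂, hz₂, rfl⟩⟩ := mem_closure_iff.1 g2.mem _ p.2.2.1 hη
      obtain ⟨z, hz, hz1, hz2⟩ := hZ.2 _ _ (p.1.2.1.preimage continuous_fst)
        (p.2.2.1.preimage continuous_snd) ⟨z₁, hz₁, hxU⟩ ⟨z₂, hz₂, hyV⟩
      exact ⟨z, ⟨hz1, hz2⟩, hz⟩
    exact ⟨(ξ, η), Subset.antisymm (closure_minimal (singleton_subset_iff.2 hmem) hZc)
      fun z hz ↦ specializes_iff_mem_closure.1 (hcl z hz)⟩
  constructor

section Sierpinski

variable {I : Type u}

/-- The basic open subsets of a power of the Sierpinski space. -/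
def basicOpen (F : Finset I) : Set (I → Prop) := {x | ∀ i ∈ F, x i}

theorem isOpen_basicOpen (F : Finset I) : IsOpen (basicOpen F) := by
  have : basicOpen F = ⋂ i ∈ F, (fun x : I → Prop ↦ x i) ⁻¹' {True} := by
    ext x; simp [basicOpen]
  rw [this]
  exact isOpen_biInter_finset fun i _ ↦ isOpen_singleton_true.preimage (continuous_apply i)

theorem isTopologicalBasis_basicOpen :
    IsTopologicalBasis (range (basicOpen : Finset I → Set (I → Prop))) := by
  classical
  refine isTopologicalBasis_of_isOpen_of_nhds (by rintro _ ⟨F, rfl⟩; exact isOpen_basicOpen F) ?_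
  intro x W hxW hW
  obtain ⟨s, t, ht, hts⟩ := isOpen_pi_iff.1 hW x hxW
  refine ⟨basicOpen (s.filter fun i ↦ x i), ⟨_, rfl⟩, fun i hi ↦ (Finset.mem_filter.1 hi).2,
    fun y hy ↦ hts fun i hi ↦ ?_⟩
  obtain ⟨hto, hxt⟩ := ht i hi
  by_cases hx : x i
  · have : y i := hy i (Finset.mem_filter.2 ⟨hi, hx⟩)
    rwa [eq_true this, ← eq_true hx]
  · have : (False : Prop) ∈ t i := eq_false hx ▸ hxt
    have huniv : t i = univ := by
      have := hto.mem_nhds this
      rwa [nhds_false, Filter.mem_top] at this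
    rw [huniv]
    trivial

theorem isCompact_basicOpen (F : Finset I) : IsCompact (basicOpen F) := by
  classical
  refine isCompact_of_finite_subcover fun {ι} U hU hcov ↦ ?_
  obtain ⟨i, hi⟩ := mem_iUnion.1 (hcov (show (fun j ↦ j ∈ F) ∈ basicOpen F from fun j hj ↦ hj))
  refine ⟨{i}, fun y hy ↦ mem_iUnion₂.2 ⟨i, Finset.mem_singleton_self i, ?_⟩⟩
  obtain ⟨_, ⟨G, rfl⟩, hG, hGU⟩ :=
    isTopologicalBasis_basicOpen.exists_subset_of_mem_open hi (hU i)
  exact hGU fun j hj ↦ hy j (hG j hj)

instance spectralSpace_sierpinski_power : SpectralSpace (I → Prop) := by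
  classical
  have hb := isTopologicalBasis_basicOpen (I := I)
  have : CompactSpace (I → Prop) := ⟨by simpa [basicOpen] using isCompact_basicOpen (∅ : Finset I)⟩
  have : PrespectralSpace (I → Prop) := .of_isTopologicalBasis' hb isCompact_basicOpen
  have : QuasiSeparatedSpace (I → Prop) :=
    quasiSeparatedSpace_of_basis hb isCompact_basicOpen fun F G ↦ by
      have : basicOpen F ∩ basicOpen G = basicOpen (F ∪ G) := by
        ext x; simp [basicOpen, or_imp, forall_and]
      rw [this]
      exact isCompact_basicOpen _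
  have hsub : ∀ x y : I → Prop, (∀ i, y i → x i) → x ⤳ y := fun x y h ↦
    specializes_iff_forall_open.2 fun W hW hy ↦ by
      obtain ⟨_, ⟨F, rfl⟩, hF, hFW⟩ := hb.exists_subset_of_mem_open hy hW
      exact hFW fun i hi ↦ h i (hF i hi)
  have hconv : ∀ x y : I → Prop, x ⤳ y → ∀ i, y i → x i := fun x y h i hi ↦
    h.mem_open (isOpen_basicOpen {i}) (fun j hj ↦ Finset.mem_singleton.1 hj ▸ hi) i
      (Finset.mem_singleton_self i)
  have : T0Space (I → Prop) := ⟨fun x y h ↦ funext fun i ↦
    propext ⟨hconv y x h.specializes' i, hconv x y h.specializes i⟩⟩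
  have : QuasiSober (I → Prop) := by
    constructor
    intro Z hZ hZc
    refine ⟨fun i ↦ ∃ z ∈ Z, z i, Subset.antisymm (closure_minimal (singleton_subset_iff.2 ?_) hZc)
      fun z hz ↦ specializes_iff_mem_closure.1 (hsub _ _ fun i hi ↦ ⟨z, hz, hi⟩)⟩
    suffices h : (fun i ↦ ∃ z ∈ Z, z i) ∈ closure Z by rwa [hZc.closure_eq] at h
    rw [hb.mem_closure_iff]
    rintro _ ⟨F, rfl⟩ hF
    suffices ∀ G : Finset I, G ⊆ F → (basicOpen G ∩ Z).Nonempty from this F subset_rfl
    intro G
    induction G using Finset.induction_on with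
    | empty => intro _; obtain ⟨z, hz⟩ := hZ.nonempty; exact ⟨z, by simp [basicOpen], hz⟩
    | @insert i G _ ih =>
      intro hsubF
      obtain ⟨hi, hG⟩ := Finset.insert_subset_iff.1 hsubF
      obtain ⟨z, hz, hzi⟩ := hF i hi
      obtain ⟨w, hwG, hw⟩ := ih hG
      obtain ⟨v, hv, hvi, hvG⟩ := hZ.2 _ _ (isOpen_basicOpen {i}) (isOpen_basicOpen G)
        ⟨z, hz, fun j hj ↦ Finset.mem_singleton.1 hj ▸ hzi⟩ ⟨w, hw, hwG⟩
      refine ⟨v, fun j hj ↦ ?_, hv⟩
      rcases Finset.mem_insert.1 hj with rfl | hj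
      · exact hvi _ (Finset.mem_singleton_self _)
      · exact hvG j hj
  constructor

end Sierpinski

end Groth.SpectralTopology
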