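import Groth.Agent.SpectralTopology.Spectral
import Groth.Agent.SpectralTopology.SpectralProd
import Mathlib.Topology.Category.TopCat.Limits.Cofiltered
import Mathlib.Topology.Connected.Separation
import Mathlib.CategoryTheory.Filtered.Basic

set_option autoImplicit false

/-!
Limits of spectral spaces along spectral maps.
-/

open Topology TopologicalSpace Set CategoryTheory CategoryTheory.Limits

namespace Groth.SpectralTopology

universe u

instance t2Space_withConstructibleTopology {X : Type*} [TopologicalSpace X] [T0Space X]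
    [PrespectralSpace X] : T2Space (WithConstructibleTopology X) := by
  have h : @T2Space X (constructibleTopology X) := t2Space_ct
  exact @T2Space.of_injective_continuous _ X _ (constructibleTopology X) h _
    (WithTopology.ofTopology_injective _) (WithTopology.continuous_ofTopology _)

theorem continuous_ofTopology_spectral {X : Type*} [TopologicalSpace X] [PrespectralSpace X] :
    Continuous (WithTopology.ofTopology : WithConstructibleTopology X → X) :=
  continuous_le_rng constructibleTopology_le (WithTopology.continuous_ofTopology _)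

theorem isClosed_preimage_ofTopology {X : Type*} [TopologicalSpace X] {Z : Set X}
    (hZ : IsClosed[constructibleTopology X] Z) :
    IsClosed (WithTopology.ofTopology ⁻¹' Z : Set (WithConstructibleTopology X)) :=
  @IsClosed.preimage _ X _ (constructibleTopology X) _ (WithTopology.continuous_ofTopology _) _ hZ

theorem continuous_withCT {X Y : Type*} [TopologicalSpace X] [TopologicalSpace Y] {f : X → Y}
    (hf : IsSpectralMap f) :
    Continuous fun x : WithConstructibleTopology X ↦
      (WithTopology.toTopology _ (f x.ofTopology) : WithConstructibleTopology Y) :=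
  @Continuous.comp (WithConstructibleTopology X) Y (WithConstructibleTopology Y) _
    (constructibleTopology Y) _ _ _ (WithTopology.continuous_toTopology _)
    (@Continuous.comp (WithConstructibleTopology X) X Y _ (constructibleTopology X)
      (constructibleTopology Y) _ _ (continuous_ct hf) (WithTopology.continuous_ofTopology _))

section General

variable {J : Type u} [SmallCategory J] {F : J ⥤ TopCat.{u}} {c : Cone F}

theorem exists_of_compatible (hc : IsLimit c) (x : ∀ j, F.obj j)
    (hx : ∀ {i j : J} (a : i ⟶ j), F.map a (x i) = x j) :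
    ∃ p : c.pt, ∀ j, c.π.app j p = x j :=
  ⟨(Types.isLimitEquivSections (isLimitOfPreserves (forget TopCat) hc)).symm ⟨x, fun a ↦ hx a⟩,
    fun j ↦ Types.isLimitEquivSections_symm_apply
      (isLimitOfPreserves (forget TopCat) hc) ⟨x, fun a ↦ hx a⟩ j⟩

theorem ext_of_isLimit (hc : IsLimit c) {p q : c.pt}
    (h : ∀ j, c.π.app j p = c.π.app j q) : p = q :=
  (Types.isLimitEquivSections (isLimitOfPreserves (forget TopCat) hc)).injective
    (Subtype.ext (funext h))

theorem map_π_app (c : Cone F) {i j : J} (a : i ⟶ j) (p : c.pt) :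
    F.map a (c.π.app i p) = c.π.app j p := by
  rw [← c.w a]; rfl

theorem continuous_iff_π (hc : IsLimit c) {T : Type*} [TopologicalSpace T] (g : T → c.pt) :
    Continuous g ↔ ∀ j, Continuous fun t ↦ c.π.app j (g t) := by
  have h : Continuous[_, c.pt.str] g ↔ Continuous[_, ⨅ j, (F.obj j).str.induced (c.π.app j)] g := by
    rw [TopCat.induced_of_isLimit c hc]
  rw [continuous_iInf_rng] at h
  simp only [continuous_induced_rng] at h
  exact h

variable [hF : ∀ j, SpectralSpace (F.obj j)]

/-- The product of the factors with their constructible topologies. -/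
abbrev CtProd (F : J ⥤ TopCat.{u}) : Type u := ∀ j, WithConstructibleTopology (F.obj j)

/-- The map from the limit to the product. -/
def toCtProd (c : Cone F) (p : c.pt) : CtProd F := fun j ↦ WithTopology.toTopology _ (c.π.app j p)

variable (hFm : ∀ {i j : J} (a : i ⟶ j), IsSpectralMap (F.map a : F.obj i → F.obj j))
include hFm

theorem isClosed_compatible {i j : J} (a : i ⟶ j) :
    IsClosed {x : CtProd F | F.map a (x i).ofTopology = (x j).ofTopology} := by
  have heq : {x : CtProd F | F.map a (x i).ofTopology = (x j).ofTopology} =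
      {x | WithTopology.toTopology _ (F.map a (x i).ofTopology) = x j} := by
    ext x
    exact ⟨fun h ↦ congrArg (WithTopology.toTopology (constructibleTopology (F.obj j))) h,
      fun h ↦ congrArg WithTopology.ofTopology h⟩
  rw [heq]
  exact isClosed_eq ((continuous_withCT (hFm a)).comp (continuous_apply i)) (continuous_apply j)

/-- Closed subsets of the product cut out compact subsets of the limit. -/
theorem isCompact_preimage_toCtProd (hc : IsLimit c) {C : Set (CtProd F)} (hC : IsClosed C) :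
    IsCompact (toCtProd c ⁻¹' C) := by
  let S : Set (CtProd F) := C ∩ ⋂ (i : J) (j : J) (a : i ⟶ j),
    {x | F.map a (x i).ofTopology = (x j).ofTopology}
  have hS : IsCompact S := (hC.inter (isClosed_iInter fun i ↦ isClosed_iInter fun j ↦
    isClosed_iInter fun a ↦ isClosed_compatible hFm a)).isCompact
  have hx : ∀ x : S, ∃ p : c.pt, ∀ j, c.π.app j p = (x.1 j).ofTopology := fun x ↦
    exists_of_compatible hc _ fun {i j} a ↦ mem_iInter.1 (mem_iInter.1 (mem_iInter.1 x.2.2 i) j) a
  choose g hg using hx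
  have hcont : Continuous g := (continuous_iff_π hc g).2 fun j ↦ by
    simp only [hg]
    exact continuous_ofTopology_spectral.comp ((continuous_apply j).comp continuous_subtype_val)
  have : CompactSpace S := isCompact_iff_compactSpace.1 hS
  convert isCompact_range hcont
  ext p
  constructor
  · intro hp
    refine ⟨⟨toCtProd c p, hp, mem_iInter.2 fun i ↦ mem_iInter.2 fun j ↦ mem_iInter.2 fun a ↦ map_π_app c a p⟩, ?_⟩
    exact ext_of_isLimit hc fun j ↦ hg _ j
  · rintro ⟨x, rfl⟩
    have : toCtProd c (g x) = x.1 := funext fun j ↦ congrArg (WithTopology.toTopology _) (hg x j)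
    simp only [mem_preimage, this]
    exact x.2.1

theorem isCompact_forall_mem (hc : IsLimit c) {Z : ∀ j, Set (F.obj j)}
    (hZ : ∀ j, IsClosed[constructibleTopology (F.obj j)] (Z j)) :
    IsCompact {p : c.pt | ∀ j, c.π.app j p ∈ Z j} := by
  have := isCompact_preimage_toCtProd hFm hc (C := ⋂ j, (fun x : CtProd F ↦ x j) ⁻¹'
    (WithTopology.ofTopology ⁻¹' Z j))
    (isClosed_iInter fun j ↦ (isClosed_preimage_ofTopology (hZ j)).preimage (continuous_apply j))
  convert this
  ext p
  simp [toCtProd]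

theorem isCompact_preimage_π (hc : IsLimit c) {i : J} {U : Set (F.obj i)}
    (hU : IsClosed[constructibleTopology (F.obj i)] U) : IsCompact (c.π.app i ⁻¹' U) := by
  have := isCompact_preimage_toCtProd hFm hc (C := (fun x : CtProd F ↦ x i) ⁻¹'
    (WithTopology.ofTopology ⁻¹' U))
    ((isClosed_preimage_ofTopology hU).preimage (continuous_apply i))
  exact this

theorem compactSpace_pt (hc : IsLimit c) : CompactSpace c.pt :=
  ⟨by simpa using isCompact_preimage_toCtProd hFm hc (C := univ) isClosed_univ⟩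

variable [IsCofiltered J]

/-- Points of a cofiltered limit from finite levels. -/
theorem exists_point (hc : IsLimit c) (Z : ∀ j, Set (F.obj j))
    (hZ : ∀ j, IsClosed[constructibleTopology (F.obj j)] (Z j))
    (h : ∀ (O : Finset J) (k : J) (T : ∀ {j}, j ∈ O → (k ⟶ j)),
      ∃ (k' : J) (b : k' ⟶ k) (z : F.obj k'), ∀ j (hj : j ∈ O), F.map (b ≫ T hj) z ∈ Z j) :
    ∃ p : c.pt, ∀ j, c.π.app j p ∈ Z j := by
  classical
  have hne : ∀ j, Nonempty (F.obj j) := fun j ↦ by
    obtain ⟨k', b, z, -⟩ := h {j} j (fun {j'} hj ↦ eqToHom (Finset.mem_singleton.1 hj).symm)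
    exact ⟨F.map b z⟩
  let C : (Σ i : J, Σ j : J, (i ⟶ j)) ⊕ J → Set (CtProd F) := Sum.elim
    (fun a ↦ {x | F.map a.2.2 (x a.1).ofTopology = (x a.2.1).ofTopology})
    (fun j ↦ (fun x : CtProd F ↦ x j) ⁻¹' (WithTopology.ofTopology ⁻¹' Z j))
  obtain ⟨x, hx⟩ : (⋂ a, C a).Nonempty := by
    refine (univ_inter (⋂ a, C a)).symm ▸ isCompact_univ.inter_iInter_nonempty C (fun a ↦ ?_) ?_
    · rcases a with a | j
      · exact isClosed_compatible hFm a.2.2
      · exact (isClosed_preimage_ofTopology (hZ j)).preimage (continuous_apply j)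
    intro u
    let O : Finset J := u.biUnion fun a ↦ Sum.elim (fun a ↦ {a.1, a.2.1}) (fun j ↦ {j}) a
    let H : Finset (Σ' (X Y : J) (_ : X ∈ O) (_ : Y ∈ O), X ⟶ Y) :=
      u.attach.biUnion fun a ↦ match a with
        | ⟨Sum.inl ⟨i, j, f⟩, ha⟩ =>
          {⟨i, j, Finset.mem_biUnion.2 ⟨_, ha, by simp⟩, Finset.mem_biUnion.2 ⟨_, ha, by simp⟩, f⟩}
        | ⟨Sum.inr _, _⟩ => ∅
    obtain ⟨k, T, hT⟩ := IsCofiltered.inf_exists O H
    obtain ⟨k', b, z, hz⟩ := h O k T
    refine ⟨fun j ↦ WithTopology.toTopology _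
      (if hj : j ∈ O then F.map (b ≫ T hj) z else (hne j).some), trivial, mem_iInter₂.2 ?_⟩
    rintro (⟨i, j, f⟩ | j) ha
    · have hi : i ∈ O := Finset.mem_biUnion.2 ⟨_, ha, by simp⟩
      have hj : j ∈ O := Finset.mem_biUnion.2 ⟨_, ha, by simp⟩
      have := hT hi hj (f := f) (Finset.mem_biUnion.2 ⟨⟨_, ha⟩, Finset.mem_attach _ _, by simp⟩)
      simp only [C, Sum.elim_inl, mem_ofPred_eq, dif_pos hi, dif_pos hj]
      simp only [← this, Functor.map_comp, TopCat.comp_app]
    · have hj : j ∈ O := Finset.mem_biUnion.2 ⟨_, ha, by simp⟩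
      simp only [C, Sum.elim_inr, mem_preimage, dif_pos hj]
      exact hz j hj
  simp only [mem_iInter] at hx
  obtain ⟨p, hp⟩ := exists_of_compatible hc (fun j ↦ (x j).ofTopology)
    fun {i j} a ↦ hx (Sum.inl ⟨i, j, a⟩)
  exact ⟨p, fun j ↦ hp j ▸ hx (Sum.inr j)⟩

theorem preimage_subset_iff (hc : IsLimit c) {i : J} {E F' : Set (F.obj i)}
    (hE : IsClosed[constructibleTopology (F.obj i)] E)
    (hF' : IsOpen[constructibleTopology (F.obj i)] F') :
    (c.π.app i ⁻¹' E ⊆ c.π.app i ⁻¹' F') ↔
      ∃ (j : J) (a : j ⟶ i), F.map a ⁻¹' E ⊆ F.map a ⁻¹' F' := by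
  classical
  constructor
  · intro hsub
    by_contra hno
    let Z : ∀ j, Set (F.obj j) := fun j ↦ {y | ∀ h : j = i, (h ▸ y : F.obj i) ∈ E ∩ F'ᶜ}
    have hD : IsClosed[constructibleTopology (F.obj i)] (E ∩ F'ᶜ) :=
      @IsClosed.inter _ _ _ (constructibleTopology (F.obj i)) hE
        ((@isClosed_compl_iff _ (constructibleTopology (F.obj i)) _).2 hF')
    have hZ : ∀ j, IsClosed[constructibleTopology (F.obj j)] (Z j) := fun j ↦ by
      by_cases hj : j = i
      · subst hj
        convert hD using 1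
        ext y; simp [Z, forall_prop_of_true]
      · have : Z j = univ := eq_univ_of_forall fun y h ↦ (hj h).elim
        rw [this]
        exact @isClosed_univ _ (constructibleTopology (F.obj j))
    obtain ⟨p, hp⟩ := exists_point hFm hc Z hZ fun O k T ↦ by
      have main : ∀ (k' : J) (a : k' ⟶ i), ∃ z, F.map a z ∈ E ∩ F'ᶜ := fun k' a ↦ by
        by_contra h
        exact hno ⟨k', a, fun z hz ↦ by_contra fun hzF ↦ h ⟨z, hz, hzF⟩⟩
      by_cases hi : i ∈ O
      · obtain ⟨z, hz⟩ := main k (T hi)
        refine ⟨k, 𝟙 k, z, fun j hj h ↦ ?_⟩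
        subst h
        simpa using hz
      · obtain ⟨z, -⟩ := main (IsCofiltered.min k i) (IsCofiltered.minToRight k i)
        exact ⟨_, IsCofiltered.minToLeft k i, z, fun j hj h ↦ absurd (h ▸ hj) hi⟩
    exact (hp i rfl).2 (hsub (hp i rfl).1)
  · rintro ⟨j, a, h⟩ p hp
    simp only [mem_preimage] at hp ⊢
    rw [← map_π_app c a] at hp ⊢
    exact h hp

theorem preimage_eq_of_isClopen (hc : IsLimit c) {i : J} {A B : Set (F.obj i)}
    (hA : @IsClopen _ (constructibleTopology (F.obj i)) A)
    (hB : @IsClopen _ (constructibleTopology (F.obj i)) B)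
    (h : c.π.app i ⁻¹' A = c.π.app i ⁻¹' B) :
    ∃ (j : J) (a : j ⟶ i), F.map a ⁻¹' A = F.map a ⁻¹' B := by
  obtain ⟨j, a, hja⟩ := (preimage_subset_iff hFm hc
    (E := A \ B ∪ B \ A) (F' := ∅)
    (@IsClosed.union _ _ _ (constructibleTopology (F.obj i))
      (@IsClopen.diff _ (constructibleTopology (F.obj i)) _ _ hA hB).1
      (@IsClopen.diff _ (constructibleTopology (F.obj i)) _ _ hB hA).1)
    (@isOpen_empty _ (constructibleTopology (F.obj i)))).1 (by
      simp only [preimage_union, preimage_sdiff, h]; simp)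
  refine ⟨j, a, ext fun y ↦ ?_⟩
  have := @hja y
  simp only [mem_preimage, mem_union, mem_sdiff, mem_empty_iff_false] at this ⊢
  tauto

theorem isTopologicalBasis_cylinders (hc : IsLimit c) :
    IsTopologicalBasis
      (range fun q : Σ j, {U : Set (F.obj j) // IsOpen U ∧ IsCompact U} ↦ (c.π.app q.1 ⁻¹' q.2.1 : Set c.pt)) := by
  have := TopCat.isTopologicalBasis_cofiltered_limit F c hc
    (fun j ↦ {U | IsOpen U ∧ IsCompact U}) (fun j ↦ PrespectralSpace.isTopologicalBasis)
    (fun i ↦ ⟨isOpen_univ, isCompact_univ⟩)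
    (fun i U V hU hV ↦ ⟨hU.1.inter hV.1,
      QuasiSeparatedSpace.inter_isCompact U V hU.1 hU.2 hV.1 hV.2⟩)
    (fun i j f V hV ↦ ⟨hV.1.preimage (hFm f).continuous,
      (hFm f).isCompact_preimage_of_isOpen hV.1 hV.2⟩)
  convert this using 1
  ext W
  constructor
  · rintro ⟨⟨j, U, hU⟩, rfl⟩; exact ⟨j, U, hU, rfl⟩
  · rintro ⟨j, U, hU, rfl⟩; exact ⟨⟨j, U, hU⟩, rfl⟩

theorem isCompact_cylinder (hc : IsLimit c) {i : J} {U : Set (F.obj i)} (ho : IsOpen U)
    (hk : IsCompact U) : IsCompact (c.π.app i ⁻¹' U) :=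
  isCompact_preimage_π hFm hc (isClosed_ct ho hk)

theorem spectralSpace_pt (hc : IsLimit c) : SpectralSpace c.pt := by
  have hb := isTopologicalBasis_cylinders hFm hc
  have hcomp := fun q : Σ j, {U : Set (F.obj j) // IsOpen U ∧ IsCompact U} ↦
    isCompact_cylinder hFm hc q.2.2.1 q.2.2.2
  have := compactSpace_pt hFm hc
  have : PrespectralSpace c.pt := .of_isTopologicalBasis' hb hcomp
  have : QuasiSeparatedSpace c.pt := quasiSeparatedSpace_of_basis hb hcomp fun ⟨i, U, hU⟩ ⟨j, V, hV⟩ ↦ by
    let a := IsCofiltered.minToLeft i j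
    let b := IsCofiltered.minToRight i j
    have heq : c.π.app i ⁻¹' U ∩ c.π.app j ⁻¹' V =
        c.π.app (IsCofiltered.min i j) ⁻¹' (F.map a ⁻¹' U ∩ F.map b ⁻¹' V) := by
      ext p; simp [map_π_app c]
    rw [heq]
    exact isCompact_preimage_π hFm hc (@IsClosed.inter _ _ _ (constructibleTopology _)
      (@IsClosed.preimage _ _ (constructibleTopology _) (constructibleTopology _) _
        (continuous_ct (hFm a)) _ (isClosed_ct hU.1 hU.2))
      (@IsClosed.preimage _ _ (constructibleTopology _) (constructibleTopology _) _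
        (continuous_ct (hFm b)) _ (isClosed_ct hV.1 hV.2)))
  have : T0Space c.pt := ⟨fun p q h ↦ ext_of_isLimit hc fun j ↦
    (h.map (c.π.app j).hom.continuous).eq⟩
  have : QuasiSober c.pt := by
    constructor
    intro Z hZ hZc
    have hirr : ∀ j, IsIrreducible (closure (c.π.app j '' Z)) := fun j ↦
      (hZ.image _ (c.π.app j).hom.continuous.continuousOn).closure
    have hgen := fun j ↦ (hirr j).isGenericPoint_genericPoint isClosed_closure
    obtain ⟨ξ, hξ⟩ := exists_of_compatible hc (fun j ↦ (hirr j).genericPoint) fun {i j} a ↦ by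
      have h1 := (hgen i).image (hFm a).continuous
      refine h1.eq ?_
      rw [closure_image_closure (hFm a).continuous, ← image_comp]
      have : (F.map a ∘ c.π.app i : c.pt → F.obj j) = c.π.app j := funext (map_π_app c a)
      rw [this]
      exact hgen j
    have hmem : ξ ∈ closure Z := by
      rw [hb.mem_closure_iff]
      rintro _ ⟨⟨i, U, hU⟩, rfl⟩ hξU
      have hU' : (hirr i).genericPoint ∈ U := hξ i ▸ hξU
      obtain ⟨_, hyU, ⟨z, hz, rfl⟩⟩ := mem_closure_iff.1 (hgen i).mem U hU.1 hU'
      exact ⟨z, hyU, hz⟩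
    rw [hZc.closure_eq] at hmem
    refine ⟨ξ, Subset.antisymm (closure_minimal (singleton_subset_iff.2 hmem) hZc) fun z hz ↦ ?_⟩
    refine specializes_iff_mem_closure.1 (specializes_iff_forall_open.2 fun V hV hzV ↦ ?_)
    obtain ⟨_, ⟨⟨i, U, hU⟩, rfl⟩, hzU, hUV⟩ := hb.exists_subset_of_mem_open hzV hV
    refine hUV ?_
    simp only [mem_preimage, hξ i]
    exact ((hgen i).specializes (subset_closure (mem_image_of_mem _ hz))).mem_open hU.1 hzU
  constructor

theorem isSpectralMap_π (hc : IsLimit c) (j : J) :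
    IsSpectralMap (c.π.app j : c.pt → F.obj j) :=
  ⟨(c.π.app j).hom.continuous, fun _ ho hk ↦ isCompact_cylinder hFm hc ho hk⟩

theorem exists_cylinder_eq (hc : IsLimit c) {U : Set c.pt} (ho : IsOpen U) (hk : IsCompact U) :
    ∃ (i : J) (Ui : Set (F.obj i)), IsOpen Ui ∧ IsCompact Ui ∧ c.π.app i ⁻¹' Ui = U := by
  classical
  obtain ⟨s, hs, rfl⟩ := eq_finite_iUnion_of_isTopologicalBasis_of_isCompact_open _
    (isTopologicalBasis_cylinders hFm hc) U hk ho
  obtain ⟨i, hi⟩ := IsCofiltered.inf_objs_exists (hs.toFinset.image Sigma.fst)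
  have ha : ∀ q ∈ s, Nonempty (i ⟶ q.1) := fun q hq ↦
    hi (Finset.mem_image.2 ⟨q, hs.mem_toFinset.2 hq, rfl⟩)
  refine ⟨i, ⋃ q : s, F.map (ha q.1 q.2).some ⁻¹' q.1.2.1, ?_, ?_, ?_⟩
  · exact isOpen_iUnion fun q ↦ q.1.2.2.1.preimage (hFm _).continuous
  · have := hs.to_subtype
    exact isCompact_iUnion fun q ↦ (hFm _).isCompact_preimage_of_isOpen q.1.2.2.1 q.1.2.2.2
  · ext p
    simp [map_π_app c]

end General

end Groth.SpectralTopology
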