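import Groth.Agent.SpectralTopology.FibreChart

set_option autoImplicit false

/-! Closed immersions of generic fibres which are not isomorphisms. -/

open AlgebraicGeometry CategoryTheory CategoryTheory.Limits Topology TensorProduct

namespace Groth.SpectralTopology

universe u

variable {X Y S : Scheme.{u}}

theorem interior_compl_isIso (f : X ⟶ Y) (g : Y ⟶ S) [IsIntegral S]
    [AlgebraicGeometry.IsNoetherian S] [LocallyOfFiniteType g] [QuasiCompact f]
    (hCI : IsClosedImmersion (MoreMor.fiberMap f g (genericPoint S)))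
    (hni : ¬ IsIso (MoreMor.fiberMap f g (genericPoint S))) :
    (interior {s : S | IsIso (MoreMor.fiberMap f g s)}ᶜ).Nonempty := by
  obtain ⟨_, ⟨U, hU, rfl⟩, hηU, -⟩ :=
    S.isBasis_affineOpens.exists_subset_of_mem_open (Set.mem_univ (genericPoint S)) isOpen_univ
  let k := hU.fromSpec
  have : Nonempty U := ⟨⟨_, hηU⟩⟩
  have : IrreducibleSpace (Spec Γ(S, U)) := inferInstance
  let b₀ := genericPoint (Spec Γ(S, U))
  have hb₀ : k b₀ = genericPoint S := genericPoint_eq_of_isOpenImmersion k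
  rw [← hb₀] at hCI hni
  let J := {V : Y.Opens // IsAffineOpen V ∧ V ≤ g ⁻¹ᵁ U}
  have w (V : J) : V.2.1.fromSpec ≫ g = Spec.map (g.appLE U V.1 V.2.2) ≫ k :=
    (IsAffineOpen.SpecMap_appLE_fromSpec g hU V.2.1 V.2.2).symm
  obtain ⟨V, hV⟩ : ∃ V : J, ¬ IsIso (MoreMor.fiberMap (pullback.snd f V.2.1.fromSpec)
      (Spec.map (g.appLE U V.1 V.2.2)) b₀) := by
    by_contra! hall
    refine hni ?_
    let 𝒰 : (g.fiber (k b₀)).OpenCover :=
      Scheme.Cover.mkOfCovers J (fun V ↦ (Spec.map (g.appLE U V.1 V.2.2)).fiber b₀)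
        (fun V ↦ fiberChart (w V) b₀) (fun y ↦ by
          have hy : g (g.fiberι (k b₀) y) = k b₀ := (g.range_fiberι (k b₀)).le ⟨y, rfl⟩
          obtain ⟨_, ⟨V, hV, rfl⟩, hyV, hVU⟩ := Y.isBasis_affineOpens.exists_subset_of_mem_open
            (show g.fiberι (k b₀) y ∈ g ⁻¹ᵁ U by
              show g _ ∈ U
              rw [hy, ← SetLike.mem_coe, ← hU.range_fromSpec]; exact ⟨b₀, rfl⟩) (g ⁻¹ᵁ U).isOpen
          obtain ⟨p, hp⟩ := hV.range_fromSpec.ge hyV
          let V' : J := ⟨V, hV, hVU⟩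
          have hpb : Spec.map (g.appLE U V hVU) p = b₀ := k.isOpenEmbedding.injective (by
            rw [← Scheme.Hom.comp_apply, ← w V', Scheme.Hom.comp_apply, hp, hy])
          obtain ⟨z, hz⟩ := ((Spec.map (g.appLE U V hVU)).range_fiberι b₀).ge hpb
          refine ⟨V', z, (g.fiberι _).isEmbedding.injective ?_⟩
          rw [← Scheme.Hom.comp_apply, fiberChart_ι, Scheme.Hom.comp_apply, hz, hp])
        (fun V ↦ inferInstanceAs (IsOpenImmersion (fiberChart (w V) b₀)))
    refine (IsZariskiLocalAtTarget.iff_of_openCover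
      (P := MorphismProperty.isomorphisms Scheme.{u}) 𝒰).2 fun V ↦ ?_
    obtain ⟨a, sq⟩ := exists_isPullback_fiberChart f (w V) b₀
    show IsIso (pullback.snd (MoreMor.fiberMap f g (k b₀)) (fiberChart (w V) b₀))
    rw [← sq.isoPullback_inv_snd]
    have := hall V
    infer_instance
  obtain ⟨hVa, hVU⟩ := V.2
  let φ := g.appLE U V.1 hVU
  let : Algebra Γ(S, U) Γ(Y, V.1) := φ.hom.toAlgebra
  have : Algebra.FiniteType Γ(S, U) Γ(Y, V.1) := g.finiteType_appLE hU hVa hVU
  let f' := pullback.snd f hVa.fromSpec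
  obtain ⟨alg, halg⟩ := exists_residue_algebra (R := Γ(S, U)) b₀
  obtain ⟨a₀, sq₀⟩ := exists_isPullback_fiberChart f (w V) b₀
  have hCI' : IsClosedImmersion (MoreMor.fiberMap f' (Spec.map φ) b₀) :=
    MorphismProperty.of_isPullback sq₀ hCI
  have hKCI : IsClosedImmersion (pullback.snd f' (bcIncl Γ(S, U) Γ(Y, V.1) (FractionRing Γ(S, U)))) :=
    (prop_bcIncl_iff_of_genericPoint f' @IsClosedImmersion b₀ rfl halg).2
      ((prop_fiber_iff f' @IsClosedImmersion b₀ halg).2 hCI')
  have hKni : ¬ IsIso (pullback.snd f' (bcIncl Γ(S, U) Γ(Y, V.1) (FractionRing Γ(S, U)))) :=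
    fun h ↦ hV ((prop_fiber_iff f' (MorphismProperty.isomorphisms Scheme.{u}) b₀ halg).1
      ((prop_bcIncl_iff_of_genericPoint f' (MorphismProperty.isomorphisms Scheme.{u}) b₀ rfl halg).1 h))
  obtain ⟨r, hr, hrK⟩ := exists_forall_not_isIso Γ(S, U) Γ(Y, V.1) f' hKni
  have hbad : k '' ((PrimeSpectrum.basicOpen r).carrier : Set (Spec Γ(S, U))) ⊆
      {s : S | IsIso (MoreMor.fiberMap f g s)}ᶜ := by
    rintro _ ⟨b, hb, rfl⟩ hiso
    obtain ⟨alg', halg'⟩ := exists_residue_algebra (R := Γ(S, U)) b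
    refine hrK ((Spec (CommRingCat.of Γ(S, U))).residueField b) ?_ ((prop_fiber_iff f' (MorphismProperty.isomorphisms Scheme.{u}) b halg').2 ?_)
    · intro h0
      obtain ⟨pt⟩ := (inferInstance : Nonempty (Spec ((Spec (CommRingCat.of Γ(S, U))).residueField b)))
      have hpt : Spec.map (CommRingCat.ofHom (algebraMap Γ(S, U) ((Spec (CommRingCat.of Γ(S, U))).residueField b))) pt = b := by
        rw [halg']; exact Scheme.fromSpecResidueField_apply _ _
      apply hb
      rw [← hpt]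
      show algebraMap Γ(S, U) ((Spec (CommRingCat.of Γ(S, U))).residueField b) r ∈ pt.asIdeal
      rw [h0]; exact zero_mem _
    · obtain ⟨a, sq⟩ := exists_isPullback_fiberChart f (w V) b
      exact MorphismProperty.of_isPullback (P := MorphismProperty.isomorphisms Scheme.{u}) sq hiso
  refine Set.Nonempty.mono ((k.isOpenEmbedding.isOpenMap _
    (PrimeSpectrum.basicOpen r).isOpen).subset_interior_iff.2 hbad) ⟨k b₀, b₀, ?_, rfl⟩
  show r ∉ b₀.asIdeal
  rw [show b₀ = (⊥ : PrimeSpectrum Γ(S, U)) from genericPoint_eq_bot_of_affine _]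
  exact fun h ↦ hr h

end Groth.SpectralTopology
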