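import Groth.Agent.SpectralTopology.GenericProper
import Groth.Agent.SpectralTopology.GenericIso
import Groth.Agent.SpectralTopology.CanDescend
import Groth.Agent.SpectralTopology.ConsOfDescend
import Groth.Agent.SpectralTopology.ConsExamples
import Groth.Agent.DescentBase.UnivOpenField
import Groth.Agent.DescentBase.TopDescent
import Groth.Agent.DescentBase.Descends

set_option autoImplicit false
set_option backward.isDefEq.respectTransparency false

/-!
EGA IV 9.6.1: proper, monomorphism, isomorphism, closed immersion, finite, open immersion and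
immersion are constructible properties of morphisms of algebraic schemes.
-/

open AlgebraicGeometry CategoryTheory CategoryTheory.Limits Topology TopologicalSpace

namespace Groth.SpectralTopology

universe u

variable {X Y S : Scheme.{u}}

/-- From an ind-constructible property and its negation at the generic point. -/
theorem isConsMor_of_neg {Q : MorphismProperty Scheme.{u}} [Q.IsStableUnderBaseChange]
    [Q.DescendsAlong Groth.EtaleBase.Fpqc.{u}] (hS : Spreads Q)
    (hneg : ∀ ⦃X Y S : Scheme.{u}⦄ (f : X ⟶ Y) (g : Y ⟶ S) [IsIntegral S]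
      [AlgebraicGeometry.IsNoetherian S] [LocallyOfFiniteType g] [QuasiCompact g]
      [LocallyOfFiniteType (f ≫ g)] [QuasiCompact (f ≫ g)],
      ¬ Q (MoreMor.fiberMap f g (genericPoint S)) →
        (interior {s : S | Q (MoreMor.fiberMap f g s)}ᶜ).Nonempty) :
    ConsProp.IsConsMor (asMor Q) := by
  obtain ⟨hfs, hpos⟩ := isIndConsMor_of_spreads hS
  refine ⟨hfs, fun X Y S f g _ _ _ _ _ _ ↦ ?_⟩
  by_cases h : Q (MoreMor.fiberMap f g (genericPoint S))
  · exact Or.inl (hpos f g h)
  · exact Or.inr (hneg f g h)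

theorem isConsMor_isProper : ConsProp.IsConsMor (asMor.{u} @IsProper) :=
  isConsMor_of_neg spreads_isProper fun _ _ _ f g _ _ _ _ _ _ h ↦ interior_compl_isProper f g h

/-- The diagonal of the morphism of fibres is the morphism of fibres of the diagonal. -/
theorem isIso_fiberMap_diagonal_iff (f : X ⟶ Y) (g : Y ⟶ S) (s : S) (Q : MorphismProperty Scheme.{u})
    [Q.IsStableUnderBaseChange] :
    Q (MoreMor.fiberMap (pullback.diagonal f) (pullback.fst f f ≫ f ≫ g) s) ↔
      Q (pullback.diagonal (MoreMor.fiberMap f g s)) := by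
  let d := pullback.diagonal f
  let h := pullback.fst f f ≫ f ≫ g
  let fs := MoreMor.fiberMap f g s
  have sh : IsPullback (fiberSq f g s) (pullback.fst fs fs ≫ (f ≫ g).fiberToSpecResidueField s) h
      (S.fromSpecResidueField s) :=
    (isPullback_fiberSq f g s).paste_vert (isPullback_fiber (f ≫ g) s)
  let e := sh.isoIsPullback _ _ (isPullback_fiber h s)
  have he : e.hom ≫ h.fiberι s = fiberSq f g s := IsPullback.isoIsPullback_hom_fst _ _ _ _
  have sd : IsPullback ((f ≫ g).fiberι s) (pullback.diagonal fs) d (fiberSq f g s) := by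
    refine IsPullback.of_bot ?_ (diagonal_fiberSq f g s).symm (isPullback_fiberSq f g s)
    rw [pullback.diagonal_fst, pullback.diagonal_fst]
    exact IsPullback.of_vert_isIso ⟨by simp⟩
  have s₂ := isPullback_fiberMap d h s
  rw [← he] at sd
  obtain ⟨l, sq⟩ : ∃ l, IsPullback l (pullback.diagonal fs) (MoreMor.fiberMap d h s) e.hom :=
    ⟨s₂.lift _ _ (by rw [sd.w, Category.assoc]),
      IsPullback.of_right (by rw [s₂.lift_fst]; exact sd) (s₂.lift_snd _ _ _) s₂⟩
  have : IsIso l := sq.isIso_fst_of_isIso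
  exact (Q.arrow_mk_iso_iff (Arrow.isoMk (asIso l) e sq.w)).symm

theorem mono_iff_isIso_diagonal {X Y : Scheme.{u}} (f : X ⟶ Y) :
    Mono f ↔ IsIso (pullback.diagonal f) := by
  show (MorphismProperty.monomorphisms Scheme.{u}) f ↔ _
  rw [← MorphismProperty.diagonal_isomorphisms]
  rfl

theorem interior_compl_mono (f : X ⟶ Y) (g : Y ⟶ S) [IsIntegral S]
    [AlgebraicGeometry.IsNoetherian S] [LocallyOfFiniteType g] [QuasiCompact g]
    [LocallyOfFiniteType (f ≫ g)] [QuasiCompact (f ≫ g)]
    (hn : ¬ Mono (MoreMor.fiberMap f g (genericPoint S))) :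
    (interior {s : S | Mono (MoreMor.fiberMap f g s)}ᶜ).Nonempty := by
  obtain ⟨_, _, _⟩ := fibre_admissible f g
  have : LocallyOfFinitePresentation g :=
    LocallyOfFinitePresentation.iff_locallyOfFiniteType.2 inferInstance
  have : LocallyOfFinitePresentation (f ≫ g) :=
    LocallyOfFinitePresentation.iff_locallyOfFiniteType.2 inferInstance
  have : CompactSpace Y := QuasiCompact.compactSpace_of_compactSpace g
  have : IsLocallyNoetherian X := LocallyOfFiniteType.isLocallyNoetherian f
  have : CompactSpace X := QuasiCompact.compactSpace_of_compactSpace f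
  have : QuasiSeparated g := quasiSeparated_of_quasiSeparatedSpace g
  have : QuasiSeparated f := quasiSeparated_of_quasiSeparatedSpace f
  have : QuasiSeparated (f ≫ g) := inferInstance
  by_cases hsep : IsSeparated (MoreMor.fiberMap f g (genericPoint S))
  · have hCI : IsClosedImmersion (MoreMor.fiberMap (pullback.diagonal f)
        (pullback.fst f f ≫ f ≫ g) (genericPoint S)) :=
      (isIso_fiberMap_diagonal_iff f g _ @IsClosedImmersion).2 inferInstance
    refine Set.Nonempty.mono (interior_mono ?_) (interior_compl_isIso (pullback.diagonal f)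
      (pullback.fst f f ≫ f ≫ g) hCI fun h ↦ hn ((mono_iff_isIso_diagonal _).2
        ((isIso_fiberMap_diagonal_iff f g _ (MorphismProperty.isomorphisms Scheme.{u})).1 h)))
    intro s hs hm
    exact hs ((isIso_fiberMap_diagonal_iff f g s (MorphismProperty.isomorphisms Scheme.{u})).2
      ((mono_iff_isIso_diagonal _).1 hm))
  · have hc := (isLocallyConstructible_isSeparated f g).isConstructible.compl
    refine Set.Nonempty.mono ?_ ⟨_, genericPoint_mem_interior hc hsep⟩
    exact interior_mono fun s hs (_ : Mono _) ↦ hs (inferInstance : IsSeparated _)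

theorem isConsMor_mono :
    ConsProp.IsConsMor (asMor.{u} (MorphismProperty.monomorphisms Scheme.{u})) :=
  isConsMor_of_neg spreads_mono fun _ _ _ f g _ _ _ _ _ _ h ↦ interior_compl_mono f g h

theorem isConsMor_isClosedImmersion : ConsProp.IsConsMor (asMor.{u} @IsClosedImmersion) :=
  isConsMor_of_neg spreads_isClosedImmersion fun _ _ _ f g _ _ _ _ _ _ h ↦ by
    by_cases hp : IsProper (MoreMor.fiberMap f g (genericPoint _))
    · refine Set.Nonempty.mono (interior_mono ?_)
        (interior_compl_mono f g fun hm ↦ h ((IsClosedImmersion.iff_isProper_and_mono _).2 ⟨hp, hm⟩))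
      intro s hs (hc : IsClosedImmersion _)
      apply hs
      exact ((IsClosedImmersion.iff_isProper_and_mono _).1 hc).2
    · refine Set.Nonempty.mono (interior_mono ?_) (interior_compl_isProper f g hp)
      intro s hs (hc : IsClosedImmersion _)
      apply hs
      exact ((IsClosedImmersion.iff_isProper_and_mono _).1 hc).1

theorem isConsMor_isIso :
    ConsProp.IsConsMor (asMor.{u} (MorphismProperty.isomorphisms Scheme.{u})) :=
  isConsMor_of_neg spreads_isIso fun _ _ _ f g _ _ _ _ _ _ h ↦ by
    obtain ⟨_, _, _⟩ := fibre_admissible f g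
    by_cases hc : IsClosedImmersion (MoreMor.fiberMap f g (genericPoint _))
    · exact interior_compl_isIso f g hc h
    · refine Set.Nonempty.mono (interior_mono ?_)
        ((isConsMor_isClosedImmersion.2 f g).resolve_left fun hne ↦ hc ?_)
      · intro s hs (hi : IsIso _)
        exact hs (inferInstance : IsClosedImmersion _)
      · obtain ⟨U, hU, hUne, hUsub⟩ :
            ∃ U : Set _, IsOpen U ∧ U.Nonempty ∧ U ⊆ ConsProp.locusMor (asMor @IsClosedImmersion) f g :=
          ⟨_, isOpen_interior, hne, interior_subset⟩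
        exact hUsub (((genericPoint_spec _).mem_open_set_iff hU).2 (by simpa using hUne))

theorem isConsMor_isFinite : ConsProp.IsConsMor (asMor.{u} @IsFinite) :=
  isConsMor_of_neg spreads_isFinite fun _ _ S f g _ _ _ _ _ _ h ↦ by
    obtain ⟨_, _, _⟩ := fibre_admissible f g
    by_cases hp : IsProper (MoreMor.fiberMap f g (genericPoint S))
    · have hq := isConstructible_locusMor (isConsMor_forall_fiber isCons_finite) f g
      have hmem : genericPoint S ∈ (ConsProp.locusMor
          (fun X Y _ f _ ↦ ∀ y : ↥Y, IsFinite (f.fiberToSpecResidueField y)) f g)ᶜ := fun hall ↦ h <|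
        (IsFinite.iff_isProper_and_locallyQuasiFinite _).2
          ⟨hp, locallyQuasiFinite_iff_isFinite_fiber.2 hall⟩
      refine Set.Nonempty.mono (interior_mono ?_)
        ⟨_, genericPoint_mem_interior hq.compl hmem⟩
      intro s hs (hf : IsFinite _)
      apply hs
      have : QuasiCompact (MoreMor.fiberMap f g s) :=
        MorphismProperty.of_isPullback (isPullback_fiberMap f g s) inferInstance
      exact locallyQuasiFinite_iff_isFinite_fiber.1 inferInstance
    · refine Set.Nonempty.mono (interior_mono ?_) (interior_compl_isProper f g hp)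
      intro s hs (hf : IsFinite _)
      apply hs
      show IsProper _
      infer_instance

section Restrict

variable (f : X ⟶ Y) (g : Y ⟶ S) (V : Y.Opens) (s : S)

/-- The morphism of fibres restricted to an open containing the image. -/
theorem fiberMap_restrict_spec (hsub : Set.range (MoreMor.fiberMap f g s) ⊆
      ⇑(g.fiberι s) ⁻¹' (V : Set Y)) :
    ∃ (W : Scheme.{u}) (e : W ⟶ g.fiber s) (_ : IsOpenImmersion e)
      (a : (pullback.snd f V.ι ≫ V.ι ≫ g).fiber s ⟶ (f ≫ g).fiber s) (_ : IsIso a)
      (f' : (pullback.snd f V.ι ≫ V.ι ≫ g).fiber s ⟶ W),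
      IsPullback a f' (MoreMor.fiberMap f g s) e ∧
        (Set.range e = ⇑(g.fiberι s) ⁻¹' (V : Set Y)) ∧
        ∀ Q : MorphismProperty Scheme.{u}, Q f' ↔
          Q (MoreMor.fiberMap (pullback.snd f V.ι) (V.ι ≫ g) s) := by
  have w : V.ι ≫ g = (V.ι ≫ g) ≫ 𝟙 S := (Category.comp_id _).symm
  obtain ⟨a, sq⟩ := exists_isPullback_fiberChart f w s
  let e : (V.ι ≫ g).fiber s ⟶ g.fiber s := fiberChart w s
  have hr : Set.range e = ⇑(g.fiberι s) ⁻¹' (V : Set Y) := by
    have he : e ≫ g.fiberι s = (V.ι ≫ g).fiberι s ≫ V.ι := fiberChart_ι w s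
    ext y
    constructor
    · rintro ⟨z, rfl⟩
      rw [Set.mem_preimage, ← Scheme.Hom.comp_apply, he, Scheme.Hom.comp_apply]
      exact ((V.ι ≫ g).fiberι s z).2
    · intro hy
      have hgy : g (g.fiberι s y) = s := (g.range_fiberι s).le ⟨y, rfl⟩
      obtain ⟨z, hz⟩ := ((V.ι ≫ g).range_fiberι s).ge
        (show (⟨g.fiberι s y, hy⟩ : V.toScheme) ∈ (V.ι ≫ g) ⁻¹' {s} from hgy)
      refine ⟨z, (g.fiberι s).isEmbedding.injective ?_⟩
      rw [← Scheme.Hom.comp_apply, he, Scheme.Hom.comp_apply, hz]
      rfl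
  have hoi : IsOpenImmersion e := inferInstanceAs (IsOpenImmersion (fiberChart w s))
  have : IsOpenImmersion a := MorphismProperty.of_isPullback (P := @IsOpenImmersion) sq.flip hoi
  have hsurj : Surjective a := ⟨fun x ↦ by
    obtain ⟨z, hz⟩ := hr.ge (hsub ⟨x, rfl⟩)
    obtain ⟨p, hp, -⟩ := Scheme.Pullback.exists_preimage_pullback x z hz.symm
    refine ⟨sq.isoPullback.inv p, ?_⟩
    rw [← Scheme.Hom.comp_apply, IsPullback.isoPullback_inv_fst]
    exact hp⟩
  exact ⟨_, e, hoi, a, (isIso_iff_isOpenImmersion_and_surjective a).2 ⟨‹_›, hsurj⟩, _, sq, hr,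
    fun Q ↦ Iff.rfl⟩

theorem range_fiberMap : Set.range (MoreMor.fiberMap f g s) = g.fiberι s ⁻¹' Set.range f := by
  ext y
  constructor
  · rintro ⟨x, rfl⟩
    rw [Set.mem_preimage, ← Scheme.Hom.comp_apply, fiberMap_fiberι, Scheme.Hom.comp_apply]
    exact ⟨_, rfl⟩
  · rintro ⟨x, hx⟩
    obtain ⟨z, -, hz⟩ := Scheme.Pullback.exists_preimage_pullback x y hx
    refine ⟨(isPullback_fiberMap f g s).isoPullback.inv z, ?_⟩
    rw [← Scheme.Hom.comp_apply, IsPullback.isoPullback_inv_snd]
    exact hz

theorem isOpenImmersion_fiberMap_iff (hV : g ⁻¹' {s} ∩ (V : Set Y) = g ⁻¹' {s} ∩ Set.range f) :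
    IsOpenImmersion (MoreMor.fiberMap f g s) ↔
      IsIso (MoreMor.fiberMap (pullback.snd f V.ι) (V.ι ≫ g) s) := by
  have hpre : g.fiberι s ⁻¹' (V : Set Y) = g.fiberι s ⁻¹' Set.range f := by
    rw [← Set.preimage_range_inter (f := g.fiberι s), g.range_fiberι, hV, ← g.range_fiberι,
      Set.preimage_range_inter]
  obtain ⟨W, e, _, a, _, f', sq, hr, hQ⟩ := fiberMap_restrict_spec f g V s
    ((range_fiberMap f g s).trans hpre.symm).le
  have key : IsIso f' ↔ IsIso (MoreMor.fiberMap (pullback.snd f V.ι) (V.ι ≫ g) s) :=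
    hQ (MorphismProperty.isomorphisms Scheme.{u})
  rw [← key]
  constructor
  · intro h
    have : IsOpenImmersion f' := MorphismProperty.of_isPullback sq h
    refine (isIso_iff_isOpenImmersion_and_surjective f').2 ⟨this, ⟨fun z ↦ ?_⟩⟩
    obtain ⟨x, hx⟩ := ((hr.trans (hpre.trans (range_fiberMap f g s).symm)).le ⟨z, rfl⟩ :
      e z ∈ Set.range (MoreMor.fiberMap f g s))
    obtain ⟨p, -, hp⟩ := Scheme.Pullback.exists_preimage_pullback x z hx
    refine ⟨sq.isoPullback.inv p, ?_⟩
    rw [← Scheme.Hom.comp_apply, IsPullback.isoPullback_inv_snd]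
    exact hp
  · intro _
    rw [show MoreMor.fiberMap f g s = inv a ≫ f' ≫ e by rw [IsIso.eq_inv_comp]; exact sq.w]
    infer_instance

theorem isImmersion_fiberMap_iff (hR : g ⁻¹' {s} ∩ Set.range f ⊆ V)
    (hcl : closure (Set.range f) ∩ g ⁻¹' {s} ∩ (V : Set Y) ⊆ Set.range f) :
    IsImmersion (MoreMor.fiberMap f g s) ↔
      IsClosedImmersion (MoreMor.fiberMap (pullback.snd f V.ι) (V.ι ≫ g) s) := by
  have hsub : Set.range (MoreMor.fiberMap f g s) ⊆ g.fiberι s ⁻¹' (V : Set Y) := by
    intro y hy
    rw [range_fiberMap] at hy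
    exact hR ⟨(g.range_fiberι s).le ⟨y, rfl⟩, hy⟩
  obtain ⟨W, e, _, a, _, f', sq, hr, hQ⟩ := fiberMap_restrict_spec f g V s hsub
  rw [← hQ @IsClosedImmersion]
  constructor
  · intro h
    have : IsImmersion f' := MorphismProperty.of_isPullback sq h
    refine .of_isPreimmersion _ ?_
    have hrf : Set.range f' = e ⁻¹' Set.range (MoreMor.fiberMap f g s) := by
      refine Set.Subset.antisymm ?_ fun z ⟨x, hx⟩ ↦ ?_
      · rintro _ ⟨x, rfl⟩
        refine ⟨a x, ?_⟩
        rw [← Scheme.Hom.comp_apply, sq.w, Scheme.Hom.comp_apply]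
      · obtain ⟨p, -, hp⟩ := Scheme.Pullback.exists_preimage_pullback x z hx
        refine ⟨sq.isoPullback.inv p, ?_⟩
        rw [← Scheme.Hom.comp_apply, IsPullback.isoPullback_inv_snd]
        exact hp
    rw [hrf, range_fiberMap, ← Set.preimage_comp, ← closure_subset_iff_isClosed]
    intro z hz
    have h1 : g.fiberι s (e z) ∈ closure (Set.range f) :=
      closure_mono (Set.image_preimage_subset _ _) (image_closure_subset_closure_image
        ((g.fiberι s).continuous.comp e.continuous) ⟨z, hz, rfl⟩)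
    exact hcl ⟨⟨h1, (g.range_fiberι s).le ⟨_, rfl⟩⟩, hr.le ⟨z, rfl⟩⟩
  · intro (_ : IsClosedImmersion f')
    rw [show MoreMor.fiberMap f g s = inv a ≫ f' ≫ e by rw [IsIso.eq_inv_comp]; exact sq.w]
    infer_instance

theorem isOpen_range_fiberMap_iff :
    IsOpen (Set.range (MoreMor.fiberMap f g s)) ↔
      IsOpen (Subtype.val ⁻¹' Set.range f : Set ↥(g ⁻¹' {s})) := by
  let e := (g.fiberι s).isEmbedding.toHomeomorph.trans (Homeomorph.setCongr (g.range_fiberι s))
  rw [← e.isOpen_preimage, range_fiberMap]
  exact Iff.rfl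

theorem isLocallyClosed_range_fiberMap_iff :
    IsLocallyClosed (Set.range (MoreMor.fiberMap f g s)) ↔
      IsLocallyClosed (Subtype.val ⁻¹' Set.range f : Set ↥(g ⁻¹' {s})) := by
  let e := (g.fiberι s).isEmbedding.toHomeomorph.trans (Homeomorph.setCongr (g.range_fiberι s))
  rw [range_fiberMap]
  refine ⟨fun h ↦ ?_, fun h ↦ h.preimage e.continuous⟩
  convert h.preimage e.symm.continuous using 1
  ext y
  obtain ⟨z, rfl⟩ := e.surjective y
  simp only [Set.mem_preimage, Homeomorph.symm_apply_apply]
  rfl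

end Restrict

/-- Passing from a constructible property of a restriction to the generic dichotomy. -/
theorem dichotomy_of_restrict {Q : MorphismProperty Scheme.{u}}
    (hQ : ConsProp.IsConsMor (asMor Q)) (f : X ⟶ Y) (g : Y ⟶ S) [IsIntegral S]
    [AlgebraicGeometry.IsNoetherian S] [LocallyOfFiniteType g] [QuasiCompact g]
    [LocallyOfFiniteType (f ≫ g)] [QuasiCompact (f ≫ g)] (V : Y.Opens) (U : Set S) (hU : IsOpen U)
    (hηU : genericPoint S ∈ U) (L : Set S)
    (hL : ∀ s ∈ U, s ∈ L ↔ Q (MoreMor.fiberMap (pullback.snd f V.ι) (V.ι ≫ g) s)) :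
    (interior L).Nonempty ∨ (interior Lᶜ).Nonempty := by
  obtain ⟨_, _, _⟩ := fibre_admissible f g
  have : CompactSpace Y := QuasiCompact.compactSpace_of_compactSpace g
  have : IsLocallyNoetherian Y := LocallyOfFiniteType.isLocallyNoetherian g
  have : AlgebraicGeometry.IsNoetherian Y := {}
  have : CompactSpace V.toScheme := isCompact_iff_compactSpace.1 (NoetherianSpace.isCompact _)
  have : QuasiCompact (V.ι ≫ g) := quasiCompact_of_compactSpace _
  have : QuasiCompact V.ι := quasiCompact_of_compactSpace _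
  have : QuasiCompact (pullback.snd f V.ι ≫ V.ι ≫ g) := inferInstance
  have hne (A : Set S) (hA : (interior A).Nonempty) (B : Set S) (hAB : A ∩ U ⊆ B) :
      (interior B).Nonempty :=
    ⟨genericPoint S, interior_maximal ((Set.inter_subset_inter_left U interior_subset).trans hAB)
      (isOpen_interior.inter hU)
      ⟨((genericPoint_spec S).mem_open_set_iff isOpen_interior).2 (by simpa using hA), hηU⟩⟩
  rcases hQ.2 (pullback.snd f V.ι) (V.ι ≫ g) with h | h
  · exact Or.inl (hne _ h _ fun s hs ↦ (hL s hs.2).2 hs.1)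
  · exact Or.inr (hne _ h _ fun s hs hsL ↦ hs.1 ((hL s hs.2).1 hsL))

theorem compl_dichotomy [IsIntegral S] [AlgebraicGeometry.IsNoetherian S] {B L : Set S}
    (hB : IsLocallyConstructible B) (hη : genericPoint S ∉ B) (hLB : L ⊆ B) :
    (interior Lᶜ).Nonempty :=
  Set.Nonempty.mono (interior_mono (Set.compl_subset_compl.2 hLB))
    ⟨_, genericPoint_mem_interior hB.isConstructible.compl hη⟩

theorem isConsMor_isOpenImmersion : ConsProp.IsConsMor (asMor.{u} @IsOpenImmersion) := by
  refine ⟨isFieldStableMor_of_descends, fun X Y S f g _ _ _ _ _ _ ↦ ?_⟩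
  obtain ⟨_, _, _⟩ := fibre_admissible f g
  have : LocallyOfFinitePresentation g :=
    LocallyOfFinitePresentation.iff_locallyOfFiniteType.2 inferInstance
  have : LocallyOfFinitePresentation f :=
    LocallyOfFinitePresentation.iff_locallyOfFiniteType.2 inferInstance
  have hZ : IsLocallyConstructible (Set.range f) :=
    Set.image_univ ▸ f.isLocallyConstructible_image IsLocallyConstructible.univ
  have : CompactSpace Y := QuasiCompact.compactSpace_of_compactSpace g
  by_cases hopen : IsOpen (Subtype.val ⁻¹' Set.range f : Set ↥(g ⁻¹' {genericPoint S}))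
  · obtain ⟨U, hηU, hU⟩ := exists_open_closure_subset g hZ.isConstructible.compl
      hZ.isConstructible.compl (by
        rintro y ⟨hy, hyη⟩
        have := (closure_subset_iff_isClosed.2 hopen.isClosed_compl)
          (show (⟨y, hyη⟩ : ↥(g ⁻¹' {genericPoint S})) ∈ closure _ by
            rw [← Set.preimage_compl, closure_val_preimage g
              (Groth.EGA41Two.isLocallyConstructible_compl hZ)]
            exact hy)
        exact this)
    let V : Y.Opens := ⟨(closure (Set.range f)ᶜ)ᶜ, isClosed_closure.isOpen_compl⟩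
    refine dichotomy_of_restrict isConsMor_isIso f g V U U.isOpen hηU _ fun s hs ↦
      isOpenImmersion_fiberMap_iff f g V s ?_
    ext y
    refine and_congr_right fun hy ↦ ⟨fun h ↦ by_contra fun h' ↦ h (subset_closure h'),
      fun h h' ↦ hU ⟨h', show g y ∈ U from (show g y = s from hy) ▸ hs⟩ h⟩
  · exact Or.inr (compl_dichotomy (isLocallyConstructible_isOpen_fibre g hZ) hopen fun s hs ↦
      (isOpen_range_fiberMap_iff f g s).1 (Scheme.Hom.isOpenEmbedding
        (f := MoreMor.fiberMap f g s) (H := hs)).isOpen_range)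

theorem isFieldStableMor_isImmersion : ConsProp.IsFieldStableMor (asMor.{u} @IsImmersion) := by
  intro X X' Y Y' T T' f g f' g' eX eY h _ _ _ _ _ _ _ _ hY hX
  refine ⟨fun hf ↦ MorphismProperty.of_isPullback hX hf, fun hf' ↦ ?_⟩
  have hh := fpqc_of_point h
  have hE : Groth.DescentBase.SFQ eY :=
    ⟨⟨MorphismProperty.of_isPullback hY.flip hh.1.1, MorphismProperty.of_isPullback hY.flip hh.1.2⟩,
      MorphismProperty.of_isPullback hY.flip hh.2⟩
  have : DiscreteTopology T := inferInstance
  have : UniversallyOpen h := Groth.DescentBase.universallyOpen_of_discrete h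
  have : UniversallyOpen eY := MorphismProperty.of_isPullback hY.flip this
  have : Surjective eY := hE.1.1
  have : IsImmersion f' := hf'
  exact Groth.DescentBase.isImmersion_of_isPullback hX.flip
    (eY.isOpenMap.isQuotientMap eY.continuous eY.surjective)
    (eY.isOpenMap.preimage_closure_eq_closure_preimage eY.continuous _) Groth.DescentBase.SFQ hE

theorem isConsMor_isImmersion : ConsProp.IsConsMor (asMor.{u} @IsImmersion) := by
  refine ⟨isFieldStableMor_isImmersion, fun X Y S f g _ _ _ _ _ _ ↦ ?_⟩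
  obtain ⟨_, _, _⟩ := fibre_admissible f g
  have : LocallyOfFinitePresentation g :=
    LocallyOfFinitePresentation.iff_locallyOfFiniteType.2 inferInstance
  have : LocallyOfFinitePresentation f :=
    LocallyOfFinitePresentation.iff_locallyOfFiniteType.2 inferInstance
  have hZ : IsLocallyConstructible (Set.range f) :=
    Set.image_univ ▸ f.isLocallyConstructible_image IsLocallyConstructible.univ
  have : CompactSpace Y := QuasiCompact.compactSpace_of_compactSpace g
  by_cases hlc : IsLocallyClosed (Subtype.val ⁻¹' Set.range f : Set ↥(g ⁻¹' {genericPoint S}))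
  · have hT := isLocallyConstructible_fibreCl g hZ
    have hD := hT.inter (Groth.EGA41Two.isLocallyConstructible_compl hZ)
    obtain ⟨U₁, hη₁, hU₁⟩ := exists_open_closure_subset g hZ.isConstructible hT.isConstructible
      Set.inter_subset_left
    obtain ⟨U₂, hη₂, hU₂⟩ := exists_open_closure_subset g hD.isConstructible hD.isConstructible (by
        rintro y ⟨hy, hyη⟩
        rw [isLocallyClosed_iff_isOpen_coborder, coborder, isOpen_compl_iff,
          closure_val_preimage g hZ] at hlc
        have := (closure_subset_iff_isClosed.2 hlc)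
          (show (⟨y, hyη⟩ : ↥(g ⁻¹' {genericPoint S})) ∈ closure _ by
            rw [Set.sdiff_eq, ← Set.preimage_compl, ← Set.preimage_inter, closure_val_preimage g hD]
            exact hy)
        exact this)
    let V : Y.Opens :=
      ⟨(closure (fibreCl g (Set.range f) ∩ (Set.range f)ᶜ))ᶜ, isClosed_closure.isOpen_compl⟩
    refine dichotomy_of_restrict isConsMor_isClosedImmersion f g V (U₁ ∩ U₂ : Set S)
      (U₁.isOpen.inter U₂.isOpen) ⟨hη₁, hη₂⟩ _ fun s hs ↦ isImmersion_fiberMap_iff f g V s ?_ ?_
    · rintro y ⟨hy, hyR⟩ h'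
      exact (hU₂ ⟨h', show g y ∈ U₂ from (show g y = s from hy) ▸ hs.2⟩).2 hyR
    · rintro y ⟨⟨h1, hy⟩, hyV⟩
      exact by_contra fun hn ↦ hyV (subset_closure
        ⟨hU₁ ⟨h1, show g y ∈ U₁ from (show g y = s from hy) ▸ hs.1⟩, hn⟩)
  · exact Or.inr (compl_dichotomy (isLocallyConstructible_isLocallyClosed_fibre g hZ) hlc
      fun s (hs : IsImmersion _) ↦ (isLocallyClosed_range_fiberMap_iff f g s).1
        (MoreMor.fiberMap f g s).isLocallyClosed_range)

end Groth.SpectralTopology
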