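import Groth.Agent.SpectralTopology.ConsGlobal
import Groth.Agent.SpectralTopology.NoethSystem
import Groth.Agent.SpectralTopology.DescendHom

set_option autoImplicit false

/-!
Noetherian models over an affine base (EGA IV 8.9.1), deduced from the descent of schemes of finite
presentation along limits (EGA IV 8.8.2 (ii)).
-/

open AlgebraicGeometry CategoryTheory CategoryTheory.Limits

namespace Groth.SpectralTopology

universe u

/-- Descent of finitely presented schemes along the system of finitely generated subrings of `A`. -/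
def CanDescend (A : CommRingCat.{u}) : Prop :=
  ∀ (X : Scheme.{u}) (f : X ⟶ (fgCone A).pt), LocallyOfFinitePresentation f → QuasiCompact f →
    QuasiSeparated f →
    ∃ (i : (FGSub A)ᵒᵖ) (Xi : Scheme.{u}) (fi : Xi ⟶ (fgSchemes A).obj i) (g : X ⟶ Xi),
      LocallyOfFinitePresentation fi ∧ QuasiCompact fi ∧ QuasiSeparated fi ∧
      IsPullback g f fi ((fgCone A).π.app i)

variable {A : CommRingCat.{u}} (hA : CanDescend A)

include hA in
/-- Two schemes of finite presentation over `Spec A` descend to one stage. -/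
theorem exists_models {X Y : Scheme.{u}} (f : X ⟶ (fgCone A).pt) (g : Y ⟶ (fgCone A).pt)
    [LocallyOfFinitePresentation f] [QuasiCompact f] [QuasiSeparated f]
    [LocallyOfFinitePresentation g] [QuasiCompact g] [QuasiSeparated g] :
    ∃ (k : (FGSub A)ᵒᵖ) (X₁ Y₁ : Scheme.{u}) (f₁ : X₁ ⟶ (fgSchemes A).obj k)
      (g₁ : Y₁ ⟶ (fgSchemes A).obj k) (qX : X ⟶ X₁) (qY : Y ⟶ Y₁),
      LocallyOfFinitePresentation f₁ ∧ QuasiCompact f₁ ∧ QuasiSeparated f₁ ∧
      LocallyOfFinitePresentation g₁ ∧ QuasiCompact g₁ ∧ QuasiSeparated g₁ ∧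
      IsPullback qX f f₁ ((fgCone A).π.app k) ∧ IsPullback qY g g₁ ((fgCone A).π.app k) := by
  obtain ⟨i, X₀, f₀, qX, h1, h2, h3, hX⟩ := hA X f inferInstance inferInstance inferInstance
  obtain ⟨j, Y₀, g₀, qY, h4, h5, h6, hY⟩ := hA Y g inferInstance inferInstance inferInstance
  let k := IsCofiltered.min i j
  let a : (fgSchemes A).obj k ⟶ _ := (fgSchemes A).map (IsCofiltered.minToLeft i j)
  let b : (fgSchemes A).obj k ⟶ _ := (fgSchemes A).map (IsCofiltered.minToRight i j)
  have ha : (fgCone A).π.app k ≫ a = (fgCone A).π.app i := (fgCone A).w _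
  have hb : (fgCone A).π.app k ≫ b = (fgCone A).π.app j := (fgCone A).w _
  have sX := IsPullback.of_hasPullback f₀ a
  have sY := IsPullback.of_hasPullback g₀ b
  refine ⟨k, _, _, pullback.snd f₀ a, pullback.snd g₀ b,
    sX.lift qX (f ≫ (fgCone A).π.app k) (by rw [Category.assoc, ha, hX.w]),
    sY.lift qY (g ≫ (fgCone A).π.app k) (by rw [Category.assoc, hb, hY.w]),
    MorphismProperty.pullback_snd _ _ h1, MorphismProperty.pullback_snd _ _ h2,
    MorphismProperty.pullback_snd _ _ h3, MorphismProperty.pullback_snd _ _ h4,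
    MorphismProperty.pullback_snd _ _ h5, MorphismProperty.pullback_snd _ _ h6, ?_, ?_⟩
  · exact IsPullback.of_right (by rw [sX.lift_fst, ha]; exact hX) (sX.lift_snd _ _ _) sX
  · exact IsPullback.of_right (by rw [sY.lift_fst, hb]; exact hY) (sY.lift_snd _ _ _) sY

include hA in
theorem nonempty_pairModel_fgCone {X Y : Scheme.{u}} (f : X ⟶ (fgCone A).pt)
    (g : Y ⟶ (fgCone A).pt)
    [LocallyOfFinitePresentation f] [QuasiCompact f] [QuasiSeparated f]
    [LocallyOfFinitePresentation g] [QuasiCompact g] [QuasiSeparated g] :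
    Nonempty (PairModel f g) := by
  obtain ⟨k, X₁, Y₁, f₁, g₁, qX, qY, _, _, _, _, _, _, hX, hY⟩ := exists_models hA f g
  exact ⟨{ S₀ := _, h := (fgCone A).π.app k, X₀ := X₁, Y₀ := Y₁, u₀ := f₁, v₀ := g₁,
           qX := qX, qY := qY, hX := hX, hY := hY }⟩

include hA in
theorem nonempty_morModel_fgCone {X Y : Scheme.{u}} (f : X ⟶ Y) (g : Y ⟶ (fgCone A).pt)
    [LocallyOfFinitePresentation g] [QuasiCompact g] [QuasiSeparated g]
    [LocallyOfFinitePresentation (f ≫ g)] [QuasiCompact (f ≫ g)] [QuasiSeparated (f ≫ g)] :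
    Nonempty (MorModel f g) := by
  obtain ⟨k, X₁, Y₁, u₁, g₁, qX, qY, _, _, _, _, _, _, hX, hY⟩ := exists_models hA (f ≫ g) g
  obtain ⟨j, φ, Xj, Yj, fj, gj, pX, pY, rX, rY, sY, sX, rsX, rsY⟩ :=
    exists_descend_hom (fgSchemes A) (fgCone A) (isLimitFgCone A) u₁ g₁ f g qX qY hX hY
  have : LocallyOfFinitePresentation gj := MorphismProperty.of_isPullback sY inferInstance
  have : QuasiCompact gj := MorphismProperty.of_isPullback sY inferInstance
  have : LocallyOfFinitePresentation (fj ≫ gj) := MorphismProperty.of_isPullback sX inferInstance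
  have : QuasiCompact (fj ≫ gj) := MorphismProperty.of_isPullback sX inferInstance
  exact ⟨{ S₀ := _, h := (fgCone A).π.app j, X₀ := Xj, Y₀ := Yj, f₀ := fj, g₀ := gj,
           qX := rX, qY := rY, hX := rsX, hY := rsY }⟩

end Groth.SpectralTopology
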