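import Groth.Agent.SpectralTopology.ConsBase
import Mathlib.AlgebraicGeometry.Morphisms.QuasiFinite
import Mathlib.AlgebraicGeometry.ZariskisMainTheorem

set_option autoImplicit false

/-!
EGA IV 9.3.5-9.6: standard examples of constructible properties.
-/

open AlgebraicGeometry CategoryTheory CategoryTheory.Limits Topology TopologicalSpace

namespace Groth.SpectralTopology

universe u

variable {X Y S : Scheme.{u}}

section Radicial

theorem universallyInjective_fiber_iff (u : X ⟶ S) (s : S) :
    UniversallyInjective (u.fiberToSpecResidueField s) ↔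
      ∀ t : ↥(pullback u u), (pullback.fst u u ≫ u) t = s → t ∈ Set.range (pullback.diagonal u) := by
  constructor
  · intro hui t ht
    let τ := (pullback u u).fromSpecResidueField t
    let p : Spec ((pullback u u).residueField t) := IsLocalRing.closedPoint _
    have hr : Set.range (τ ≫ pullback.fst u u) ⊆ Set.range (u.fiberι s) := by
      rw [u.range_fiberι]
      rintro _ ⟨q, rfl⟩
      simp only [Set.mem_preimage, Set.mem_singleton_iff]
      rw [← ht, ← Scheme.Hom.comp_apply, Category.assoc, Scheme.Hom.comp_apply,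
        Scheme.fromSpecResidueField_apply]
    -- the two projections agree on the point
    have hb : (τ ≫ pullback.fst u u) ≫ u = (τ ≫ pullback.snd u u) ≫ u := by
      simp [pullback.condition]
    obtain ⟨κ, hκ⟩ : ∃ κ : Spec ((pullback u u).residueField t) ⟶ Spec (S.residueField s),
        κ ≫ S.fromSpecResidueField s = (τ ≫ pullback.fst u u) ≫ u := by
      subst ht
      refine ⟨Spec.map ((pullback.fst u u ≫ u).residueFieldMap t), ?_⟩
      rw [Scheme.Hom.SpecMap_residueFieldMap_fromSpecResidueField, Category.assoc]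
    let g₁ := (isPullback_fiber u s).lift (τ ≫ pullback.fst u u) κ hκ.symm
    let g₂ := (isPullback_fiber u s).lift (τ ≫ pullback.snd u u) κ (hκ.trans hb).symm
    have heq : g₁ = g₂ := ((tfae_universallyInjective (u.fiberToSpecResidueField s)).out 0 1 rfl rfl).1
      hui ((pullback u u).residueField t) (by simp [g₁, g₂])
    have hτ : τ ≫ pullback.fst u u = τ ≫ pullback.snd u u := by
      have := congrArg (fun φ ↦ φ ≫ u.fiberι s) heq
      simpa [g₁, g₂] using this
    refine ⟨(τ ≫ pullback.fst u u) p, ?_⟩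
    rw [← Scheme.Hom.comp_apply]
    have : (τ ≫ pullback.fst u u) ≫ pullback.diagonal u = τ := by
      apply pullback.hom_ext
      · rw [Category.assoc, pullback.diagonal_fst, Category.comp_id]
      · rw [Category.assoc, pullback.diagonal_snd, Category.comp_id, hτ]
    rw [this, Scheme.fromSpecResidueField_apply]
  · intro h
    refine ((tfae_universallyInjective (u.fiberToSpecResidueField s)).out 0 1 rfl rfl).2 ?_
    intro K _ g₁ g₂ hg
    simp only at hg
    let pt : Spec (.of K) := IsLocalRing.closedPoint K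
    have hw : (g₁ ≫ u.fiberι s) ≫ u = (g₂ ≫ u.fiberι s) ≫ u := by
      simp only [Category.assoc, u.fiber_fac, reassoc_of% hg]
    let τ : Spec (.of K) ⟶ pullback u u := pullback.lift _ _ hw
    have hs : (pullback.fst u u ≫ u) (τ pt) = s := by
      rw [← Scheme.Hom.comp_apply, pullback.lift_fst_assoc, Category.assoc, u.fiber_fac,
        Scheme.Hom.comp_apply, Scheme.Hom.comp_apply, Scheme.fromSpecResidueField_apply]
    obtain ⟨x, hx⟩ := h _ hs
    -- `τ` factors through the diagonal
    obtain ⟨σ, hσ⟩ : ∃ σ : Spec (.of K) ⟶ X, σ ≫ pullback.diagonal u = τ := by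
      have hb := bijective_residueFieldMap (pullback.diagonal u) x
      obtain ⟨e, he⟩ := exists_section_of_bijective (pullback.diagonal u) hb
      refine ⟨Spec.map ((pullback u u).descResidueField
        (Scheme.stalkClosedPointTo τ)) ≫ Spec.map ((pullback u u).residueFieldCongr hx.symm).inv ≫ e, ?_⟩
      rw [Category.assoc, Category.assoc, he, Scheme.residueFieldCongr_inv,
        Scheme.residueFieldCongr_fromSpecResidueField]
      exact Scheme.descResidueField_stalkClosedPointTo_fromSpecResidueField K _ τ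
    have e1 : σ = g₁ ≫ u.fiberι s := by
      have := congrArg (fun φ ↦ φ ≫ pullback.fst u u) hσ
      simp only [Category.assoc, pullback.diagonal_fst, Category.comp_id] at this
      exact this.trans (pullback.lift_fst _ _ _)
    have e2 : σ = g₂ ≫ u.fiberι s := by
      have := congrArg (fun φ ↦ φ ≫ pullback.snd u u) hσ
      simp only [Category.assoc, pullback.diagonal_snd, Category.comp_id] at this
      exact this.trans (pullback.lift_snd _ _ _)
    exact (isPullback_fiber u s).hom_ext (e1.symm.trans e2) hg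

theorem locus_universallyInjective (u : X ⟶ S) :
    ConsProp.locus (fun _ _ g ↦ UniversallyInjective g) u =
      ((pullback.fst u u ≫ u) '' (Set.range (pullback.diagonal u))ᶜ)ᶜ := by
  ext s
  simp only [ConsProp.locus, Set.mem_ofPred_eq, Set.mem_compl_iff, Set.mem_image,
    universallyInjective_fiber_iff]
  exact ⟨fun h ⟨t, ht, hts⟩ ↦ ht (h t hts), fun h t hts ↦ by_contra fun ht ↦ h ⟨t, ht, hts⟩⟩

end Radicial

section QuasiFinite

theorem quasiFiniteAt_fiberι (u : X ⟶ S) [LocallyOfFiniteType u] {s : S} (z : u.fiber s) :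
    u.QuasiFiniteAt (u.fiberι s z) ↔ IsOpen ({z} : Set (u.fiber s)) := by
  have key : ∀ x, u x = s → u.fiberι s z = x → (u.QuasiFiniteAt x ↔ IsOpen ({z} : Set _)) := by
    rintro x rfl hz
    obtain rfl : z = u.asFiber x :=
      (u.fiberι _).isEmbedding.injective (hz.trans (u.fiberι_asFiber x).symm)
    exact Scheme.Hom.quasiFiniteAt_iff_isOpen_singleton_asFiber
  exact key _ ((u.range_fiberι s).le ⟨z, rfl⟩) rfl

theorem isFinite_fiber_iff (u : X ⟶ S) [LocallyOfFiniteType u] [QuasiCompact u] (s : S) :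
    IsFinite (u.fiberToSpecResidueField s) ↔ ∀ x, u x = s → u.QuasiFiniteAt x := by
  constructor
  · intro hf x hx
    obtain ⟨z, rfl⟩ := (u.range_fiberι s).ge (show x ∈ u ⁻¹' {s} from hx)
    rw [quasiFiniteAt_fiberι]
    have : IsLocallyArtinian (u.fiber s) := .of_locallyQuasiFinite (u.fiberToSpecResidueField s)
    exact isOpen_discrete _
  · intro h
    have : DiscreteTopology (u.fiber s) := discreteTopology_iff_isOpen_singleton.2 fun z ↦
      (quasiFiniteAt_fiberι u z).1 (h _ ((u.range_fiberι s).le ⟨z, rfl⟩))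
    have : LocallyQuasiFinite (u.fiberToSpecResidueField s) :=
      locallyQuasiFinite_iff_isDiscrete_preimage_singleton.2 fun t ↦ by
        have : (u.fiberToSpecResidueField s) ⁻¹' {t} = Set.univ :=
          Set.eq_univ_of_forall fun z ↦ Subsingleton.elim _ _
        rw [this, isDiscrete_univ_iff]; infer_instance
    exact IsFinite.of_locallyQuasiFinite _

theorem locus_isFinite (u : X ⟶ S) [LocallyOfFiniteType u] [QuasiCompact u] :
    ConsProp.locus (fun _ _ g ↦ IsFinite g) u = (u '' (u.quasiFiniteLocus : Set X)ᶜ)ᶜ := by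
  ext s
  simp only [ConsProp.locus, Set.mem_ofPred_eq, Set.mem_compl_iff, Set.mem_image, SetLike.mem_coe,
    Scheme.Hom.mem_quasiFiniteLocus, isFinite_fiber_iff]
  exact ⟨fun h ⟨x, hx, hxs⟩ ↦ hx (h x hxs), fun h x hxs ↦ by_contra fun hx ↦ h ⟨x, hx, hxs⟩⟩

end QuasiFinite

section Fibrewise

theorem fibre_admissible (f : X ⟶ Y) (g : Y ⟶ S) [IsLocallyNoetherian S] [LocallyOfFiniteType g]
    [QuasiCompact g] [LocallyOfFiniteType (f ≫ g)] [QuasiCompact (f ≫ g)] :
    LocallyOfFiniteType f ∧ QuasiCompact f ∧ IsLocallyNoetherian Y := by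
  have : IsLocallyNoetherian Y := LocallyOfFiniteType.isLocallyNoetherian g
  exact ⟨locallyOfFiniteType_of_comp f g,
    MorphismProperty.of_postcomp (W := @QuasiCompact) (W' := @QuasiSeparated) f g inferInstance
      inferInstance, this⟩

theorem locusMor_forall_fiber {P : ∀ ⦃Y T : Scheme.{u}⦄, (Y ⟶ T) → Prop}
    (hP : ConsProp.IsFieldStable P) (f : X ⟶ Y) (g : Y ⟶ S)
    [LocallyOfFiniteType f] [QuasiCompact f] :
    ConsProp.locusMor (fun X Y _ f _ ↦ ∀ y : ↥Y, P (f.fiberToSpecResidueField y)) f g =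
      (g '' (ConsProp.locus P f)ᶜ)ᶜ := by
  ext s
  have h := locus_preimage hP (isPullback_fiberMap f g s)
  simp only [ConsProp.locusMor, Set.mem_ofPred_eq, Set.mem_compl_iff, Set.mem_image]
  constructor
  · rintro hs ⟨y, hy, rfl⟩
    have : g.asFiber y ∈ ConsProp.locus P (MoreMor.fiberMap f g (g y)) := hs _
    rw [h, Set.mem_preimage, Scheme.Hom.fiberι_asFiber] at this
    exact hy this
  · intro hs z
    show z ∈ ConsProp.locus P (MoreMor.fiberMap f g s)
    rw [h]
    exact by_contra fun hz ↦ hs ⟨_, hz, (g.range_fiberι s).le ⟨z, rfl⟩⟩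

theorem isFieldStableMor_forall_fiber {P : ∀ ⦃Y T : Scheme.{u}⦄, (Y ⟶ T) → Prop}
    (hP : ConsProp.IsFieldStable P) :
    ConsProp.IsFieldStableMor (fun X Y _ f _ ↦ ∀ y : ↥Y, P (f.fiberToSpecResidueField y)) := by
  intro X X' Y Y' T T' f g f' g' eX eY h _ _ _ _ _ _ _ _ hY hX
  obtain ⟨hft, hqc, -⟩ := fibre_admissible f g
  have hl := locus_preimage hP hX
  have : Surjective eY := MorphismProperty.of_isPullback (P := @Surjective) hY.flip (surjective_of_point h)
  constructor
  · intro hf y'
    show y' ∈ ConsProp.locus P f'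
    rw [hl]
    exact hf _
  · intro hf y
    obtain ⟨y', rfl⟩ := eY.surjective y
    show y' ∈ eY ⁻¹' ConsProp.locus P f
    rw [← hl]
    exact hf y'

theorem isConsMor_congr {P Q : ∀ ⦃X Y T : Scheme.{u}⦄, (X ⟶ Y) → (Y ⟶ T) → Prop}
    (hPQ : ∀ ⦃X Y T : Scheme.{u}⦄ (f : X ⟶ Y) (g : Y ⟶ T) [IsIntegral T] [Subsingleton T]
      [LocallyOfFiniteType g] [QuasiCompact g] [LocallyOfFiniteType (f ≫ g)] [QuasiCompact (f ≫ g)],
      P f g ↔ Q f g)
    (hP : ConsProp.IsConsMor P) : ConsProp.IsConsMor Q := by
  refine ⟨fun X X' Y Y' T T' f g f' g' eX eY h _ _ _ _ _ _ _ _ hY hX ↦ ?_, fun X Y S f g _ _ _ _ _ _ ↦ ?_⟩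
  · have sqX := hX.paste_vert hY
    have : LocallyOfFiniteType g' := MorphismProperty.of_isPullback hY inferInstance
    have : QuasiCompact g' := MorphismProperty.of_isPullback hY inferInstance
    have : LocallyOfFiniteType (f' ≫ g') := MorphismProperty.of_isPullback sqX inferInstance
    have : QuasiCompact (f' ≫ g') := MorphismProperty.of_isPullback sqX inferInstance
    rw [← hPQ f g, ← hPQ f' g']
    exact hP.1 _ _ _ _ _ _ _ hY hX
  · have : ConsProp.locusMor Q f g = ConsProp.locusMor P f g := Set.ext fun s ↦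
      (hPQ (MoreMor.fiberMap f g s) (g.fiberToSpecResidueField s)).symm
    rw [this]
    exact hP.2 f g

theorem isConsMor_forall_fiber {P : ∀ ⦃Y T : Scheme.{u}⦄, (Y ⟶ T) → Prop}
    (hP : ConsProp.IsCons P) :
    ConsProp.IsConsMor (fun X Y _ f _ ↦ ∀ y : ↥Y, P (f.fiberToSpecResidueField y)) := by
  refine ⟨isFieldStableMor_forall_fiber hP.1, fun X Y S f g _ _ _ _ _ _ ↦ ?_⟩
  obtain ⟨_, _, _⟩ := fibre_admissible f g
  have : CompactSpace Y := QuasiCompact.compactSpace_of_compactSpace g
  have : AlgebraicGeometry.IsNoetherian Y := {}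
  have : LocallyOfFinitePresentation g :=
    LocallyOfFinitePresentation.iff_locallyOfFiniteType.2 inferInstance
  rw [locusMor_forall_fiber hP.1]
  exact interior_nonempty_or_of_isConstructible
    (g.isConstructible_image (isConstructible_locus hP f).compl).compl

end Fibrewise

end Groth.SpectralTopology
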