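import Groth.Agent.SpectralTopology.FibreTopo
import Groth.Agent.SpectralTopology.FpCancel
import Groth.Agent.PropsBasic2.SepCrit

set_option autoImplicit false

/-! The diagonal of the morphism of fibres. -/

open AlgebraicGeometry CategoryTheory CategoryTheory.Limits Topology TopologicalSpace

namespace Groth.SpectralTopology

universe u

variable {X Y S : Scheme.{u}} (f : X ⟶ Y) (g : Y ⟶ S) (s : S)

/-- The self product of the morphism of fibres inside the self product. -/
noncomputable def fiberSq :
    pullback (MoreMor.fiberMap f g s) (MoreMor.fiberMap f g s) ⟶ pullback f f :=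
  pullback.lift (pullback.fst _ _ ≫ (f ≫ g).fiberι s) (pullback.snd _ _ ≫ (f ≫ g).fiberι s)
    (by rw [Category.assoc, Category.assoc, ← fiberMap_fiberι, pullback.condition_assoc])

theorem isPullback_fiberSq :
    IsPullback (fiberSq f g s) (pullback.fst (MoreMor.fiberMap f g s) (MoreMor.fiberMap f g s))
      (pullback.fst f f) ((f ≫ g).fiberι s) := by
  have sq := (IsPullback.of_hasPullback (MoreMor.fiberMap f g s) (MoreMor.fiberMap f g s)).flip.paste_horiz
    (isPullback_fiberMap f g s)
  rw [fiberMap_fiberι] at sq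
  exact IsPullback.of_right (by rw [fiberSq, pullback.lift_snd]; exact sq)
    (by rw [fiberSq, pullback.lift_fst]) (IsPullback.of_hasPullback f f).flip

theorem range_fiberSq :
    Set.range (fiberSq f g s) = ⇑(pullback.fst f f ≫ f ≫ g) ⁻¹' {s} := by
  ext p
  constructor
  · rintro ⟨w, rfl⟩
    show (pullback.fst f f ≫ f ≫ g) _ = s
    rw [← Scheme.Hom.comp_apply, reassoc_of% (isPullback_fiberSq f g s).w,
      Scheme.Hom.comp_apply, Scheme.Hom.comp_apply]
    exact ((f ≫ g).range_fiberι s).le ⟨_, rfl⟩
  · intro hp
    obtain ⟨a, ha⟩ := ((f ≫ g).range_fiberι s).ge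
      (show pullback.fst f f p ∈ (f ≫ g) ⁻¹' {s} from hp)
    obtain ⟨w, hw, -⟩ := Scheme.Pullback.exists_preimage_pullback p a ha.symm
    refine ⟨(isPullback_fiberSq f g s).isoPullback.inv w, ?_⟩
    rw [← Scheme.Hom.comp_apply, IsPullback.isoPullback_inv_fst]
    exact hw

theorem diagonal_fiberSq :
    pullback.diagonal (MoreMor.fiberMap f g s) ≫ fiberSq f g s =
      (f ≫ g).fiberι s ≫ pullback.diagonal f := by
  apply pullback.hom_ext
  · rw [Category.assoc, Category.assoc, fiberSq, pullback.lift_fst, pullback.diagonal_fst,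
      pullback.diagonal_fst_assoc]
    exact (Category.comp_id _).symm
  · rw [Category.assoc, Category.assoc, fiberSq, pullback.lift_snd, pullback.diagonal_snd,
      pullback.diagonal_snd_assoc]
    exact (Category.comp_id _).symm

theorem range_diagonal_fiberMap :
    Set.range (pullback.diagonal (MoreMor.fiberMap f g s)) =
      fiberSq f g s ⁻¹' Set.range (pullback.diagonal f) := by
  have : IsPreimmersion (fiberSq f g s) :=
    MorphismProperty.of_isPullback (P := @IsPreimmersion) (isPullback_fiberSq f g s).flip inferInstance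
  refine Set.Subset.antisymm ?_ fun w ⟨x, hx⟩ ↦ ?_
  · rintro _ ⟨x, rfl⟩
    refine ⟨(f ≫ g).fiberι s x, ?_⟩
    rw [← Scheme.Hom.comp_apply, ← diagonal_fiberSq, Scheme.Hom.comp_apply]
  · have hxs : (f ≫ g) x = s := by
      have := (range_fiberSq f g s).le ⟨w, hx.symm⟩
      rwa [Set.mem_preimage, Set.mem_singleton_iff, ← Scheme.Hom.comp_apply,
        pullback.diagonal_fst_assoc] at this
    obtain ⟨a, rfl⟩ := ((f ≫ g).range_fiberι s).ge hxs
    refine ⟨a, (fiberSq f g s).isEmbedding.injective ?_⟩
    rw [← Scheme.Hom.comp_apply, diagonal_fiberSq, Scheme.Hom.comp_apply, hx]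

theorem isSeparated_fiberMap_iff :
    IsSeparated (MoreMor.fiberMap f g s) ↔
      IsClosed (Subtype.val ⁻¹' Set.range (pullback.diagonal f) :
        Set ↥(⇑(pullback.fst f f ≫ f ≫ g) ⁻¹' {s})) := by
  have : IsPreimmersion (fiberSq f g s) :=
    MorphismProperty.of_isPullback (P := @IsPreimmersion) (isPullback_fiberSq f g s).flip inferInstance
  let e := (fiberSq f g s).isEmbedding.toHomeomorph.trans
    (Homeomorph.setCongr (range_fiberSq f g s))
  rw [← e.isClosed_preimage]
  have : e ⁻¹' (Subtype.val ⁻¹' Set.range (pullback.diagonal f)) =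
      Set.range (pullback.diagonal (MoreMor.fiberMap f g s)) := by
    rw [range_diagonal_fiberMap]; rfl
  rw [this]
  exact ⟨fun _ ↦ (pullback.diagonal (MoreMor.fiberMap f g s)).isClosedEmbedding.isClosed_range,
    Groth.PropsBasic2.isSeparated_of_isClosed_range _⟩

theorem isLocallyConstructible_isSeparated
    [LocallyOfFinitePresentation g] [QuasiCompact g] [QuasiSeparated g]
    [LocallyOfFinitePresentation (f ≫ g)] [QuasiCompact (f ≫ g)] [QuasiSeparated (f ≫ g)] :
    IsLocallyConstructible {s : S | IsSeparated (MoreMor.fiberMap f g s)} := by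
  obtain ⟨_, _, _⟩ := fp_left f g
  simp only [isSeparated_fiberMap_iff]
  have : LocallyOfFinitePresentation (pullback.diagonal f) := Groth.Agent.S4599.result f
  exact isLocallyConstructible_isClosed_fibre _
    (Set.image_univ ▸ (pullback.diagonal f).isLocallyConstructible_image IsLocallyConstructible.univ)

end Groth.SpectralTopology
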