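import Groth.Agent.SpectralTopology.FibreClosure
import Mathlib.Topology.LocallyClosed

set_option autoImplicit false

/-! EGA IV 9.5.3-9.5.4: density and closedness in fibres. -/

open AlgebraicGeometry CategoryTheory CategoryTheory.Limits Topology TopologicalSpace

namespace Groth.SpectralTopology

universe u

open Groth.EGA41Two (isLocallyConstructible_compl)

variable {X S : Scheme.{u}} (f : X ⟶ S)
  [LocallyOfFinitePresentation f] [QuasiCompact f]

theorem isLocallyConstructible_forall_fibre {W : Set X} (hW : IsLocallyConstructible W) :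
    IsLocallyConstructible {s : S | f ⁻¹' {s} ⊆ W} := by
  have : {s : S | f ⁻¹' {s} ⊆ W} = (f '' Wᶜ)ᶜ := by
    ext s
    exact ⟨fun h ⟨x, hx, hxs⟩ ↦ hx (h hxs), fun h x hxs ↦ by_contra fun hx ↦ h ⟨x, hx, hxs⟩⟩
  rw [this]
  exact isLocallyConstructible_compl (f.isLocallyConstructible_image (isLocallyConstructible_compl hW))

omit [LocallyOfFinitePresentation f] [QuasiCompact f] in
theorem mem_closure_inter_iff {Z : Set X} (hZ : IsLocallyConstructible Z) {x : X} {s : S}
    (hx : f x = s) : x ∈ closure (Z ∩ f ⁻¹' {s}) ↔ x ∈ fibreCl f Z := by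
  subst hx; exact (mem_fibreCl_iff f hZ).symm

theorem isLocallyConstructible_dense {Z Z' : Set X} (hZ : IsLocallyConstructible Z)
    (hZ' : IsLocallyConstructible Z') :
    IsLocallyConstructible {s : S | Z' ∩ f ⁻¹' {s} ⊆ closure (Z ∩ f ⁻¹' {s})} := by
  convert isLocallyConstructible_forall_fibre f
    ((isLocallyConstructible_compl hZ').union (isLocallyConstructible_fibreCl f hZ)) using 1
  ext s
  refine forall_congr' fun x ↦ ⟨fun h hxs ↦ ?_, fun h hx ↦ ?_⟩
  · by_cases hx : x ∈ Z'
    · exact Or.inr ((mem_closure_inter_iff f hZ hxs).1 (h ⟨hx, hxs⟩))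
    · exact Or.inl hx
  · exact (mem_closure_inter_iff f hZ hx.2).2 ((h hx.2).resolve_left fun h' ↦ h' hx.1)

omit [LocallyOfFinitePresentation f] [QuasiCompact f] in
theorem closure_val_preimage {Z : Set X} (hZ : IsLocallyConstructible Z) (s : S) :
    closure (Subtype.val ⁻¹' Z : Set ↥(f ⁻¹' {s})) = Subtype.val ⁻¹' fibreCl f Z := by
  ext ⟨x, hx⟩
  rw [closure_subtype, Subtype.image_preimage_coe, Set.inter_comm]
  exact mem_closure_inter_iff f hZ hx

theorem isLocallyConstructible_isClosed_fibre {Z : Set X} (hZ : IsLocallyConstructible Z) :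
    IsLocallyConstructible {s : S | IsClosed (Subtype.val ⁻¹' Z : Set ↥(f ⁻¹' {s}))} := by
  convert isLocallyConstructible_forall_fibre f
    ((isLocallyConstructible_compl (isLocallyConstructible_fibreCl f hZ)).union hZ) using 1
  ext s
  simp only [Set.mem_ofPred_eq, ← closure_subset_iff_isClosed, closure_val_preimage f hZ]
  exact ⟨fun h x hx ↦ (em (x ∈ fibreCl f Z)).elim (fun hc ↦ Or.inr (@h ⟨x, hx⟩ hc)) Or.inl,
    fun h x hc ↦ (h x.2).resolve_left fun h' ↦ h' hc⟩

theorem isLocallyConstructible_isOpen_fibre {Z : Set X} (hZ : IsLocallyConstructible Z) :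
    IsLocallyConstructible {s : S | IsOpen (Subtype.val ⁻¹' Z : Set ↥(f ⁻¹' {s}))} := by
  simpa only [Set.preimage_compl, isClosed_compl_iff] using
    isLocallyConstructible_isClosed_fibre f (isLocallyConstructible_compl hZ)

theorem isLocallyConstructible_isLocallyClosed_fibre {Z : Set X} (hZ : IsLocallyConstructible Z) :
    IsLocallyConstructible
      {s : S | IsLocallyClosed (Subtype.val ⁻¹' Z : Set ↥(f ⁻¹' {s}))} := by
  convert isLocallyConstructible_isClosed_fibre f
    ((isLocallyConstructible_fibreCl f hZ).inter (isLocallyConstructible_compl hZ)) using 1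
  ext s
  simp only [Set.mem_ofPred_eq, isLocallyClosed_iff_isOpen_coborder, coborder, isOpen_compl_iff,
    closure_val_preimage f hZ]
  rfl

end Groth.SpectralTopology
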