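import Groth.Agent.SpectralTopology.StageModel
import Mathlib.RingTheory.Extension.Presentation.Core
import Mathlib.AlgebraicGeometry.Pullbacks

set_option autoImplicit false
set_option backward.isDefEq.respectTransparency false

/-!
EGA IV 8.8.2 (ii), affine case: an affine open mapping into an affine open coming from a stage has
a model at a stage.
-/

open AlgebraicGeometry CategoryTheory CategoryTheory.Limits

namespace Groth.SpectralTopology

universe u

theorem quasiSeparated_of_quasiSeparatedSpace {X Y : Scheme.{u}} (f : X ⟶ Y)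
    [QuasiSeparatedSpace X] : QuasiSeparated f := by
  have : QuasiSeparated (f ≫ terminal.from Y) := by
    rw [terminalIsTerminal.hom_ext (f ≫ terminal.from Y) (terminal.from X),
      ← quasiSeparatedSpace_iff_quasiSeparated]
    infer_instance
  exact QuasiSeparated.of_comp f (terminal.from Y)

section Ring

open TensorProduct

/-- An algebra of finite presentation whose coefficients come from a smaller ring is a pushout of
an algebra of finite presentation over that ring. -/
theorem exists_isPushout_of_coeffs {R₀ A B : CommRingCat.{u}} (ψ : R₀ ⟶ A) (φ : A ⟶ B)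
    {ι σ : Type} [Finite ι] [Finite σ]
    (P : letI := φ.hom.toAlgebra; Algebra.Presentation A B ι σ)
    (hP : letI := φ.hom.toAlgebra; P.coeffs ⊆ Set.range ψ.hom) :
    ∃ (B₀ : CommRingCat.{u}) (χ : R₀ ⟶ B₀) (β : B₀ ⟶ B),
      χ.hom.FinitePresentation ∧ IsPushout ψ χ φ β := by
  letI := φ.hom.toAlgebra
  letI : Algebra R₀ A := ψ.hom.toAlgebra
  letI : Algebra R₀ B := (φ.hom.comp ψ.hom).toAlgebra
  haveI : IsScalarTower R₀ A B := IsScalarTower.of_algebraMap_eq' rfl
  haveI : P.HasCoeffs R₀ := ⟨hP⟩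
  have sq := CommRingCat.isPushout_tensorProduct R₀ A (P.ModelOfHasCoeffs R₀)
  let e : CommRingCat.of (A ⊗[R₀] P.ModelOfHasCoeffs R₀) ≅ B :=
    (P.tensorModelOfHasCoeffsEquiv R₀).toRingEquiv.toCommRingCatIso
  refine ⟨CommRingCat.of (P.ModelOfHasCoeffs R₀), CommRingCat.ofHom (algebraMap _ _),
    CommRingCat.ofHom (Algebra.TensorProduct.includeRight (R := R₀) (A := A)).toRingHom ≫ e.hom,
    RingHom.finitePresentation_algebraMap.2 inferInstance, ?_⟩
  refine sq.of_iso (Iso.refl _) (Iso.refl _) (Iso.refl _) e ?_ ?_ ?_ ?_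
  · simp; rfl
  · simp
  · ext x
    exact (P.tensorModelOfHasCoeffsEquiv R₀).commutes x
  · simp

end Ring

variable {I : Type u} [Category.{u} I] [IsCofiltered I] (D : I ⥤ Scheme.{u})
  [∀ (i j : I) (f : i ⟶ j), IsAffineHom (D.map f)] (c : Cone D) (hc : IsLimit c)

include hc in
/-- The affine case of EGA IV 8.8.2 (ii). -/
theorem exists_stageModel_of_isAffineOpen [∀ i, CompactSpace (D.obj i)]
    [∀ i, QuasiSeparatedSpace (D.obj i)]
    {X : Scheme.{u}} (f : X ⟶ c.pt) [LocallyOfFinitePresentation f] {i : I} {W : (D.obj i).Opens}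
    (hW : IsAffineOpen W) {U : X.Opens} (hU : IsAffineOpen U) (h : U ≤ f ⁻¹ᵁ (c.π.app i ⁻¹ᵁ W)) :
    ∃ j : I, Nonempty (StageModel (U.ι ≫ f) j) := by
  classical
  let E := opensDiagram D i W
  let e := opensCone D c i W
  have he : IsLimit e := isLimitOpensCone D c hc i W
  have (j : Over i) : IsAffine (E.obj j) := hW.preimage (D.map j.hom)
  have : IsAffine e.pt := Scheme.isAffine_of_isLimit _ he
  have : IsAffine U.toScheme := hU
  let g : U.toScheme ⟶ e.pt := f.resLE (c.π.app i ⁻¹ᵁ W) U h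
  have : IsAffine (c.π.app i ⁻¹ᵁ W).toScheme := ‹IsAffine e.pt›
  have hg : LocallyOfFinitePresentation g := by
    show LocallyOfFinitePresentation (f.resLE (c.π.app i ⁻¹ᵁ W) U h)
    delta Scheme.Hom.resLE
    infer_instance
  letI := g.appTop.hom.toAlgebra
  haveI : Algebra.FinitePresentation Γ(e.pt, ⊤) Γ(U.toScheme, ⊤) :=
    (HasRingHomProperty.iff_of_isAffine (P := @LocallyOfFinitePresentation)).1 hg
  let P := Algebra.Presentation.ofFinitePresentation Γ(e.pt, ⊤) Γ(U.toScheme, ⊤)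
  -- the coefficients come from a stage
  choose k t ht using fun a : P.coeffs ↦
    exists_appTop_π_eq_of_isAffine_of_isLimit E e he a.1
  have : Finite P.coeffs := P.finite_coeffs.to_subtype
  obtain ⟨l₀, hl₀⟩ := IsCofiltered.inf_objs_exists (Set.finite_range k).toFinset
  have hl : ∀ a : P.coeffs, Nonempty (l₀ ⟶ k a) := fun a ↦ hl₀ (by simp)
  have hP : P.coeffs ⊆ Set.range (e.π.app l₀).appTop.hom := fun a ha ↦
    ⟨(E.map (hl ⟨a, ha⟩).some).appTop.hom (t ⟨a, ha⟩), by
      rw [← CommRingCat.comp_apply, ← Scheme.Hom.comp_appTop, e.w]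
      exact ht ⟨a, ha⟩⟩
  obtain ⟨B₀, χ, β, hχ, sq⟩ := exists_isPushout_of_coeffs (e.π.app l₀).appTop g.appTop P hP
  let m : Spec B₀ ⟶ E.obj l₀ := Spec.map χ ≫ (E.obj l₀).isoSpec.inv
  let q : U.toScheme ⟶ Spec B₀ := U.toScheme.isoSpec.hom ≫ Spec.map β
  have sq₁ : IsPullback q g m (e.π.app l₀) := by
    refine (isPullback_SpecMap_of_isPushout _ _ _ _ sq).flip.of_iso U.toScheme.isoSpec.symm
      (Iso.refl _) e.pt.isoSpec.symm (E.obj l₀).isoSpec.symm ?_ ?_ ?_ ?_
    · simp [q]
    · simp [Scheme.isoSpec_inv_naturality]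
    · simp [m]
    · simp [Scheme.isoSpec_inv_naturality]
  let Wl : (D.obj l₀.left).Opens := D.map l₀.hom ⁻¹ᵁ W
  have sq₂ : IsPullback (e.π.app l₀) (c.π.app i ⁻¹ᵁ W).ι Wl.ι (c.π.app l₀.left) :=
    IsOpenImmersion.isPullback _ _ _ _ (by simp [e, Wl])
      (by simp [Wl, ← Scheme.Hom.comp_preimage])
  have sq₃ : IsPullback q (U.ι ≫ f) (m ≫ Wl.ι) (c.π.app l₀.left) := by
    have := sq₁.paste_vert sq₂
    rwa [show g ≫ (c.π.app i ⁻¹ᵁ W).ι = U.ι ≫ f from Scheme.Hom.resLE_comp_ι _ h] at this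
  have : LocallyOfFinitePresentation (Spec.map χ) :=
    (HasRingHomProperty.Spec_iff (P := @LocallyOfFinitePresentation)).2 hχ
  have : QuasiCompact (m ≫ Wl.ι) := quasiCompact_of_compactSpace _
  have : QuasiSeparated (m ≫ Wl.ι) := quasiSeparated_of_quasiSeparatedSpace _
  exact ⟨l₀.left, ⟨StageModel.mk (Spec B₀) (m ≫ Wl.ι) q sq₃⟩⟩

end Groth.SpectralTopology
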