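import Groth.Agent.SpectralTopology.ConsBase
import Groth.Agent.SpectralTopology.DescendHom
import Groth.Agent.SpectralTopology.AlgSystem
import Groth.Agent.SpectralTopology.AffineStageModel

set_option autoImplicit false
set_option backward.isDefEq.respectTransparency false

/-!
EGA IV 9.6 / 8.10.5: for a property `Q` of morphisms that spreads out along limits, the relation
"some extension of the base field carries a morphism with `Q` between the two schemes" is
ind-constructible.
-/

open AlgebraicGeometry CategoryTheory CategoryTheory.Limits Topology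

namespace Groth.SpectralTopology

universe u

/-- `Q` descends along cofiltered limits of quasi-compact Noetherian schemes with affine transition
maps, for morphisms of finite presentation between schemes of finite presentation. -/
def Spreads (Q : MorphismProperty Scheme.{u}) : Prop :=
  ∀ {I : Type u} [SmallCategory I] [IsCofiltered I] (D : I ⥤ Scheme.{u}) (c : Cone D)
    (_ : IsLimit c) [∀ (i j : I) (a : i ⟶ j), IsAffineHom (D.map a)]
    [∀ i, CompactSpace (D.obj i)] [∀ i, QuasiSeparatedSpace (D.obj i)]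
    [∀ i, IsLocallyNoetherian (D.obj i)]
    {i : I} {X₀ Y₀ : Scheme.{u}} (f₀ : X₀ ⟶ Y₀) (g₀ : Y₀ ⟶ D.obj i)
    [LocallyOfFinitePresentation g₀] [QuasiCompact g₀] [QuasiSeparated g₀]
    [LocallyOfFinitePresentation f₀] [QuasiCompact f₀] [QuasiSeparated f₀]
    {X Y : Scheme.{u}} (f : X ⟶ Y) (g : Y ⟶ c.pt) (qY : Y ⟶ Y₀) (qX : X ⟶ X₀),
    IsPullback qY g g₀ (c.π.app i) → IsPullback qX f f₀ qY → Q f →
      ∃ (j : I) (φ : j ⟶ i), Q (pullback.snd f₀ (pullback.snd (D.map φ) g₀))

/-- Some extension of the base field carries a morphism with property `Q`. -/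
abbrev ExistsBC (Q : MorphismProperty Scheme.{u}) :
    ∀ ⦃X Y T : Scheme.{u}⦄, (X ⟶ T) → (Y ⟶ T) → Prop := fun X Y T gX gY ↦
  ∃ (T' X' Y' : Scheme.{u}) (h : T' ⟶ T) (gX' : X' ⟶ T') (gY' : Y' ⟶ T')
    (eX : X' ⟶ X) (eY : Y' ⟶ Y), IsIntegral T' ∧ Subsingleton ↥T' ∧
      IsPullback eX gX' gX h ∧ IsPullback eY gY' gY h ∧
        ∃ g : X' ⟶ Y', g ≫ gY' = gX' ∧ Q g

variable {Q : MorphismProperty Scheme.{u}} [Q.IsStableUnderBaseChange]

/-- Base change of a witness. -/
theorem existsBC_witness {X' Y' T' T'' : Scheme.{u}} {gX' : X' ⟶ T'} {gY' : Y' ⟶ T'} (a : T'' ⟶ T')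
    (g : X' ⟶ Y') (hg : g ≫ gY' = gX') (hQ : Q g) :
    ∃ g'' : pullback gX' a ⟶ pullback gY' a, g'' ≫ pullback.snd gY' a = pullback.snd gX' a ∧ Q g'' := by
  let g'' : pullback gX' a ⟶ pullback gY' a :=
    pullback.lift (pullback.fst _ _ ≫ g) (pullback.snd _ _)
      (by rw [Category.assoc, hg, pullback.condition])
  refine ⟨g'', pullback.lift_snd _ _ _, ?_⟩
  have sq : IsPullback (pullback.fst gX' a) g'' g (pullback.fst gY' a) :=
    IsPullback.of_bot (by rw [hg, pullback.lift_snd]; exact IsPullback.of_hasPullback _ _)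
      (pullback.lift_fst _ _ _).symm (IsPullback.of_hasPullback _ _)
  exact Q.of_isPullback sq hQ

theorem isFieldStablePair_existsBC : ConsPropPair.IsFieldStablePair (ExistsBC Q) := by
  intro X X' Y Y' T T' gX gY gX' gY' eX eY h _ _ _ _ _ _ _ _ hX hY
  refine ⟨?_, ?_⟩
  · rintro ⟨T₁, X₁, Y₁, h₁, gX₁, gY₁, eX₁, eY₁, hT₁, hT₁', sX, sY, g, hg, hQ⟩
    have : Surjective h₁ := surjective_of_point h₁
    have hP : Nonempty ↥(pullback h₁ h) := by
      obtain ⟨t⟩ := (inferInstance : Nonempty T')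
      obtain ⟨t₁, ht₁⟩ := h₁.surjective (h t)
      obtain ⟨p, -⟩ := Scheme.Pullback.exists_preimage_pullback t₁ t ht₁
      exact ⟨p⟩
    obtain ⟨p⟩ := hP
    let pt : Spec ((pullback h₁ h).residueField p) ⟶ pullback h₁ h :=
      (pullback h₁ h).fromSpecResidueField p
    let a := pt ≫ pullback.fst h₁ h
    let b := pt ≫ pullback.snd h₁ h
    have hab : a ≫ h₁ = b ≫ h := by simp only [a, b, Category.assoc, pullback.condition]
    have sX' : IsPullback (pullback.fst gX₁ a ≫ eX₁) (pullback.snd gX₁ a) gX (a ≫ h₁) :=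
      (IsPullback.of_hasPullback gX₁ a).paste_horiz sX
    have sY' : IsPullback (pullback.fst gY₁ a ≫ eY₁) (pullback.snd gY₁ a) gY (a ≫ h₁) :=
      (IsPullback.of_hasPullback gY₁ a).paste_horiz sY
    rw [hab] at sX' sY'
    obtain ⟨g'', hg'', hQ''⟩ := existsBC_witness (T'' := Spec ((pullback h₁ h).residueField p)) a g hg hQ
    refine ⟨Spec ((pullback h₁ h).residueField p), _, _, b, pullback.snd gX₁ a, pullback.snd gY₁ a,
      hX.lift (pullback.fst gX₁ a ≫ eX₁) (pullback.snd gX₁ a ≫ b)
        (by simp [sX'.w, b]),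
      hY.lift (pullback.fst gY₁ a ≫ eY₁) (pullback.snd gY₁ a ≫ b)
        (by simp [sY'.w, b]),
      inferInstance, inferInstance, ?_, ?_, g'', hg'', hQ''⟩
    · exact IsPullback.of_right (by rw [hX.lift_fst]; exact sX') (hX.lift_snd _ _ _) hX
    · exact IsPullback.of_right (by rw [hY.lift_fst]; exact sY') (hY.lift_snd _ _ _) hY
  · rintro ⟨T₁, X₁, Y₁, h₁, gX₁, gY₁, eX₁, eY₁, hT₁, hT₁', sX, sY, g, hg, hQ⟩
    exact ⟨T₁, X₁, Y₁, h₁ ≫ h, gX₁, gY₁, eX₁ ≫ eX, eY₁ ≫ eY, hT₁, hT₁',
      sX.paste_horiz hX, sY.paste_horiz hY, g, hg, hQ⟩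

/-- The points of the image of a stage carrying a witness lie in the locus. -/
theorem range_subset_locusPair {X Y S B : Scheme.{u}} (u : X ⟶ S) (v : Y ⟶ S) (σ : B ⟶ S)
    {XB YB : Scheme.{u}} {uB : XB ⟶ B} {vB : YB ⟶ B} {qX : XB ⟶ X} {qY : YB ⟶ Y}
    (sX : IsPullback qX uB u σ) (sY : IsPullback qY vB v σ) (g : XB ⟶ YB) (hg : g ≫ vB = uB)
    (hQ : Q g) : Set.range σ ⊆ ConsPropPair.locusPair (ExistsBC Q) u v := by
  rintro _ ⟨b, rfl⟩
  let ι := B.fromSpecResidueField b
  let k := Spec.map (σ.residueFieldMap b)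
  have hk : k ≫ S.fromSpecResidueField (σ b) = ι ≫ σ :=
    σ.SpecMap_residueFieldMap_fromSpecResidueField b
  have sX' : IsPullback (pullback.fst uB ι ≫ qX) (pullback.snd uB ι) u (ι ≫ σ) :=
    (IsPullback.of_hasPullback uB ι).paste_horiz sX
  have sY' : IsPullback (pullback.fst vB ι ≫ qY) (pullback.snd vB ι) v (ι ≫ σ) :=
    (IsPullback.of_hasPullback vB ι).paste_horiz sY
  rw [← hk] at sX' sY'
  obtain ⟨g', hg', hQ'⟩ := existsBC_witness ι g hg hQ
  refine ⟨Spec (B.residueField b), _, _, k, pullback.snd uB ι, pullback.snd vB ι,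
    (isPullback_fiber u (σ b)).lift (pullback.fst uB ι ≫ qX) (pullback.snd uB ι ≫ k)
      (by rw [sX'.w, Category.assoc]),
    (isPullback_fiber v (σ b)).lift (pullback.fst vB ι ≫ qY) (pullback.snd vB ι ≫ k)
      (by rw [sY'.w, Category.assoc]),
    inferInstance, inferInstance, ?_, ?_, g', hg', hQ'⟩
  · exact IsPullback.of_right (by rw [(isPullback_fiber u (σ b)).lift_fst]; exact sX')
      ((isPullback_fiber u (σ b)).lift_snd _ _ _) (isPullback_fiber u (σ b))
  · exact IsPullback.of_right (by rw [(isPullback_fiber v (σ b)).lift_fst]; exact sY')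
      ((isPullback_fiber v (σ b)).lift_snd _ _ _) (isPullback_fiber v (σ b))

theorem isIndConsPair_existsBC (hS : Spreads Q) : ConsPropPair.IsIndConsPair (ExistsBC Q) := by
  refine ⟨isFieldStablePair_existsBC, fun X Y S u v _ _ _ _ _ _ hgen ↦ ?_⟩
  obtain ⟨T', X', Y', h, gX', gY', eX, eY, hT, hT', sX, sY, g, hg, hQ⟩ := hgen
  let m : T' ⟶ S := h ≫ S.fromSpecResidueField (genericPoint S)
  have sXm : IsPullback (eX ≫ u.fiberι _) gX' u m := sX.paste_horiz (isPullback_fiber u _)
  have sYm : IsPullback (eY ≫ v.fiberι _) gY' v m := sY.paste_horiz (isPullback_fiber v _)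
  -- an affine neighbourhood of the generic point
  obtain ⟨_, ⟨V, hV, rfl⟩, hηV, -⟩ := S.isBasis_affineOpens.exists_subset_of_mem_open
    (Set.mem_univ (genericPoint S)) isOpen_univ
  have hm : Set.range m ⊆ Set.range hV.fromSpec := by
    rw [hV.range_fromSpec]
    refine (Set.range_comp_subset_range h (S.fromSpecResidueField (genericPoint S))).trans ?_
    rw [Scheme.range_fromSpecResidueField, Set.singleton_subset_iff]
    exact hηV
  have : IsAffine T' := inferInstance
  let R : CommRingCat.{u} := Γ(S, V)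
  let K : CommRingCat.{u} := Γ(T', ⊤)
  let l : Spec K ⟶ Spec R := T'.isoSpec.inv ≫ IsOpenImmersion.lift hV.fromSpec m hm
  obtain ⟨ψ, hψ⟩ := Spec.map_surjective l
  letI : Algebra R K := ψ.hom.toAlgebra
  have : IsNoetherianRing R := IsLocallyNoetherian.component_noetherian ⟨V, hV⟩
  let D := algSchemes R K
  let c := algCone R K
  let t : ∀ s, D.obj s ⟶ S := fun s ↦ algToBase R K s ≫ hV.fromSpec
  have ht (s) : c.π.app s ≫ t s = T'.isoSpec.inv ≫ m := by
    rw [← Category.assoc, algCone_π_toBase]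
    have : Spec.map (CommRingCat.ofHom (algebraMap R K)) = Spec.map ψ := rfl
    rw [this, hψ, Category.assoc, IsOpenImmersion.lift_fac]
  let s₀ : (AlgSub R K)ᵒᵖ := Opposite.op ⟨⊥, Subalgebra.fg_bot⟩
  have hLFTt (s) : LocallyOfFiniteType (t s) := inferInstance
  have hQCt (s) : QuasiCompact (t s) := quasiCompact_of_compactSpace _
  -- the base changes to the initial stage
  let u₀ := pullback.snd u (t s₀)
  let v₀ := pullback.snd v (t s₀)
  have pX : IsPullback (pullback.lift (eX ≫ u.fiberι _) ((gX' ≫ T'.isoSpec.hom) ≫ c.π.app s₀)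
      (by rw [sXm.w, Category.assoc, ht, Category.assoc, Iso.hom_inv_id_assoc]))
      (gX' ≫ T'.isoSpec.hom) u₀ (c.π.app s₀) := by
    refine IsPullback.of_right ?_ (pullback.lift_snd _ _ _) (IsPullback.of_hasPullback u (t s₀))
    rw [pullback.lift_fst, ht]
    exact sXm.of_iso (Iso.refl _) (Iso.refl _) T'.isoSpec (Iso.refl _) (by simp) (by simp) (by simp)
      (by simp)
  have pY : IsPullback (pullback.lift (eY ≫ v.fiberι _) ((gY' ≫ T'.isoSpec.hom) ≫ c.π.app s₀)
      (by rw [sYm.w, Category.assoc, ht, Category.assoc, Iso.hom_inv_id_assoc]))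
      (gY' ≫ T'.isoSpec.hom) v₀ (c.π.app s₀) := by
    refine IsPullback.of_right ?_ (pullback.lift_snd _ _ _) (IsPullback.of_hasPullback v (t s₀))
    rw [pullback.lift_fst, ht]
    exact sYm.of_iso (Iso.refl _) (Iso.refl _) T'.isoSpec (Iso.refl _) (by simp) (by simp) (by simp)
      (by simp)
  have : IsLocallyNoetherian X := LocallyOfFiniteType.isLocallyNoetherian u
  have : IsLocallyNoetherian Y := LocallyOfFiniteType.isLocallyNoetherian v
  have : QuasiSeparated u := quasiSeparated_of_quasiSeparatedSpace u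
  have : QuasiSeparated v := quasiSeparated_of_quasiSeparatedSpace v
  obtain ⟨qX₀, pX₀⟩ : ∃ q, IsPullback q (g ≫ gY' ≫ T'.isoSpec.hom) u₀ (c.π.app s₀) := by
    rw [reassoc_of% hg]; exact ⟨_, pX⟩
  obtain ⟨j, φ, Xj, Yj, fj, gj, qX', qY', rX, rY, sYj, sXj, rsX, rsY⟩ :=
    exists_descend_hom D c (isLimitAlgCone R K) u₀ v₀ g (gY' ≫ T'.isoSpec.hom) qX₀ _ pX₀ pY
  have : LocallyOfFinitePresentation gj := MorphismProperty.of_isPullback sYj inferInstance
  have : QuasiCompact gj := MorphismProperty.of_isPullback sYj inferInstance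
  have : QuasiSeparated gj := MorphismProperty.of_isPullback sYj inferInstance
  have : LocallyOfFinitePresentation (fj ≫ gj) := MorphismProperty.of_isPullback sXj inferInstance
  have : QuasiCompact (fj ≫ gj) := MorphismProperty.of_isPullback sXj inferInstance
  have : QuasiSeparated (fj ≫ gj) := MorphismProperty.of_isPullback sXj inferInstance
  have : IsLocallyNoetherian Yj := LocallyOfFiniteType.isLocallyNoetherian gj
  have : LocallyOfFiniteType fj := locallyOfFiniteType_of_comp fj gj
  have : QuasiCompact fj := QuasiCompact.of_comp fj gj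
  have : QuasiSeparated fj := QuasiSeparated.of_comp fj gj
  obtain ⟨k, χ, hQk⟩ := hS D c (isLimitAlgCone R K) fj gj g _ rY rX rsY rsX hQ
  -- the image of the stage `k`
  let χ' := χ ≫ φ
  have htk : D.map χ ≫ D.map φ ≫ t s₀ = t k := by
    rw [← D.map_comp_assoc]
    exact (Category.assoc _ _ _).symm.trans
      (congrArg (· ≫ hV.fromSpec) (algSchemes_map_toBase R K (χ ≫ φ)))
  have syk : IsPullback ((pullback.snd (D.map χ) gj ≫ qY') ≫ pullback.fst v (t s₀))
      (pullback.fst (D.map χ) gj) v (t k) := by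
    rw [← htk]
    have := ((IsPullback.of_hasPullback (D.map χ) gj).flip.paste_horiz sYj).paste_horiz
      (IsPullback.of_hasPullback v (t s₀))
    simpa using this
  have sxk : IsPullback ((pullback.fst fj (pullback.snd (D.map χ) gj) ≫ qX') ≫ pullback.fst u (t s₀))
      (pullback.snd fj (pullback.snd (D.map χ) gj) ≫ pullback.fst (D.map χ) gj) u (t k) := by
    rw [← htk]
    have h1 := (IsPullback.of_hasPullback fj (pullback.snd (D.map χ) gj)).paste_vert
      (IsPullback.of_hasPullback (D.map χ) gj).flip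
    have := (h1.paste_horiz sXj).paste_horiz (IsPullback.of_hasPullback u (t s₀))
    simpa using this
  have hsub := range_subset_locusPair (Q := Q) u v (t k) sxk syk _ rfl hQk
  have hlfp : LocallyOfFinitePresentation (t k) := inferInstance
  have hC : IsConstructible (Set.range (t k)) := by
    rw [← Set.image_univ]; exact (t k).isConstructible_image IsConstructible.univ
  obtain ⟨x⟩ := (inferInstance : Nonempty T')
  have hη : genericPoint S ∈ Set.range (t k) := by
    refine ⟨c.π.app k (T'.isoSpec.hom x), ?_⟩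
    rw [← Scheme.Hom.comp_apply, ht]
    refine ((Scheme.Hom.comp_apply T'.isoSpec.hom (T'.isoSpec.inv ≫ m) x).symm.trans ?_)
    rw [Iso.hom_inv_id_assoc]
    have : m x ∈ Set.range (S.fromSpecResidueField (genericPoint S)) :=
      ⟨h x, (Scheme.Hom.comp_apply _ _ _).symm⟩
    rwa [Scheme.range_fromSpecResidueField] at this
  exact ⟨_, interior_mono hsub (genericPoint_mem_interior hC hη)⟩

end Groth.SpectralTopology
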