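import Groth.Agent.SpectralTopology.ConsBase
import Groth.Agent.SpectralTopology.SpreadPair
import Groth.Agent.EtaleBase.FpqcDescent

set_option autoImplicit false
set_option backward.isDefEq.respectTransparency false

/-!
EGA IV 9.6.1: a property of morphisms that spreads out along limits and descends along field
extensions is an ind-constructible property of morphisms of algebraic schemes.
-/

open AlgebraicGeometry CategoryTheory CategoryTheory.Limits Topology

namespace Groth.SpectralTopology

universe u

variable {Q : MorphismProperty Scheme.{u}} [Q.IsStableUnderBaseChange]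
  [Q.DescendsAlong Groth.EtaleBase.Fpqc.{u}]

/-- The property `Q` as a relation on morphisms of algebraic schemes. -/
abbrev asMor (Q : MorphismProperty Scheme.{u}) :
    ∀ ⦃X Y T : Scheme.{u}⦄, (X ⟶ Y) → (Y ⟶ T) → Prop := fun _ _ _ f _ ↦ Q f

theorem fpqc_of_point {T T' : Scheme.{u}} [IsIntegral T] [Subsingleton T] [IsIntegral T']
    [Subsingleton T'] (h : T' ⟶ T) : Groth.EtaleBase.Fpqc h :=
  ⟨⟨surjective_of_point h, inferInstance⟩, quasiCompact_of_compactSpace h⟩

theorem isFieldStableMor_of_descends : ConsProp.IsFieldStableMor (asMor Q) := by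
  intro X X' Y Y' T T' f g f' g' eX eY h _ _ _ _ _ _ _ _ hY hX
  have hh := fpqc_of_point h
  have : Groth.EtaleBase.Fpqc eY :=
    ⟨⟨MorphismProperty.of_isPullback hY.flip hh.1.1, MorphismProperty.of_isPullback hY.flip hh.1.2⟩,
      MorphismProperty.of_isPullback hY.flip hh.2⟩
  exact ⟨fun hf ↦ Q.of_isPullback hX hf,
    fun hf ↦ MorphismProperty.of_isPullback_of_descendsAlong hX.flip this hf⟩

theorem isIndConsMor_of_spreads (hS : Spreads Q) : ConsProp.IsIndConsMor (asMor Q) := by
  have hfs : ConsProp.IsFieldStableMor (asMor Q) := isFieldStableMor_of_descends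
  refine ⟨hfs, fun X Y S f g _ _ _ _ _ _ hgen ↦ ?_⟩
  let η := genericPoint S
  let m := S.fromSpecResidueField η
  obtain ⟨_, ⟨V, hV, rfl⟩, hηV, -⟩ := S.isBasis_affineOpens.exists_subset_of_mem_open
    (Set.mem_univ η) isOpen_univ
  have hm : Set.range m ⊆ Set.range hV.fromSpec := by
    rw [hV.range_fromSpec, Scheme.range_fromSpecResidueField, Set.singleton_subset_iff]
    exact hηV
  let R : CommRingCat.{u} := Γ(S, V)
  let K : CommRingCat.{u} := S.residueField η
  obtain ⟨ψ, hψ⟩ := Spec.map_surjective (IsOpenImmersion.lift hV.fromSpec m hm)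
  letI : Algebra R K := ψ.hom.toAlgebra
  have : IsNoetherianRing R := IsLocallyNoetherian.component_noetherian ⟨V, hV⟩
  let D := algSchemes R K
  let c := algCone R K
  let t : ∀ s, D.obj s ⟶ S := fun s ↦ algToBase R K s ≫ hV.fromSpec
  have ht (s) : c.π.app s ≫ t s = m := by
    rw [← Category.assoc, algCone_π_toBase]
    have : Spec.map (CommRingCat.ofHom (algebraMap R K)) = Spec.map ψ := rfl
    rw [this, hψ, IsOpenImmersion.lift_fac]
  let s₀ : (AlgSub R K)ᵒᵖ := Opposite.op ⟨⊥, Subalgebra.fg_bot⟩
  have : QuasiCompact (t s₀) := quasiCompact_of_compactSpace _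
  -- the base change to the initial stage
  let g₀ := pullback.snd g (t s₀)
  let f₀ := pullback.snd f (pullback.fst g (t s₀))
  have sY₀ := IsPullback.of_hasPullback g (t s₀)
  have sX₀ := IsPullback.of_hasPullback f (pullback.fst g (t s₀))
  have sη := isPullback_fiber g η
  let qY : g.fiber η ⟶ pullback g (t s₀) :=
    pullback.lift (g.fiberι η) (g.fiberToSpecResidueField η ≫ c.π.app s₀)
      (by rw [Category.assoc, ht]; exact sη.w)
  have hY : IsPullback qY (g.fiberToSpecResidueField η) g₀ (c.π.app s₀) := by
    refine IsPullback.of_right ?_ (pullback.lift_snd _ _ _) sY₀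
    rw [pullback.lift_fst, ht]; exact sη
  have sηX := isPullback_fiberMap f g η
  let qX : (f ≫ g).fiber η ⟶ pullback f (pullback.fst g (t s₀)) :=
    pullback.lift ((f ≫ g).fiberι η) (MoreMor.fiberMap f g η ≫ qY)
      (by rw [Category.assoc, pullback.lift_fst]; exact sηX.w)
  have hX : IsPullback qX (MoreMor.fiberMap f g η) f₀ qY := by
    refine IsPullback.of_right ?_ (pullback.lift_snd _ _ _) sX₀
    rw [pullback.lift_fst, pullback.lift_fst]; exact sηX
  have : LocallyOfFiniteType f := locallyOfFiniteType_of_comp f g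
  have : IsLocallyNoetherian Y := LocallyOfFiniteType.isLocallyNoetherian g
  have : CompactSpace Y := QuasiCompact.compactSpace_of_compactSpace g
  have : CompactSpace X := QuasiCompact.compactSpace_of_compactSpace (f ≫ g)
  have : IsLocallyNoetherian X := LocallyOfFiniteType.isLocallyNoetherian f
  have : QuasiCompact f := quasiCompact_of_compactSpace f
  have : QuasiSeparated f := quasiSeparated_of_quasiSeparatedSpace f
  have : QuasiSeparated g := quasiSeparated_of_quasiSeparatedSpace g
  obtain ⟨k, φ, hQk⟩ := hS D c (isLimitAlgCone R K) f₀ g₀ (MoreMor.fiberMap f g η) _ qY qX hY hX hgen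
  -- the image of the stage `k`
  have htk : D.map φ ≫ t s₀ = t k :=
    (Category.assoc _ _ _).symm.trans (congrArg (· ≫ hV.fromSpec) (algSchemes_map_toBase R K φ))
  have syk : IsPullback (pullback.snd (D.map φ) g₀ ≫ pullback.fst g (t s₀))
      (pullback.fst (D.map φ) g₀) g (t k) := by
    rw [← htk]
    exact (IsPullback.of_hasPullback (D.map φ) g₀).flip.paste_horiz sY₀
  have sxk : IsPullback (pullback.fst f₀ (pullback.snd (D.map φ) g₀) ≫
      pullback.fst f (pullback.fst g (t s₀))) (pullback.snd f₀ (pullback.snd (D.map φ) g₀)) f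
      (pullback.snd (D.map φ) g₀ ≫ pullback.fst g (t s₀)) :=
    (IsPullback.of_hasPullback _ _).paste_horiz sX₀
  have hsub : Set.range (t k) ⊆ ConsProp.locusMor (asMor Q) f g := by
    rintro _ ⟨b, rfl⟩
    have := locusMor_preimage hfs sxk syk
    have hb : b ∈ ConsProp.locusMor (asMor Q)
        (pullback.snd f₀ (pullback.snd (D.map φ) g₀)) (pullback.fst (D.map φ) g₀) :=
      Q.of_isPullback (isPullback_fiberMap _ _ b) hQk
    exact this.subset hb
  have : QuasiCompact (t k) := quasiCompact_of_compactSpace _
  have hlfp : LocallyOfFinitePresentation (t k) := inferInstance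
  have hC : IsConstructible (Set.range (t k)) := by
    rw [← Set.image_univ]; exact (t k).isConstructible_image IsConstructible.univ
  have hη : η ∈ Set.range (t k) := by
    obtain ⟨x⟩ := (inferInstance : Nonempty (Spec K))
    refine ⟨c.π.app k x, ?_⟩
    rw [← Scheme.Hom.comp_apply, ht]
    exact Set.mem_singleton_iff.1 ((Scheme.range_fromSpecResidueField η).subset ⟨x, rfl⟩)
  exact ⟨_, interior_mono hsub (genericPoint_mem_interior hC hη)⟩

end Groth.SpectralTopology
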