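import Groth.Agent.SpectralTopology.ConsLemmas
import Groth.Agent.SpectralTopology.Spectral

set_option autoImplicit false

/-!
EGA IV 9.3.4: fibrewise ind-constructible properties of morphisms.
-/

open AlgebraicGeometry CategoryTheory CategoryTheory.Limits Topology TopologicalSpace

namespace Groth.SpectralTopology

universe u

variable {X Y S : Scheme.{u}}

/-- The underlying space of a quasi-compact quasi-separated scheme is spectral. -/
theorem spectralSpace_scheme (X : Scheme.{u}) [CompactSpace X] [QuasiSeparatedSpace X] :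
    SpectralSpace X := by
  constructor

theorem isIndConsMor_forall_fiber {P : ∀ ⦃Y T : Scheme.{u}⦄, (Y ⟶ T) → Prop}
    (hP : ConsProp.IsIndCons P) :
    ConsProp.IsIndConsMor (fun X Y _ f _ ↦ ∀ y : ↥Y, P (f.fiberToSpecResidueField y)) := by
  refine ⟨isFieldStableMor_forall_fiber hP.1, fun X Y S f g _ _ _ _ _ _ hη ↦ ?_⟩
  obtain ⟨_, _, _⟩ := fibre_admissible f g
  have : CompactSpace Y := QuasiCompact.compactSpace_of_compactSpace g
  have : AlgebraicGeometry.IsNoetherian Y := {}
  have : LocallyOfFinitePresentation g :=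
    LocallyOfFinitePresentation.iff_locallyOfFiniteType.2 inferInstance
  rw [locusMor_forall_fiber hP.1] at hη ⊢
  have hsub : g ⁻¹' {genericPoint S} ⊆ ConsProp.locus P f := fun y hy ↦
    by_contra fun h ↦ hη ⟨y, h, hy⟩
  choose! C hC hyC hCE using fun y (hy : y ∈ ConsProp.locus P f) ↦
    exists_constructible_locus hP f hy
  have : SpectralSpace Y := spectralSpace_scheme Y
  have : SpectralSpace S := spectralSpace_scheme S
  have hsp : IsSpectralMap g := quasiCompact_iff_isSpectralMap.1 inferInstance
  have hclosed : IsClosed[constructibleTopology Y] (g ⁻¹' {genericPoint S}) :=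
    @IsClosed.preimage Y S (constructibleTopology Y) (constructibleTopology S) g (continuous_ct hsp) _
      (@isClosed_singleton S (constructibleTopology S)
        (@T2Space.t1Space S (constructibleTopology S) t2Space_ct) _)
  obtain ⟨σ, hσ⟩ := @IsCompact.elim_finite_subcover Y (constructibleTopology Y) _
    ↥(g ⁻¹' {genericPoint S}) (isCompact_ct_of_isClosed_ct hclosed) (fun y ↦ C y.1)
    (fun y ↦ (isClopen_ct_of_isConstructible (hC y.1 (hsub y.2))).2)
    (fun y hy ↦ Set.mem_iUnion.2 ⟨⟨y, hy⟩, hyC y (hsub hy)⟩)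
  have hU : IsConstructible (⋃ y ∈ σ, C y.1) :=
    IsConstructible.biUnion σ.finite_toSet fun y _ ↦ hC y.1 (hsub y.2)
  refine ⟨genericPoint S, ?_⟩
  refine interior_mono ?_ (genericPoint_mem_interior (g.isConstructible_image hU.compl).compl
    (fun ⟨y, hy, hys⟩ ↦ hy (hσ hys)))
  exact Set.compl_subset_compl.2 (Set.image_mono (Set.compl_subset_compl.2
    (Set.iUnion₂_subset fun y _ ↦ hCE y.1 (hsub y.2))))

end Groth.SpectralTopology
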