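import Groth.Agent.SpectralTopology.SpreadInstances
import Groth.Agent.FlatMor2.IndQuasiAffine

set_option autoImplicit false
set_option backward.isDefEq.respectTransparency false

/-!
EGA IV 8.10.5 (ix) over Noetherian stages: quasi-affineness spreads out.
-/

open AlgebraicGeometry CategoryTheory CategoryTheory.Limits Topology TopologicalSpace

namespace Groth.SpectralTopology

universe u

variable {X Y : Scheme.{u}}

theorem isQuasiAffineHom_of_forall_point (f : X ⟶ Y) [QuasiCompact f]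
    (h : ∀ y : Y, ∃ W : Y.Opens, y ∈ W ∧ (f ⁻¹ᵁ W : Scheme.{u}).IsQuasiAffine) :
    MoreMor.IsQuasiAffineHom f := by
  refine ⟨inferInstance, fun V hV ↦ ?_⟩
  let U := f ⁻¹ᵁ V
  have : CompactSpace (U : Scheme.{u}) :=
    isCompact_iff_compactSpace.1 (f.isCompact_preimage hV.isCompact)
  refine Groth.FlatMor2.isQuasiAffine_of_basicOpen_cover fun x ↦ ?_
  obtain ⟨W, hxW, hW⟩ := h (f x.1)
  have : IsAffine (V : Scheme.{u}) := hV
  obtain ⟨r, hrW, hxr⟩ := (isAffineOpen_top (V : Scheme.{u})).exists_basicOpen_le (V := V.ι ⁻¹ᵁ W)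
    ⟨(f.resLE V U le_rfl) x, by
      show V.ι ((f.resLE V U le_rfl) x) ∈ W
      rw [← Scheme.Hom.comp_apply, Scheme.Hom.resLE_comp_ι, Scheme.Hom.comp_apply]
      exact hxW⟩ trivial
  refine ⟨(f.resLE V U le_rfl).appTop r, ?_, ?_⟩ <;> rw [← Scheme.preimage_basicOpen_top]
  · exact hxr
  · have hle : U.ι ''ᵁ (f.resLE V U le_rfl ⁻¹ᵁ (V : Scheme.{u}).basicOpen r) ≤ f ⁻¹ᵁ W := by
      rintro _ ⟨z, hz, rfl⟩
      show f (U.ι z) ∈ W
      have : V.ι ((f.resLE V U le_rfl) z) ∈ W := hrW hz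
      rw [← Scheme.Hom.comp_apply, Scheme.Hom.resLE_comp_ι, Scheme.Hom.comp_apply] at this
      exact this
    have hc : IsCompact (f.resLE V U le_rfl ⁻¹ᵁ (V : Scheme.{u}).basicOpen r).1 :=
      (f.resLE V U le_rfl).isCompact_preimage ((isAffineOpen_top _).basicOpen r).isCompact
    have := Groth.FlatMor2.isQuasiAffine_of_le hle (hc.image U.ι.continuous)
    exact .of_isAffineHom (U.ι.isoImage _).hom

/-- Quasi-affine morphisms. -/
def quasiAffineHom : MorphismProperty Scheme.{u} := fun _ _ f ↦ MoreMor.IsQuasiAffineHom f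

instance : quasiAffineHom.{u}.IsStableUnderBaseChange := by
  refine ⟨fun {_ _ _ _ f g f' g'} sq h ↦ ?_⟩
  have := h.1
  have hq : QuasiCompact g' := MorphismProperty.of_isPullback sq inferInstance
  refine ⟨hq, fun V hV ↦ ?_⟩
  exact Groth.FlatMor2.isIndQuasiAffineHom_def.1
    (Groth.FlatMor2.isIndQuasiAffineHom_baseChange sq
      (Groth.FlatMor2.isIndQuasiAffineHom_of_isQuasiAffineHom h)) V hV _ le_rfl
    (g'.isCompact_preimage hV.isCompact)

instance : quasiAffineHom.{u}.RespectsIso := MorphismProperty.IsStableUnderBaseChange.respectsIso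

/-- Preimage of an open as a base change. -/
theorem exists_iso_preimage {S T X₀ : Scheme.{u}} (f : X₀ ⟶ S) (a : T ⟶ S) (W : S.Opens) :
    Nonempty (pullback a ((f ⁻¹ᵁ W).ι ≫ f) ≅
      ((pullback.snd f a) ⁻¹ᵁ (a ⁻¹ᵁ W)).toScheme) := by
  let m : pullback a ((f ⁻¹ᵁ W).ι ≫ f) ⟶ pullback f a :=
    pullback.lift (pullback.snd _ _ ≫ (f ⁻¹ᵁ W).ι) (pullback.fst _ _)
      (by rw [Category.assoc, ← pullback.condition])
  have sq : IsPullback (pullback.snd a ((f ⁻¹ᵁ W).ι ≫ f)) m (f ⁻¹ᵁ W).ι (pullback.fst f a) :=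
    IsPullback.of_bot (by rw [pullback.lift_snd]; exact (IsPullback.of_hasPullback _ _).flip)
      (pullback.lift_fst _ _ _).symm (IsPullback.of_hasPullback _ _)
  have : IsOpenImmersion m := MorphismProperty.of_isPullback sq inferInstance
  refine ⟨IsOpenImmersion.isoOfRangeEq m ((pullback.snd f a) ⁻¹ᵁ (a ⁻¹ᵁ W)).ι ?_⟩
  ext z
  rw [Scheme.Opens.range_ι]
  have hz : a (pullback.snd f a z) = f (pullback.fst f a z) := by
    rw [← Scheme.Hom.comp_apply, ← Scheme.Hom.comp_apply, pullback.condition]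
  constructor
  · rintro ⟨w, rfl⟩
    show a (pullback.snd f a (m w)) ∈ W
    rw [hz]
    have : pullback.fst f a (m w) ∈ f ⁻¹ᵁ W := by
      rw [← Scheme.Hom.comp_apply, ← sq.w, Scheme.Hom.comp_apply]
      exact ((pullback.snd a ((f ⁻¹ᵁ W).ι ≫ f)).base w).2
    exact this
  · intro h
    have : pullback.fst f a z ∈ f ⁻¹ᵁ W := by
      show f (pullback.fst f a z) ∈ W
      rw [← hz]; exact h
    obtain ⟨t, -, ht⟩ := Scheme.exists_preimage_of_isPullback sq ⟨_, this⟩ z rfl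
    exact ⟨t, ht⟩

theorem baseSpreads_quasiAffineHom : BaseSpreads.{u} quasiAffineHom.{u} := by
  intro I _ _ D c hc _ _ _ _ i X₀ f₀ _ _ _ h
  classical
  have hπ := isAffineHom_π_app D c hc i
  choose W hW hxW using fun x : D.obj i ↦ show ∃ W : (D.obj i).Opens, IsAffineOpen W ∧ x ∈ W by
    obtain ⟨_, ⟨W, hW, rfl⟩, hxW, -⟩ :=
      (D.obj i).isBasis_affineOpens.exists_subset_of_mem_open (Set.mem_univ x) isOpen_univ
    exact ⟨W, hW, hxW⟩
  obtain ⟨s, hs⟩ := isCompact_univ.elim_finite_subcover (fun x ↦ (W x : Set (D.obj i)))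
    (fun x ↦ (W x).isOpen) (fun x _ ↦ Set.mem_iUnion.2 ⟨x, hxW x⟩)
  have hstage : ∀ x : D.obj i, ∃ k : Over i,
      ((Groth.Limits.pullbackDiagram D i ((f₀ ⁻¹ᵁ W x).ι ≫ f₀)).obj k).IsQuasiAffine := by
    intro x
    let a := (f₀ ⁻¹ᵁ W x).ι ≫ f₀
    have : CompactSpace (f₀ ⁻¹ᵁ W x : Scheme.{u}) :=
      isCompact_iff_compactSpace.1 (f₀.isCompact_preimage (hW x).isCompact)
    have : QuasiCompact a := quasiCompact_of_compactSpace _
    have : QuasiSeparated a := inferInstance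
    have (k : Over i) : CompactSpace ((Groth.Limits.pullbackDiagram D i a).obj k) :=
      QuasiCompact.compactSpace_of_compactSpace (pullback.fst (D.map k.hom) a)
    have (k : Over i) : QuasiSeparatedSpace ((Groth.Limits.pullbackDiagram D i a).obj k) :=
      quasiSeparatedSpace_of_quasiSeparated (pullback.fst (D.map k.hom) a)
    obtain ⟨e⟩ := exists_iso_preimage f₀ (c.π.app i) (W x)
    have := h.2 _ ((hW x).preimage (c.π.app i))
    have : (Groth.Limits.pullbackCone D i a c).pt.IsQuasiAffine := .of_isAffineHom e.hom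
    exact Scheme.exists_isQuasiAffine_of_isLimit (Groth.Limits.pullbackDiagram D i a)
      (Groth.Limits.pullbackCone D i a c) (Groth.Limits.isLimitPullbackCone D i a hc)
  choose k hk using hstage
  obtain ⟨l, hl⟩ := IsCofiltered.inf_objs_exists (insert (Over.mk (𝟙 i)) (s.image k))
  refine ⟨l.left, l.hom, ?_⟩
  show MoreMor.IsQuasiAffineHom _
  refine isQuasiAffineHom_of_forall_point _ fun y ↦ ?_
  obtain ⟨x, hxs, hyx⟩ := Set.mem_iUnion₂.1 (hs (Set.mem_univ (D.map l.hom y)))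
  obtain ⟨ψ⟩ := hl (Finset.mem_insert_of_mem (Finset.mem_image_of_mem k hxs))
  refine ⟨D.map l.hom ⁻¹ᵁ W x, hyx, ?_⟩
  obtain ⟨e⟩ := exists_iso_preimage f₀ (D.map l.hom) (W x)
  have := hk x
  have : ((Groth.Limits.pullbackDiagram D i ((f₀ ⁻¹ᵁ W x).ι ≫ f₀)).obj l).IsQuasiAffine :=
    .of_isAffineHom ((Groth.Limits.pullbackDiagram D i ((f₀ ⁻¹ᵁ W x).ι ≫ f₀)).map ψ)
  have : (pullback (D.map l.hom) ((f₀ ⁻¹ᵁ W x).ι ≫ f₀)).IsQuasiAffine := this
  exact .of_isAffineHom e.inv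

theorem spreads_quasiAffineHom : Spreads.{u} quasiAffineHom.{u} :=
  spreads_of_baseSpreads baseSpreads_quasiAffineHom

end Groth.SpectralTopology
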