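import Groth.Agent.GenericFree.Presentation
import Mathlib.AlgebraicGeometry.Morphisms.ClosedImmersion
import Mathlib.AlgebraicGeometry.Morphisms.IsIso
import Mathlib.RingTheory.Localization.FractionRing

set_option autoImplicit false

/-!
A closed immersion over the generic point which is not an isomorphism stays a non-isomorphism over
the points near the generic point.
-/

open AlgebraicGeometry CategoryTheory CategoryTheory.Limits TensorProduct

namespace Groth.SpectralTopology

universe u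

/-- Over a domain, a non-torsion element of a finite type algebra is nonzero in the fibres over a
nonempty open set. -/
theorem exists_forall_tmul_ne_zero {R A : Type u} [CommRing R] [IsDomain R] [CommRing A]
    [Algebra R A] [Algebra.FiniteType R A] {a : A} (ha : ∀ r : R, r ≠ 0 → r • a ≠ 0) :
    ∃ f : R, f ≠ 0 ∧ ∀ (K : Type u) [Field K] [Algebra R K], algebraMap R K f ≠ 0 →
      a ⊗ₜ[R] (1 : K) ≠ 0 := by
  classical
  obtain ⟨f, hf, ι, φ, hφ, hs⟩ := Groth.GenericFree.gf_of_finiteType (R := R) A A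
  obtain ⟨k₀, z₀, hz₀⟩ := hs a
  obtain ⟨i, hi⟩ : ∃ i, z₀ i ≠ 0 := by
    by_contra! h
    exact ha (f ^ k₀) (pow_ne_zero _ hf) (by rw [← hz₀, (Finsupp.ext h : z₀ = 0), map_zero])
  refine ⟨f * z₀ i, mul_ne_zero hf hi, fun K _ _ hu h0 ↦ ?_⟩
  rw [map_mul, mul_ne_zero_iff] at hu
  choose k z hz using hs
  let u := algebraMap R K f
  have wd (m : A) (l : ℕ) (w : ι →₀ R) (hw : φ w = f ^ l • m) :
      algebraMap R K (z m i) / u ^ k m = algebraMap R K (w i) / u ^ l := by
    have : f ^ l • z m = f ^ k m • w := hφ (by rw [map_smul, map_smul, hz, hw, smul_comm])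
    have h := congrArg (fun v : ι →₀ R ↦ algebraMap R K (v i)) this
    simp only [Finsupp.smul_apply, smul_eq_mul, map_mul, map_pow] at h
    rw [div_eq_div_iff (pow_ne_zero _ hu.1) (pow_ne_zero _ hu.1), mul_comm, h, mul_comm]
  let Ψ : A →ₗ[R] K :=
    { toFun m := algebraMap R K (z m i) / u ^ k m
      map_add' m n := by
        rw [wd (m + n) (k m + k n) (f ^ k n • z m + f ^ k m • z n)
          (by rw [map_add, map_smul, map_smul, hz, hz, smul_smul, smul_smul, smul_add,
            ← pow_add, ← pow_add, add_comm (k n)])]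
        simp only [Finsupp.add_apply, Finsupp.smul_apply, smul_eq_mul, map_add, map_mul, map_pow]
        rw [div_add_div _ _ (pow_ne_zero _ hu.1) (pow_ne_zero _ hu.1), pow_add]
        ring
      map_smul' r m := by
        rw [wd (r • m) (k m) (r • z m) (by rw [map_smul, hz, smul_comm]), Finsupp.smul_apply,
          smul_eq_mul, map_mul, RingHom.id_apply, Algebra.smul_def, mul_div_assoc] }
  have : Ψ a = 0 := by
    have := congrArg (TensorProduct.lift ((LinearMap.mul R K).comp Ψ)) h0
    simpa using this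
  change algebraMap R K (z a i) / u ^ k a = 0 at this
  rw [wd a k₀ z₀ hz₀, div_eq_zero_iff] at this
  exact this.elim hu.2 (pow_ne_zero _ hu.1)

variable (R A : Type u) [CommRing R] [CommRing A] [Algebra R A]

/-- The inclusion of the spectrum of a base change. -/
noncomputable def bcIncl (K : Type u) [CommRing K] [Algebra R K] :
    Spec (CommRingCat.of (A ⊗[R] K)) ⟶ Spec (CommRingCat.of A) :=
  Spec.map (CommRingCat.ofHom (Algebra.TensorProduct.includeLeftRingHom (R := R) (B := K)))

theorem eq_zero_of_factor {S T : CommRingCat.{u}} {Z : Scheme.{u}} (θ : S ⟶ T)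
    (q : Spec T ⟶ Z) (h : Z ⟶ Spec S) (w : q ≫ h = Spec.map θ) (x : S)
    (hx : h.appTop ((Scheme.ΓSpecIso S).inv x) = 0) : θ x = 0 := by
  have h1 := congrArg (fun m : Spec T ⟶ Spec S ↦ m.appTop ((Scheme.ΓSpecIso S).inv x)) w
  simp only [Scheme.Hom.comp_appTop, CommRingCat.comp_apply, hx, map_zero] at h1
  have h2 := congrArg (fun m : S ⟶ Γ(Spec T, ⊤) ↦ m x) (Scheme.ΓSpecIso_inv_naturality θ)
  simp only [CommRingCat.comp_apply] at h2
  rw [← h1] at h2
  exact (ConcreteCategory.bijective_of_isIso (Scheme.ΓSpecIso T).inv).1 (h2.trans (map_zero _).symm)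

theorem exists_tmul_one_eq [IsDomain R] (c : A ⊗[R] FractionRing R) :
    ∃ (s : R) (a : A), s ≠ 0 ∧ s • c = a ⊗ₜ 1 := by
  induction c using TensorProduct.induction_on with
  | zero => exact ⟨1, 0, one_ne_zero, by simp⟩
  | tmul a x =>
    obtain ⟨n, ⟨d, hd⟩, rfl⟩ := IsLocalization.exists_mk'_eq (nonZeroDivisors R) x
    refine ⟨d, n • a, nonZeroDivisors.ne_zero hd, ?_⟩
    rw [smul_tmul', smul_tmul, Algebra.smul_def,
      show algebraMap R (FractionRing R) d * IsLocalization.mk' (FractionRing R) n ⟨d, hd⟩ =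
        algebraMap R (FractionRing R) n from IsLocalization.mk'_spec' _ n ⟨d, hd⟩,
      ← mul_one (algebraMap R (FractionRing R) n), ← Algebra.smul_def, ← smul_tmul]
  | add c d hc hd =>
    obtain ⟨s, a, hs, hsa⟩ := hc
    obtain ⟨t, b, ht, htb⟩ := hd
    refine ⟨s * t, t • a + s • b, mul_ne_zero hs ht, ?_⟩
    rw [smul_add, TensorProduct.add_tmul, ← smul_tmul', ← smul_tmul', ← hsa, ← htb, smul_smul,
      smul_smul, mul_comm s t]

theorem exists_smul_eq_zero [IsDomain R] {B : Type u} [CommRing B] [Algebra R B] {b : B}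
    (hb : b ⊗ₜ[R] (1 : FractionRing R) = 0) : ∃ r : R, r ≠ 0 ∧ r • b = 0 := by
  have : IsLocalizedModule (nonZeroDivisors R) (TensorProduct.mk R (FractionRing R) B 1) :=
    (isLocalizedModule_iff_isBaseChange (nonZeroDivisors R) (FractionRing R) _).2
      (TensorProduct.isBaseChange R B (FractionRing R))
  have h0 : TensorProduct.mk R (FractionRing R) B 1 b = 0 := by
    have := congrArg (TensorProduct.comm R B (FractionRing R)) hb
    simpa using this
  obtain ⟨⟨r, hr⟩, h⟩ := (IsLocalizedModule.eq_zero_iff (nonZeroDivisors R) _).1 h0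
  exact ⟨r, nonZeroDivisors.ne_zero hr, h⟩

theorem exists_forall_not_isIso [IsDomain R] [Algebra.FiniteType R A] {X : Scheme.{u}}
    (f : X ⟶ Spec (CommRingCat.of A)) [QuasiCompact f]
    [IsClosedImmersion (pullback.snd f (bcIncl R A (FractionRing R)))]
    (hni : ¬ IsIso (pullback.snd f (bcIncl R A (FractionRing R)))) :
    ∃ r : R, r ≠ 0 ∧ ∀ (K : Type u) [Field K] [Algebra R K], algebraMap R K r ≠ 0 →
      ¬ IsIso (pullback.snd f (bcIncl R A K)) := by
  classical
  let fK := pullback.snd f (bcIncl R A (FractionRing R))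
  obtain ⟨hX, hsurj⟩ := IsClosedImmersion.isAffine_surjective_of_isAffine fK
  have hninj : ¬ Function.Injective fK.appTop := fun hinj ↦ hni <| by
    have : IsIso fK.appTop := (ConcreteCategory.isIso_iff_bijective _).2 ⟨hinj, hsurj⟩
    exact (HasAffineProperty.iff_of_isAffine (P := MorphismProperty.isomorphisms Scheme.{u})).2
      ⟨hX, this⟩
  simp only [injective_iff_map_eq_zero, not_forall] at hninj
  obtain ⟨γ, hγ, hγ0⟩ := hninj
  let c : A ⊗[R] FractionRing R := (Scheme.ΓSpecIso (CommRingCat.of (A ⊗[R] FractionRing R))).hom γ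
  have hc : c ≠ 0 := fun h ↦ hγ0 ((ConcreteCategory.bijective_of_isIso
    (Scheme.ΓSpecIso _).hom).1 (h.trans (map_zero _).symm))
  obtain ⟨s, a, hs, hsa⟩ := exists_tmul_one_eq R A c
  have hker : fK.appTop ((Scheme.ΓSpecIso _).inv (a ⊗ₜ[R] (1 : FractionRing R))) = 0 := by
    rw [← hsa, Algebra.smul_def (A := A ⊗[R] FractionRing R) s c, map_mul, map_mul]
    simp only [c, Iso.hom_inv_id_apply, hγ, mul_zero]
  have hu : IsUnit (algebraMap R (FractionRing R) s) :=
    (IsUnit.mk0 _ ((FaithfulSMul.algebraMap_injective R (FractionRing R)).ne_iff' (map_zero _) |>.2 hs))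
  have ha : ∀ r : R, r ≠ 0 → r • a ≠ 0 := by
    intro r hr h
    apply hc
    have : (r * s) • c = 0 := by rw [mul_smul, hsa, smul_tmul', h, TensorProduct.zero_tmul]
    rw [Algebra.smul_def (A := A ⊗[R] FractionRing R) (r * s) c] at this
    refine (IsUnit.mul_right_eq_zero ?_).1 this
    have hu' : IsUnit (algebraMap R (FractionRing R) (r * s)) := IsUnit.mk0 _
      ((FaithfulSMul.algebraMap_injective R (FractionRing R)).ne_iff' (map_zero _) |>.2
        (mul_ne_zero hr hs))
    have := hu'.map (Algebra.TensorProduct.includeRight : FractionRing R →ₐ[R] A ⊗[R] FractionRing R)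
    rwa [AlgHom.commutes] at this
  have : CompactSpace X := QuasiCompact.compactSpace_of_compactSpace f
  let 𝒰 := X.affineCover.finiteSubcover
  have hchart : ∀ i, ∃ r : R, r ≠ 0 ∧
      (𝒰.f i ≫ f).appTop ((Scheme.ΓSpecIso (CommRingCat.of A)).inv (r • a)) = 0 := by
    intro i
    obtain ⟨B, c₁, hc₁⟩ : ∃ (B : CommRingCat.{u}) (c₁ : Spec B ⟶ 𝒰.X i), IsIso c₁ :=
      ⟨_, (𝒰.X i).isoSpec.inv, inferInstance⟩
    obtain ⟨ψ, hψ⟩ := Spec.map_surjective (c₁ ≫ 𝒰.f i ≫ f)
    let : Algebra R B := (ψ.hom.comp (algebraMap R A)).toAlgebra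
    let ψa : A →ₐ[R] B := { ψ.hom with commutes' := fun r ↦ rfl }
    let θ := CommRingCat.ofHom (Algebra.TensorProduct.map ψa (AlgHom.id R (FractionRing R))).toRingHom
    let q : Spec (CommRingCat.of (B ⊗[R] FractionRing R)) ⟶ pullback f (bcIncl R A (FractionRing R)) :=
      pullback.lift (bcIncl R B (FractionRing R) ≫ c₁ ≫ 𝒰.f i) (Spec.map θ) (by
        rw [Category.assoc, Category.assoc, ← hψ, bcIncl, bcIncl, ← Spec.map_comp, ← Spec.map_comp]
        refine congrArg Spec.map (CommRingCat.hom_ext (RingHom.ext fun x ↦ ?_))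
        show ψ.hom x ⊗ₜ[R] (1 : FractionRing R) = Algebra.TensorProduct.map ψa (AlgHom.id R _) (x ⊗ₜ 1)
        rfl)
    have h0 := eq_zero_of_factor θ q fK (pullback.lift_snd _ _ _) (a ⊗ₜ[R] (1 : FractionRing R)) hker
    obtain ⟨r, hr, hrb⟩ := exists_smul_eq_zero R (B := B) (b := ψa a)
      (by simpa [θ] using h0)
    have : IsIso c₁.appTop := inferInstanceAs (IsIso (Scheme.Γ.map c₁.op))
    refine ⟨r, hr, (ConcreteCategory.bijective_of_isIso c₁.appTop).1 ?_⟩
    rw [map_zero, ← CommRingCat.comp_apply, ← Scheme.Hom.comp_appTop, ← hψ]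
    have h2 := congrArg (fun m : CommRingCat.of A ⟶ Γ(Spec B, ⊤) ↦ m (r • a))
      (Scheme.ΓSpecIso_inv_naturality ψ)
    exact h2.symm.trans ((congrArg (Scheme.ΓSpecIso B).inv
      (show ψ (r • a) = 0 from (map_smul ψa r a).trans hrb)).trans (map_zero _))
  choose r hr hra using hchart
  set r₀ := ∏ i, r i
  have hr₀ : r₀ ≠ 0 := Finset.prod_ne_zero_iff.2 fun i _ ↦ hr i
  have ha' : f.appTop ((Scheme.ΓSpecIso (CommRingCat.of A)).inv (r₀ • a)) = 0 := by
    refine Scheme.zero_of_zero_cover _ 𝒰 fun i ↦ ?_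
    show (𝒰.f i).appTop _ = 0
    rw [← CommRingCat.comp_apply, ← Scheme.Hom.comp_appTop,
      show r₀ • a = (algebraMap R A (∏ j ∈ Finset.univ.erase i, r j)) * (r i • a) by
        rw [← Algebra.smul_def, smul_smul, Finset.prod_erase_mul _ _ (Finset.mem_univ i)],
      map_mul, map_mul, hra, mul_zero]
  obtain ⟨t, ht, htK⟩ := exists_forall_tmul_ne_zero (a := r₀ • a)
    (fun r' hr' ↦ by rw [smul_smul]; exact ha _ (mul_ne_zero hr' hr₀))
  refine ⟨t, ht, fun K _ _ htu hiso ↦ htK K htu ?_⟩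
  let j := pullback.snd f (bcIncl R A K)
  have : IsIso j := hiso
  have : IsIso j.appTop := inferInstanceAs (IsIso (Scheme.Γ.map j.op))
  refine (ConcreteCategory.bijective_of_isIso
    (Scheme.ΓSpecIso (CommRingCat.of (A ⊗[R] K))).inv).1
      ((ConcreteCategory.bijective_of_isIso j.appTop).1 ?_)
  have h2 := congrArg (fun m : CommRingCat.of A ⟶ Γ(Spec (CommRingCat.of (A ⊗[R] K)), ⊤) ↦ m (r₀ • a))
    (Scheme.ΓSpecIso_inv_naturality
      (CommRingCat.ofHom (Algebra.TensorProduct.includeLeftRingHom (R := R) (A := A) (B := K))))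
  simp only [CommRingCat.comp_apply] at h2
  rw [map_zero, map_zero, show j.appTop ((Scheme.ΓSpecIso _).inv ((r₀ • a) ⊗ₜ[R] (1 : K))) =
    j.appTop ((bcIncl R A K).appTop ((Scheme.ΓSpecIso (CommRingCat.of A)).inv (r₀ • a))) from
      congrArg j.appTop h2, ← CommRingCat.comp_apply, ← Scheme.Hom.comp_appTop,
    ← pullback.condition, Scheme.Hom.comp_appTop, CommRingCat.comp_apply, ha', map_zero]

end Groth.SpectralTopology
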