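import Groth.Agent.SpectralTopology.ConsMorQ
import Groth.Agent.SpectralTopology.GenericNonIso
import Mathlib.AlgebraicGeometry.FunctionField

set_option autoImplicit false

/-! Morphisms of fibres in affine charts, and fields over the base. -/

open AlgebraicGeometry CategoryTheory CategoryTheory.Limits Topology TensorProduct

namespace Groth.SpectralTopology

universe u

variable {X Y S Y' S' : Scheme.{u}}

/-- The map of fibres attached to a chart. -/
noncomputable def fiberChart {g : Y ⟶ S} {g' : Y' ⟶ S'} {j : Y' ⟶ Y} {k : S' ⟶ S}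
    (w : j ≫ g = g' ≫ k) (b : S') : g'.fiber b ⟶ g.fiber (k b) :=
  pullback.map _ _ _ _ j (Spec.map (k.residueFieldMap b)) k w.symm (by simp)

theorem fiberChart_ι {g : Y ⟶ S} {g' : Y' ⟶ S'} {j : Y' ⟶ Y} {k : S' ⟶ S}
    (w : j ≫ g = g' ≫ k) (b : S') :
    fiberChart w b ≫ g.fiberι (k b) = g'.fiberι b ≫ j := pullback.lift_fst _ _ _

instance {g : Y ⟶ S} {g' : Y' ⟶ S'} {j : Y' ⟶ Y} {k : S' ⟶ S}
    [IsOpenImmersion j] [IsOpenImmersion k] (w : j ≫ g = g' ≫ k) (b : S') :
    IsOpenImmersion (fiberChart w b) := by
  have : IsIso (k.residueFieldMap b) := inferInstance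
  have : IsOpenImmersion (Spec.map (k.residueFieldMap b)) := inferInstance
  have : Mono k := inferInstance
  exact Scheme.pullback_map_isOpenImmersion g' (S'.fromSpecResidueField b) g
    (S.fromSpecResidueField (k b)) j (Spec.map (k.residueFieldMap b)) k w.symm (by simp)

/-- In a chart the morphism of fibres is a base change. -/
theorem exists_isPullback_fiberChart (f : X ⟶ Y) {g : Y ⟶ S} {g' : Y' ⟶ S'} {j : Y' ⟶ Y}
    {k : S' ⟶ S} (w : j ≫ g = g' ≫ k) (b : S') :
    ∃ a, IsPullback a (MoreMor.fiberMap (pullback.snd f j) g' b) (MoreMor.fiberMap f g (k b))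
      (fiberChart w b) := by
  have s₂ := isPullback_fiberMap f g (k b)
  have big : IsPullback ((pullback.snd f j ≫ g').fiberι b ≫ pullback.fst f j)
      (MoreMor.fiberMap (pullback.snd f j) g' b) f (g'.fiberι b ≫ j) :=
    (isPullback_fiberMap (pullback.snd f j) g' b).paste_horiz (IsPullback.of_hasPullback f j)
  rw [← fiberChart_ι w b] at big
  exact ⟨s₂.lift _ _ (by rw [big.w, Category.assoc]),
    IsPullback.of_right (by rw [s₂.lift_fst]; exact big) (s₂.lift_snd _ _ _) s₂⟩

/-- The fibre of an affine scheme is the spectrum of a tensor product. -/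
theorem isPullback_bcIncl (R A K : Type u) [CommRing R] [CommRing A] [Algebra R A] [CommRing K]
    [Algebra R K] :
    IsPullback (bcIncl R A K)
      (Spec.map (CommRingCat.ofHom (Algebra.TensorProduct.includeRight (R := R) (A := A) (B := K)).toRingHom))
      (Spec.map (CommRingCat.ofHom (algebraMap R A))) (Spec.map (CommRingCat.ofHom (algebraMap R K))) :=
  isPullback_SpecMap_of_isPushout _ _ _ _ (CommRingCat.isPushout_tensorProduct R A K)

variable {R A : Type u} [CommRing R] [CommRing A] [Algebra R A]
  {Z : Scheme.{u}} (f : Z ⟶ Spec (CommRingCat.of A))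

theorem exists_residue_algebra (b : Spec (CommRingCat.of R)) :
    ∃ _ : Algebra R ((Spec (CommRingCat.of R)).residueField b),
      Spec.map (CommRingCat.ofHom (algebraMap R ((Spec (CommRingCat.of R)).residueField b))) =
        (Spec (CommRingCat.of R)).fromSpecResidueField b := by
  obtain ⟨ψ, hψ⟩ := Spec.map_surjective ((Spec (CommRingCat.of R)).fromSpecResidueField b)
  exact ⟨ψ.hom.toAlgebra, hψ⟩

/-- The morphism of fibres over a point in affine terms. -/
theorem prop_fiber_iff (Q : MorphismProperty Scheme.{u}) [Q.RespectsIso]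
    (b : Spec (CommRingCat.of R)) [Algebra R ((Spec (CommRingCat.of R)).residueField b)]
    (hb : Spec.map (CommRingCat.ofHom (algebraMap R ((Spec (CommRingCat.of R)).residueField b))) =
        (Spec (CommRingCat.of R)).fromSpecResidueField b) :
    Q (pullback.snd f (bcIncl R A ((Spec (CommRingCat.of R)).residueField b))) ↔
      Q (MoreMor.fiberMap f (Spec.map (CommRingCat.ofHom (algebraMap R A))) b) := by
  let g := Spec.map (CommRingCat.ofHom (algebraMap R A))
  let K := (Spec (CommRingCat.of R)).residueField b
  have s₁ := isPullback_bcIncl R A K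
  rw [hb] at s₁
  let e := s₁.isoIsPullback _ _ (isPullback_fiber g b)
  have he : e.hom ≫ g.fiberι b = bcIncl R A K := IsPullback.isoIsPullback_hom_fst _ _ _ _
  have s₂ := isPullback_fiberMap f g b
  have s₄ : IsPullback (pullback.fst (MoreMor.fiberMap f g b) e.hom ≫ (f ≫ g).fiberι b)
      (pullback.snd (MoreMor.fiberMap f g b) e.hom) f (bcIncl R A K) := by
    have := (IsPullback.of_hasPullback (MoreMor.fiberMap f g b) e.hom).paste_horiz s₂
    rwa [he] at this
  have h1 : pullback.snd f (bcIncl R A K) =
      (s₄.isoPullback).inv ≫ pullback.snd (MoreMor.fiberMap f g b) e.hom := by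
    rw [IsPullback.isoPullback_inv_snd]
  have h2 : pullback.snd (MoreMor.fiberMap f g b) e.hom =
      pullback.fst (MoreMor.fiberMap f g b) e.hom ≫ MoreMor.fiberMap f g b ≫ e.inv := by
    rw [pullback.condition_assoc, e.hom_inv_id, Category.comp_id]
  rw [show pullback.snd f (bcIncl R A _) = _ from h1, Q.cancel_left_of_respectsIso, h2,
    Q.cancel_left_of_respectsIso, Q.cancel_right_of_respectsIso]

/-- Descent from a larger field to a residue field. -/
theorem prop_bcIncl_iff_of_genericPoint [IsDomain R] (Q : MorphismProperty Scheme.{u})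
    [Q.IsStableUnderBaseChange] [Q.DescendsAlong Groth.EtaleBase.Fpqc.{u}]
    (η : Spec (CommRingCat.of R)) (hη : η = genericPoint (Spec (CommRingCat.of R)))
    [Algebra R ((Spec (CommRingCat.of R)).residueField η)]
    (hb : Spec.map (CommRingCat.ofHom (algebraMap R ((Spec (CommRingCat.of R)).residueField η))) =
        (Spec (CommRingCat.of R)).fromSpecResidueField η) :
    Q (pullback.snd f (bcIncl R A (FractionRing R))) ↔
      Q (pullback.snd f (bcIncl R A ((Spec (CommRingCat.of R)).residueField η))) := by
  let K := (Spec (CommRingCat.of R)).residueField η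
  let a : Spec (CommRingCat.of (FractionRing R)) ⟶ Spec (CommRingCat.of R) :=
    Spec.map (CommRingCat.ofHom (algebraMap R (FractionRing R)))
  have hpt : a (IsLocalRing.closedPoint (FractionRing R)) = η := by
    rw [hη, genericPoint_eq_bot_of_affine]
    refine PrimeSpectrum.ext ?_
    show (IsLocalRing.maximalIdeal (FractionRing R)).comap (algebraMap R (FractionRing R)) = ⊥
    rw [IsLocalRing.maximalIdeal_eq_bot, ← RingHom.ker_eq_comap_bot,
      (RingHom.injective_iff_ker_eq_bot _).1 (IsFractionRing.injective R (FractionRing R))]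
  obtain ⟨h, hh⟩ : ∃ h, h ≫ (Spec (CommRingCat.of R)).fromSpecResidueField η = a := by
    subst hpt
    exact ⟨_, Scheme.descResidueField_stalkClosedPointTo_fromSpecResidueField _ _ a⟩
  have s₁ := isPullback_bcIncl R A K
  rw [hb] at s₁
  have s₀ := isPullback_bcIncl R A (FractionRing R)
  rw [show Spec.map (CommRingCat.ofHom (algebraMap R (FractionRing R))) = _ from hh.symm] at s₀
  let m := s₁.lift (bcIncl R A (FractionRing R))
    (Spec.map (CommRingCat.ofHom (Algebra.TensorProduct.includeRight (R := R) (A := A)
      (B := FractionRing R)).toRingHom) ≫ h) (by rw [s₀.w, Category.assoc])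
  have sm : IsPullback m (Spec.map (CommRingCat.ofHom (Algebra.TensorProduct.includeRight (R := R)
      (A := A) (B := FractionRing R)).toRingHom))
      (Spec.map (CommRingCat.ofHom (Algebra.TensorProduct.includeRight (R := R) (A := A)
        (B := K)).toRingHom)) h :=
    IsPullback.of_right (by rw [s₁.lift_fst]; exact s₀) (s₁.lift_snd _ _ _) s₁
  have hh' := fpqc_of_point h
  have hm : Groth.EtaleBase.Fpqc m :=
    ⟨⟨MorphismProperty.of_isPullback sm.flip hh'.1.1, MorphismProperty.of_isPullback sm.flip hh'.1.2⟩,
      MorphismProperty.of_isPullback sm.flip hh'.2⟩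
  have big : IsPullback (pullback.fst f (bcIncl R A (FractionRing R)))
      (pullback.snd f (bcIncl R A (FractionRing R))) f (m ≫ bcIncl R A K) := by
    rw [s₁.lift_fst]; exact IsPullback.of_hasPullback _ _
  have sq := IsPullback.of_right (h₁₁ := pullback.lift (pullback.fst f (bcIncl R A (FractionRing R)))
      (pullback.snd f (bcIncl R A (FractionRing R)) ≫ m) (by rw [big.w, Category.assoc]))
    (by rw [pullback.lift_fst]; exact big) (pullback.lift_snd _ _ _)
    (IsPullback.of_hasPullback f (bcIncl R A K))
  exact ⟨fun hq ↦ MorphismProperty.of_isPullback_of_descendsAlong sq.flip hm hq,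
    fun hq ↦ Q.of_isPullback sq hq⟩

end Groth.SpectralTopology
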