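import Groth.Agent.GenericFree.Presentation
import Groth.Agent.SpectralTopology.Constructible
import Mathlib.RingTheory.Spectrum.Prime.ConstructibleSet
import Mathlib.RingTheory.Spectrum.Prime.Noetherian

set_option autoImplicit false

/-!
EGA IV 9.5.3: fibrewise closures of constructible sets, algebraic part.
-/

open Topology TopologicalSpace

namespace Groth.SpectralTopology

universe u

/-- The union over all fibres of `f` of the specializations of `Z` inside the fibre. -/
def fibreCl {X S : Type*} [TopologicalSpace X] (f : X → S) (Z : Set X) : Set X :=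
  {x | ∃ z ∈ Z, f z = f x ∧ z ⤳ x}

theorem subset_fibreCl {X S : Type*} [TopologicalSpace X] (f : X → S) (Z : Set X) :
    Z ⊆ fibreCl f Z := fun z hz ↦ ⟨z, hz, rfl, specializes_rfl⟩

theorem fibreCl_biUnion {X S ι : Type*} [TopologicalSpace X] (f : X → S) (t : Finset ι)
    (Z : ι → Set X) : fibreCl f (⋃ i ∈ t, Z i) = ⋃ i ∈ t, fibreCl f (Z i) := by
  ext x; simp [fibreCl]; tauto

variable {R A : Type u} [CommRing R] [CommRing A]

/-- A nonzero element of a finite type domain avoids the minimal primes of the fibres over a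
nonempty open subset of the base. -/
theorem exists_forall_notMem_minimalPrimes [IsDomain R] [IsDomain A] [Algebra R A]
    [Algebra.FiniteType R A] {g : A} (hg : g ≠ 0) :
    ∃ f : R, f ≠ 0 ∧ ∀ (I : Ideal R) (Q : Ideal A), Q ∈ (I.map (algebraMap R A)).minimalPrimes →
      algebraMap R A f ∉ Q → g ∉ Q := by
  classical
  obtain ⟨f, hf, ι, φ, hφ, hs⟩ := Groth.GenericFree.gf_of_finiteType (R := R) A (A ⧸ Ideal.span {g})
  refine ⟨f, hf, fun I Q hQ hfQ hgQ ↦ ?_⟩
  have : Q.IsPrime := hQ.1.1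
  have key : ∀ x : A, g * x ∈ I.map (algebraMap R A) →
      ∃ k : ℕ, algebraMap R A f ^ k * x ∈ I.map (algebraMap R A) := by
    intro x hx
    rw [Ideal.map, Ideal.span, Submodule.mem_span_image_iff_exists_fun] at hx
    obtain ⟨t, htI, c, hc⟩ := hx
    have hlift : ∀ j, ∃ (k : ℕ) (y : ι →₀ R), φ y = f ^ k • Ideal.Quotient.mk _ (c j) := fun j ↦
      hs _
    choose k y hy using hlift
    let K := ∑ j, k j
    let y' := fun j ↦ f ^ (K - k j) • y j
    have hy' (j) : φ (y' j) = Ideal.Quotient.mk _ (algebraMap R A (f ^ K) * c j) := by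
      rw [map_smul, hy, smul_smul, ← pow_add, Nat.sub_add_cancel
        (Finset.single_le_sum (fun i _ ↦ Nat.zero_le _) (Finset.mem_univ j)), ← Algebra.smul_def]
      rfl
    let Φ : (ι →₀ R) →ₗ[R] A :=
      Finsupp.linearCombination R fun i ↦ Function.surjInv Ideal.Quotient.mk_surjective (φ (.single i 1))
    have hΦ (z) : Ideal.Quotient.mk (Ideal.span {g}) (Φ z) = φ z := by
      induction z using Finsupp.induction_linear with
      | zero => simp
      | add a b ha hb => rw [map_add, map_add, map_add, ha, hb]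
      | single i a =>
        rw [Finsupp.linearCombination_single, Algebra.smul_def, map_mul,
          Function.surjInv_eq Ideal.Quotient.mk_surjective,
          show Finsupp.single i a = a • Finsupp.single i (1 : R) from (Finsupp.smul_single_one i a).symm,
          map_smul, Algebra.smul_def]
        rfl
    have hb : ∀ j, ∃ b, b * g = algebraMap R A (f ^ K) * c j - Φ (y' j) := fun j ↦ by
      rw [← Ideal.mem_span_singleton', ← Ideal.Quotient.mk_eq_mk_iff_sub_mem, hΦ, hy']
    choose b hb using hb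
    have hzero : ∑ j : t, j.1 • y' j = 0 := hφ (by
      have hsum : Ideal.Quotient.mk (Ideal.span {g})
          (∑ j : t, algebraMap R A j.1 * (algebraMap R A (f ^ K) * c j)) = 0 := by
        have : ∑ j : t, algebraMap R A j.1 * (algebraMap R A (f ^ K) * c j) =
            g * (algebraMap R A (f ^ K) * x) := by
          rw [mul_left_comm g, ← hc, Finset.mul_sum]
          exact Finset.sum_congr rfl fun j _ ↦ by rw [smul_eq_mul]; ring
        rw [this, Ideal.Quotient.eq_zero_iff_mem]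
        exact Ideal.mul_mem_right _ _ (Ideal.mem_span_singleton_self g)
      rw [map_sum, map_zero, ← hsum, map_sum]
      refine Finset.sum_congr rfl fun j _ ↦ ?_
      rw [map_smul, hy', map_mul (Ideal.Quotient.mk _) (algebraMap R A _), Algebra.smul_def]
      rfl)
    refine ⟨K, ?_⟩
    have : algebraMap R A f ^ K * x = ∑ j : t, algebraMap R A j.1 * b j := by
      refine mul_left_cancel₀ hg ?_
      have hΦ0 : ∑ j : t, algebraMap R A j.1 * Φ (y' j) = 0 := by
        simp only [← Algebra.smul_def, ← map_smul, ← map_sum, hzero, map_zero]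
      rw [← map_pow, mul_left_comm, ← hc, Finset.mul_sum, Finset.mul_sum, ← sub_eq_zero,
        ← Finset.sum_sub_distrib, ← hΦ0]
      refine Finset.sum_congr rfl fun j _ ↦ ?_
      rw [mul_comm g, mul_assoc (algebraMap R A j.1), hb, smul_eq_mul]
      ring
    rw [this]
    exact Ideal.sum_mem _ fun j _ ↦ Ideal.mul_mem_right _ _
      (Ideal.mem_map_of_mem _ (htI (by exact j.2)))
  obtain ⟨P, hP, hJP, hdisj⟩ : ∃ P : Ideal A, P.IsPrime ∧ I.map (algebraMap R A) ≤ P ∧
      Disjoint (P : Set A) (Submonoid.powers g ⊔ Q.primeCompl : Submonoid A) := by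
    refine Ideal.exists_le_prime_disjoint _ _ (Set.disjoint_left.2 fun a haJ haM ↦ ?_)
    obtain ⟨_, ⟨m, rfl⟩, u, hu, rfl⟩ := Submonoid.mem_sup.1 haM
    suffices ∀ m (u : A), g ^ m * u ∈ I.map (algebraMap R A) → u ∈ Q from hu (this m u haJ)
    intro m
    induction m with
    | zero => exact fun u h ↦ hQ.1.2 (by simpa using h)
    | succ m ih =>
      intro u h
      obtain ⟨k, hk⟩ := key (g ^ m * u) (by rwa [← mul_assoc, ← pow_succ'])
      rw [mul_left_comm] at hk
      exact (Ideal.IsPrime.mem_or_mem ‹_› (ih _ hk)).resolve_left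
        fun h ↦ hfQ (Ideal.IsPrime.mem_of_pow_mem ‹_› _ h)
  have hPQ : P ≤ Q := fun a ha ↦ by_contra fun h ↦
    Set.disjoint_left.1 hdisj ha (Submonoid.mem_sup_right h)
  exact Set.disjoint_left.1 hdisj (hQ.2 ⟨hP, hJP⟩ hPQ hgQ)
    (Submonoid.mem_sup_left (Submonoid.mem_powers g))

open PrimeSpectrum

/-- Over a Noetherian base, fibrewise closures of constructible sets are constructible. -/
theorem isConstructible_fibreCl_noetherian [IsNoetherianRing R] [IsNoetherianRing A] (φ : R →+* A)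
    (hφ : φ.FiniteType) {Z : Set (PrimeSpectrum A)} (hZ : IsConstructible Z) :
    IsConstructible (fibreCl (comap φ) Z) := by
  classical
  obtain ⟨S, rfl⟩ := exists_constructibleSetData_iff.2 hZ
  rw [ConstructibleSetData.toSet, fibreCl_biUnion]
  refine IsConstructible.biUnion S.finite_toSet fun C _ ↦ ?_
  refine isConstructible_of_forall_irreducible fun Y hY hYirr ↦ ?_
  set P := hYirr.genericPoint with hPdef
  have hPY : ∀ x ∈ Y, P.asIdeal ≤ x.asIdeal := fun x hx ↦
    (le_iff_specializes _ _).2 ((hY.closure_eq ▸ hYirr.isGenericPoint_genericPoint_closure).specializes hx)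
  have hPmem : P ∈ Y := by
    have := (hY.closure_eq ▸ hYirr.isGenericPoint_genericPoint_closure).mem
    exact this
  have hC : ∀ Q : PrimeSpectrum A, Q ∈ C.toSet ↔ Ideal.span (Set.range C.g) ≤ Q.asIdeal ∧ C.f ∉ Q.asIdeal :=
    fun Q ↦ by simp [BasicConstructibleSetData.toSet, PrimeSpectrum.mem_zeroLocus, Ideal.span_le]
  set p := P.asIdeal.comap φ with hp
  by_cases hPT : P ∈ fibreCl (comap φ) C.toSet
  · refine Or.inr ?_
    obtain ⟨Q, hQ, hQp, hQP⟩ := hPT
    rw [hC] at hQ
    have hQP' : Q.asIdeal ≤ P.asIdeal := (le_iff_specializes _ _).2 hQP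
    have hQp' : Q.asIdeal.comap φ = p := congrArg PrimeSpectrum.asIdeal hQp
    let φ' : R ⧸ p →+* A ⧸ Q.asIdeal := Ideal.quotientMap Q.asIdeal φ hQp'.ge
    let := φ'.toAlgebra
    have : Algebra.FiniteType (R ⧸ p) (A ⧸ Q.asIdeal) :=
      RingHom.FiniteType.of_comp_finiteType (f := Ideal.Quotient.mk p)
        (g := φ') (by rw [Ideal.quotientMap_comp_mk]; exact hφ.comp_surjective Ideal.Quotient.mk_surjective)
    have : IsDomain (R ⧸ p) := Ideal.Quotient.isDomain p
    obtain ⟨f, hf, hmin⟩ := exists_forall_notMem_minimalPrimes (R := R ⧸ p)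
      (g := Ideal.Quotient.mk Q.asIdeal C.f) (mt Ideal.Quotient.eq_zero_iff_mem.1 hQ.2)
    obtain ⟨f, rfl⟩ := Ideal.Quotient.mk_surjective f
    rw [Ne, Ideal.Quotient.eq_zero_iff_mem] at hf
    refine ⟨_, (basicOpen (φ f)).isOpen, ⟨P, hf, hPmem⟩, fun P' ⟨hfP', hP'⟩ ↦ ?_⟩
    have hPP' := hPY P' hP'
    set p' := P'.asIdeal.comap φ with hp'
    set J := (p'.map (Ideal.Quotient.mk p)).map (algebraMap (R ⧸ p) (A ⧸ Q.asIdeal))
    have hle : J.comap (Ideal.Quotient.mk Q.asIdeal) ≤ P'.asIdeal := by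
      have : J ≤ P'.asIdeal.map (Ideal.Quotient.mk Q.asIdeal) := by
        rw [Ideal.map_le_iff_le_comap, Ideal.map_le_iff_le_comap]
        intro r hr
        exact Ideal.mem_map_of_mem _ hr
      refine (Ideal.comap_mono this).trans ?_
      rw [Ideal.comap_map_of_surjective _ Ideal.Quotient.mk_surjective, ← RingHom.ker_eq_comap_bot,
        Ideal.mk_ker]
      exact sup_le le_rfl (hQP'.trans hPP')
    obtain ⟨Q', hQ', hQ'P'⟩ := Ideal.exists_minimalPrimes_le hle
    rw [Ideal.comap_minimalPrimes_eq_of_surjective Ideal.Quotient.mk_surjective] at hQ'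
    obtain ⟨Qb, hQb, rfl⟩ := hQ'
    have := hQb.1.1
    have hfQ : algebraMap (R ⧸ p) (A ⧸ Q.asIdeal) (Ideal.Quotient.mk p f) ∉ Qb :=
      fun h ↦ hfP' (hQ'P' h)
    refine ⟨⟨Qb.comap (Ideal.Quotient.mk Q.asIdeal), inferInstance⟩, ?_, ?_, ?_⟩
    · rw [hC]
      refine ⟨hQ.1.trans fun a ha ↦ ?_, hmin _ Qb hQb hfQ⟩
      show Ideal.Quotient.mk Q.asIdeal a ∈ Qb
      rw [Ideal.Quotient.eq_zero_iff_mem.2 ha]; exact zero_mem _
    · refine PrimeSpectrum.ext (le_antisymm (Ideal.comap_mono hQ'P') fun r hr ↦ hQb.1.2 ?_)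
      exact Ideal.mem_map_of_mem _ (Ideal.mem_map_of_mem _ hr)
    · exact (le_iff_specializes _ _).1 hQ'P'
  · refine (dense_or_isNowhereDense_preimage hYirr).elim Or.inl fun hd ↦ False.elim ?_
    set J := Ideal.span (Set.range C.g) ⊔ p.map φ
    have hfin : J.minimalPrimes.Finite := Ideal.finite_minimalPrimes_of_isNoetherianRing A J
    have ha : ∀ Q ∈ J.minimalPrimes, C.f ∉ Q → ∃ a ∈ Q, a ∉ P.asIdeal := fun Q hQ hfQ ↦ by
      refine SetLike.not_le_iff_exists.1 fun hQP ↦ hPT ⟨⟨Q, hQ.1.1⟩,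
        (hC _).2 ⟨le_sup_left.trans hQ.1.2, hfQ⟩, PrimeSpectrum.ext
          (le_antisymm (Ideal.comap_mono hQP) ?_), (le_iff_specializes _ _).1 hQP⟩
      exact Ideal.map_le_iff_le_comap.1 (le_sup_right.trans hQ.1.2)
    choose! a haQ haP using ha
    let U := ⋂ Q ∈ hfin.toFinset.filter (C.f ∉ ·), (basicOpen (a Q) : Set (PrimeSpectrum A))
    have hU : IsOpen U := isOpen_biInter_finset fun Q _ ↦ (basicOpen _).isOpen
    have hPU : P ∈ U := by
      simp only [U, Set.mem_iInter, Finset.mem_filter, Set.Finite.mem_toFinset]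
      exact fun Q hQ ↦ haP Q hQ.1 hQ.2
    obtain ⟨P', hP'U, hP'T, hP'Y⟩ := mem_closure_iff.1 (hd hPmem) U hU hPU
    obtain ⟨Q', hQ', hQ'p, hQ'P'⟩ := hP'T
    rw [hC] at hQ'
    have hle : J ≤ Q'.asIdeal := sup_le hQ'.1 <| Ideal.map_le_iff_le_comap.2 <|
      (Ideal.comap_mono (hPY P' hP'Y)).trans (congrArg PrimeSpectrum.asIdeal hQ'p).ge
    obtain ⟨Q, hQ, hQQ'⟩ := Ideal.exists_minimalPrimes_le hle
    have hfQ : C.f ∉ Q := fun h ↦ hQ'.2 (hQQ' h)
    have : P' ∈ basicOpen (a Q) := Set.mem_iInter₂.1 hP'U Q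
      (by simp only [Finset.mem_filter, Set.Finite.mem_toFinset]; exact ⟨hQ, hfQ⟩)
    exact this ((le_iff_specializes _ _).2 hQ'P' (hQQ' (haQ Q hQ hfQ)))

end Groth.SpectralTopology
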