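import Groth.Agent.SpectralTopology.FibreDiag
import Groth.Agent.SpectralTopology.SpreadProper
import Groth.Agent.SpectralTopology.ConsMorQ
import Groth.Agent.ZetaAn.Constructible

set_option autoImplicit false
set_option backward.isDefEq.respectTransparency false

/-! EGA IV 9.6: proper fibres. -/

open AlgebraicGeometry CategoryTheory CategoryTheory.Limits Topology TopologicalSpace

namespace Groth.SpectralTopology

universe u

variable {X Y S : Scheme.{u}}

/-- Relative closedness from the generic fibre. -/
theorem exists_open_closure_subset {P : Scheme.{u}} (h : P ⟶ S) [IsIntegral S]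
    [AlgebraicGeometry.IsNoetherian S] [LocallyOfFiniteType h] [QuasiCompact h] {C D : Set P}
    (hC : IsConstructible C) (hD : IsConstructible D)
    (hη : fibreCl h C ∩ ⇑h ⁻¹' {genericPoint S} ⊆ D) :
    ∃ U : S.Opens, genericPoint S ∈ U ∧ closure C ∩ ⇑h ⁻¹' (U : Set S) ⊆ D := by
  have : IsLocallyNoetherian P := LocallyOfFiniteType.isLocallyNoetherian h
  have : CompactSpace P := QuasiCompact.compactSpace_of_compactSpace h
  have : AlgebraicGeometry.IsNoetherian P := {}
  have : LocallyOfFinitePresentation h :=
    LocallyOfFinitePresentation.iff_locallyOfFiniteType.2 inferInstance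
  have hB : IsConstructible (closure C \ D) :=
    (isConstructible_of_isClosed isClosed_closure).sdiff hD
  have hη' : genericPoint S ∈ (h '' (closure C \ D))ᶜ := by
    rintro ⟨p, ⟨hpC, hpD⟩, hp⟩
    refine hpD (hη ⟨?_, hp⟩)
    obtain ⟨z, hz, hzp⟩ := Groth.ZetaAn.exists_specializes_of_mem_closure hC hpC
    refine ⟨z, hz, ?_, hzp⟩
    rw [hp]
    have h1 : h z ⤳ genericPoint S := hp ▸ hzp.map h.continuous
    exact ((genericPoint_spec S).specializes trivial).antisymm h1 |>.eq.symm
  refine ⟨⟨_, isOpen_interior⟩, genericPoint_mem_interior (h.isConstructible_image hB).compl hη',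
    fun p hp ↦ by_contra fun hpD ↦ interior_subset hp.2 ⟨p, ⟨hp.1, hpD⟩, rfl⟩⟩

/-- Separatedness of a base change along a preimmersion, from closedness of the diagonal there. -/
theorem isSeparated_snd_of_closure_subset (f : X ⟶ Y) {T : Scheme.{u}} (a : T ⟶ Y) [IsPreimmersion a]
    (h : closure (Set.range (pullback.diagonal f)) ∩ ⇑(pullback.fst f f ≫ f) ⁻¹' Set.range a ⊆
      Set.range (pullback.diagonal f)) : IsSeparated (pullback.snd f a) := by
  let f' := pullback.snd f a
  let q := pullback.fst f a
  let m : pullback f' f' ⟶ pullback f f := pullback.lift (pullback.fst f' f' ≫ q)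
    (pullback.snd f' f' ≫ q)
    (by simp only [q, f', Category.assoc, pullback.condition, pullback.condition_assoc])
  have sm : IsPullback m (pullback.fst f' f') (pullback.fst f f) q := by
    have big := (IsPullback.of_hasPullback f' f').flip.paste_horiz (IsPullback.of_hasPullback f a)
    rw [← pullback.condition] at big
    exact IsPullback.of_right (by rw [pullback.lift_snd]; exact big) (by rw [pullback.lift_fst])
      (IsPullback.of_hasPullback f f).flip
  have : IsPreimmersion q := MorphismProperty.pullback_fst (P := @IsPreimmersion) _ _ inferInstance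
  have : IsPreimmersion m := MorphismProperty.of_isPullback (P := @IsPreimmersion) sm.flip inferInstance
  have hd : pullback.diagonal f' ≫ m = q ≫ pullback.diagonal f := by
    apply pullback.hom_ext
    · rw [Category.assoc, Category.assoc, pullback.lift_fst, pullback.diagonal_fst,
        pullback.diagonal_fst_assoc]
      exact (Category.comp_id _).symm
    · rw [Category.assoc, Category.assoc, pullback.lift_snd, pullback.diagonal_snd,
        pullback.diagonal_snd_assoc]
      exact (Category.comp_id _).symm
  refine Groth.PropsBasic2.isSeparated_of_isClosed_range _ ?_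
  rw [← closure_subset_iff_isClosed]
  intro w hw
  have hw' : m w ∈ closure (Set.range (pullback.diagonal f)) := by
    refine closure_mono ?_ (image_closure_subset_closure_image m.continuous ⟨w, hw, rfl⟩)
    rintro _ ⟨_, ⟨x, rfl⟩, rfl⟩
    refine ⟨q x, ?_⟩
    rw [← Scheme.Hom.comp_apply, ← hd, Scheme.Hom.comp_apply]
  have hwa : (pullback.fst f f ≫ f) (m w) ∈ Set.range a := by
    refine ⟨(pullback.fst f' f' ≫ f') w, ?_⟩
    rw [← Scheme.Hom.comp_apply, ← Scheme.Hom.comp_apply, Category.assoc, ← pullback.condition,
      reassoc_of% sm.w]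
  obtain ⟨x, hx⟩ := h ⟨hw', hwa⟩
  have hxw : x = q (pullback.fst f' f' w) := by
    have := congrArg (pullback.fst f f) hx
    rw [← Scheme.Hom.comp_apply, ← Scheme.Hom.comp_apply, pullback.diagonal_fst, sm.w,
      Scheme.Hom.comp_apply] at this
    exact this
  refine ⟨pullback.fst f' f' w, m.isEmbedding.injective ?_⟩
  rw [← Scheme.Hom.comp_apply, hd, Scheme.Hom.comp_apply, ← hxw, hx]

/-- For a separated morphism the properness locus in the fibres is constructible. -/
theorem isConstructible_isProper_of_isSeparated (f : X ⟶ Y) (g : Y ⟶ S)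
    [AlgebraicGeometry.IsNoetherian S] [LocallyOfFiniteType g] [QuasiCompact g]
    [LocallyOfFiniteType f] [QuasiCompact f] [IsSeparated f] :
    IsConstructible {s : S | IsProper (MoreMor.fiberMap f g s)} := by
  have : IsLocallyNoetherian Y := LocallyOfFiniteType.isLocallyNoetherian g
  have : CompactSpace Y := QuasiCompact.compactSpace_of_compactSpace g
  have : AlgebraicGeometry.IsNoetherian Y := {}
  have : IsLocallyNoetherian X := LocallyOfFiniteType.isLocallyNoetherian f
  have : CompactSpace X := QuasiCompact.compactSpace_of_compactSpace f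
  have : AlgebraicGeometry.IsNoetherian X := {}
  obtain ⟨N, X', π, j, hj, hjb, hπ, hsurj, -⟩ := Groth.Chow.exists_chow f
    TopologicalSpace.NoetherianSpace.finite_irreducibleComponents
  let tb := CohB1.ProjSpaceOver.toBase N Y
  have : IsProper tb := inferInstance
  have : LocallyOfFiniteType (j ≫ tb) := by rw [hjb]; infer_instance
  have : QuasiCompact (j ≫ tb) := by rw [hjb]; infer_instance
  have : LocallyOfFiniteType j := locallyOfFiniteType_of_comp j tb
  have : QuasiCompact j := QuasiCompact.of_comp j tb
  have : IsLocallyNoetherian (CohB1.ProjSpaceOver N Y) := LocallyOfFiniteType.isLocallyNoetherian tb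
  have : LocallyOfFinitePresentation j :=
    LocallyOfFinitePresentation.iff_locallyOfFiniteType.2 inferInstance
  have : LocallyOfFinitePresentation (tb ≫ g) :=
    LocallyOfFinitePresentation.iff_locallyOfFiniteType.2 inferInstance
  have hR : IsLocallyConstructible (Set.range j) :=
    Set.image_univ ▸ j.isLocallyConstructible_image IsLocallyConstructible.univ
  convert (isLocallyConstructible_isClosed_fibre (tb ≫ g) hR).isConstructible using 1
  ext s
  simp only [Set.mem_ofPred_eq]
  let a := g.fiberι s
  let fs := MoreMor.fiberMap f g s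
  let P := pullback tb a
  let b := pullback.fst tb a
  have sf := isPullback_fiberMap f g s
  have hπs : IsPullback (pullback.fst π ((f ≫ g).fiberι s)) (pullback.snd π ((f ≫ g).fiberι s) ≫ fs)
      (π ≫ f) a := (IsPullback.of_hasPullback π _).paste_vert sf
  let πs := pullback.snd π ((f ≫ g).fiberι s)
  let l := (IsPullback.of_hasPullback tb a).lift (pullback.fst π ((f ≫ g).fiberι s) ≫ j)
    (πs ≫ fs) (by rw [Category.assoc, hjb, hπs.w])
  have hl : l ≫ pullback.snd tb a = πs ≫ fs := IsPullback.lift_snd _ _ _ _
  have hlf : l ≫ b = pullback.fst π ((f ≫ g).fiberι s) ≫ j := IsPullback.lift_fst _ _ _ _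
  have sl : IsPullback (pullback.fst π ((f ≫ g).fiberι s)) l j b :=
    IsPullback.of_bot (by rw [hl, hjb]; exact hπs) hlf.symm (IsPullback.of_hasPullback tb a)
  have : IsPreimmersion b := MorphismProperty.pullback_fst (P := @IsPreimmersion) _ _ inferInstance
  have hrb : Set.range b = ⇑(tb ≫ g) ⁻¹' {s} := by
    ext p
    constructor
    · rintro ⟨w, rfl⟩
      show (tb ≫ g) (b w) = s
      rw [← Scheme.Hom.comp_apply, pullback.condition_assoc, Scheme.Hom.comp_apply,
        Scheme.Hom.comp_apply]
      exact (g.range_fiberι s).le ⟨_, rfl⟩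
    · intro hp
      obtain ⟨t, ht⟩ := (g.range_fiberι s).ge (show tb p ∈ g ⁻¹' {s} from hp)
      obtain ⟨w, hw, -⟩ := Scheme.Pullback.exists_preimage_pullback p t ht.symm
      exact ⟨w, hw⟩
  have hrl : Set.range l = b ⁻¹' Set.range j := by
    refine Set.Subset.antisymm ?_ fun w ⟨x, hx⟩ ↦ ?_
    · rintro _ ⟨x, rfl⟩
      refine ⟨pullback.fst π ((f ≫ g).fiberι s) x, ?_⟩
      rw [← Scheme.Hom.comp_apply, ← hlf, Scheme.Hom.comp_apply]
    · obtain ⟨z, -, hz⟩ := Scheme.Pullback.exists_preimage_pullback x w hx
      refine ⟨sl.isoPullback.inv z, ?_⟩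
      rw [← Scheme.Hom.comp_apply, IsPullback.isoPullback_inv_snd]
      exact hz
  let e := b.isEmbedding.toHomeomorph.trans (Homeomorph.setCongr hrb)
  rw [← e.isClosed_preimage, show e ⁻¹' (Subtype.val ⁻¹' Set.range j) = Set.range l from hrl.symm]
  have : IsSeparated fs := MorphismProperty.of_isPullback sf inferInstance
  have : LocallyOfFiniteType fs := MorphismProperty.of_isPullback sf inferInstance
  have : IsProper πs := MorphismProperty.pullback_snd _ _ hπ
  have : Surjective πs := MorphismProperty.pullback_snd _ _ hsurj
  have : IsImmersion l := MorphismProperty.of_isPullback sl hj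
  constructor
  · intro (hp : IsProper fs)
    have : IsProper (l ≫ pullback.snd tb a) := by rw [hl]; infer_instance
    have : IsProper l := IsProper.of_comp l (pullback.snd tb a)
    exact l.isClosedMap.isClosed_range
  · intro hcl
    have : IsClosedImmersion l := .of_isPreimmersion _ hcl
    have : UniversallyClosed (πs ≫ fs) := by rw [← hl]; infer_instance
    have : UniversallyClosed fs := UniversallyClosed.of_comp_surjective πs fs
    exact { }

theorem interior_compl_isProper (f : X ⟶ Y) (g : Y ⟶ S) [IsIntegral S]
    [AlgebraicGeometry.IsNoetherian S] [LocallyOfFiniteType g] [QuasiCompact g]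
    [LocallyOfFiniteType (f ≫ g)] [QuasiCompact (f ≫ g)]
    (hn : ¬ IsProper (MoreMor.fiberMap f g (genericPoint S))) :
    (interior {s : S | IsProper (MoreMor.fiberMap f g s)}ᶜ).Nonempty := by
  obtain ⟨_, _, _⟩ := fibre_admissible f g
  have : LocallyOfFinitePresentation g :=
    LocallyOfFinitePresentation.iff_locallyOfFiniteType.2 inferInstance
  have : LocallyOfFinitePresentation (f ≫ g) :=
    LocallyOfFinitePresentation.iff_locallyOfFiniteType.2 inferInstance
  have : CompactSpace Y := QuasiCompact.compactSpace_of_compactSpace g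
  have : IsLocallyNoetherian X := LocallyOfFiniteType.isLocallyNoetherian f
  have : CompactSpace X := QuasiCompact.compactSpace_of_compactSpace f
  have : QuasiSeparated g := quasiSeparated_of_quasiSeparatedSpace g
  have : QuasiSeparated f := quasiSeparated_of_quasiSeparatedSpace f
  have : QuasiSeparated (f ≫ g) := inferInstance
  by_cases hsep : IsSeparated (MoreMor.fiberMap f g (genericPoint S))
  · let h := pullback.fst f f ≫ f ≫ g
    have : LocallyOfFinitePresentation (pullback.diagonal f) := Groth.Agent.S4599.result f
    have hR : IsLocallyConstructible (Set.range (pullback.diagonal f)) :=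
      Set.image_univ ▸ (pullback.diagonal f).isLocallyConstructible_image IsLocallyConstructible.univ
    have : CompactSpace ↥(pullback f f) := QuasiCompact.compactSpace_of_compactSpace h
    have : IsLocallyNoetherian (pullback f f) := LocallyOfFiniteType.isLocallyNoetherian h
    rw [isSeparated_fiberMap_iff] at hsep
    obtain ⟨U, hηU, hU⟩ := exists_open_closure_subset h hR.isConstructible hR.isConstructible (by
      rintro p ⟨hp, hpη⟩
      have := (closure_subset_iff_isClosed.2 hsep)
        (show (⟨p, hpη⟩ : ↥(⇑h ⁻¹' {genericPoint S})) ∈ closure _ by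
          rw [closure_val_preimage h hR]; exact hp)
      exact this)
    let i := pullback.fst g U.ι
    let f₁ := pullback.snd f i
    let g₁ := pullback.snd g U.ι
    have : IsSeparated f₁ := isSeparated_snd_of_closure_subset f i fun p ⟨hp, hpi⟩ ↦ by
      refine hU ⟨hp, ?_⟩
      obtain ⟨t, ht⟩ := hpi
      show (pullback.fst f f ≫ f ≫ g) p ∈ U
      rw [← Category.assoc, Scheme.Hom.comp_apply, ← ht, ← Scheme.Hom.comp_apply, pullback.condition,
        Scheme.Hom.comp_apply]
      exact (pullback.snd g U.ι t).2
    have hpre := locusMor_preimage (isFieldStableMor_of_descends (Q := @IsProper))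
      (IsPullback.of_hasPullback f i) (IsPullback.of_hasPullback g U.ι)
    have : CompactSpace U.toScheme := isCompact_iff_compactSpace.1 (NoetherianSpace.isCompact _)
    have : AlgebraicGeometry.IsNoetherian U.toScheme := {}
    have : Nonempty U.toScheme := ⟨⟨_, hηU⟩⟩
    have hc := (isConstructible_isProper_of_isSeparated f₁ g₁).compl
    rw [show {s : U.toScheme | IsProper (MoreMor.fiberMap f₁ g₁ s)} = _ from hpre] at hc
    have hgen : U.ι (genericPoint U.toScheme) = genericPoint S :=
      genericPoint_eq_of_isOpenImmersion U.ι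
    have hmem := genericPoint_mem_interior hc (fun h' ↦ hn (hgen ▸ h'))
    refine Set.Nonempty.mono ?_ (⟨_, ⟨_, hmem, rfl⟩⟩ :
      (⇑U.ι '' interior (⇑U.ι ⁻¹' ConsProp.locusMor (asMor @IsProper) f g)ᶜ).Nonempty)
    refine interior_maximal ?_ (U.ι.isOpenEmbedding.isOpenMap _ isOpen_interior)
    rintro _ ⟨x, hx, rfl⟩
    exact fun h ↦ interior_subset hx h
  · have hc := (isLocallyConstructible_isSeparated f g).isConstructible.compl
    refine Set.Nonempty.mono ?_ ⟨_, genericPoint_mem_interior hc hsep⟩
    exact interior_mono fun s hs (h : IsProper _) ↦ hs (inferInstance : IsSeparated _)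

end Groth.SpectralTopology
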