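import Groth.Agent.SpectralTopology.StageModel
import Groth.Agent.SpectralTopology.AffineStageModel
import Mathlib.AlgebraicGeometry.Gluing
import Mathlib.AlgebraicGeometry.Limits

set_option autoImplicit false
set_option backward.isDefEq.respectTransparency false

/-!
EGA IV 8.8.2 (ii): gluing two models along an open that they share.
-/

open AlgebraicGeometry CategoryTheory CategoryTheory.Limits TopologicalSpace

namespace Groth.SpectralTopology

universe u

section Pushout

variable {U X Y : Scheme.{u}} (f : U ⟶ X) (g : U ⟶ Y) [IsOpenImmersion f] [IsOpenImmersion g]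

instance isOpenImmersion_pushout_inl : IsOpenImmersion (pushout.inl f g) :=
  inferInstanceAs (IsOpenImmersion (colimit.ι (span f g) WalkingSpan.left))

instance isOpenImmersion_pushout_inr : IsOpenImmersion (pushout.inr f g) :=
  inferInstanceAs (IsOpenImmersion (colimit.ι (span f g) WalkingSpan.right))

theorem pushout_exists_eq (z : ↥(pushout f g)) :
    (∃ x, pushout.inl f g x = z) ∨ ∃ y, pushout.inr f g y = z := by
  obtain ⟨i, x, hx⟩ := (Scheme.IsLocallyDirected.openCover (span f g)).exists_eq z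
  obtain _ | (_ | _) := i
  · left
    refine ⟨f x, Eq.trans ?_ hx⟩
    exact (Scheme.Hom.comp_apply f (pushout.inl f g) x).symm.trans
      (congrArg (fun t : U ⟶ pushout f g ↦ t x) (colimit.w (span f g) WalkingSpan.Hom.fst))
  · exact Or.inl ⟨x, hx⟩
  · exact Or.inr ⟨x, hx⟩

theorem pushout_inl_eq_inr_iff {x : X} {y : Y} :
    pushout.inl f g x = pushout.inr f g y ↔ ∃ w, f w = x ∧ g w = y := by
  refine ⟨fun h ↦ ?_, ?_⟩
  · obtain ⟨k, fi, fj, w, hx, hy⟩ := (Scheme.IsLocallyDirected.ι_eq_ι_iff (F := span f g)).1 h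
    obtain _ | (_ | _) := k
    · obtain _ | _ := fi
      obtain _ | _ := fj
      exact ⟨w, hx, hy⟩
    · obtain _ | _ := fj
    · obtain _ | _ := fi
  · rintro ⟨w, rfl, rfl⟩
    rw [← Scheme.Hom.comp_apply, ← Scheme.Hom.comp_apply, pushout.condition]

theorem compact_qs_pushout [CompactSpace U] [CompactSpace X] [CompactSpace Y]
    [QuasiSeparatedSpace X] [QuasiSeparatedSpace Y] :
    CompactSpace ↥(pushout f g) ∧ QuasiSeparatedSpace ↥(pushout f g) := by
  have hcov : Set.range (pushout.inl f g) ∪ Set.range (pushout.inr f g) = Set.univ :=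
    Set.eq_univ_of_forall fun z ↦ (pushout_exists_eq f g z).imp id id
  refine ⟨⟨hcov ▸ (isCompact_range (pushout.inl f g).continuous).union
    (isCompact_range (pushout.inr f g).continuous)⟩, ?_⟩
  let b : X.affineOpens ⊕ Y.affineOpens → Set ↥(pushout f g) := Sum.elim
    (fun V ↦ pushout.inl f g '' (V : Set X)) (fun V ↦ pushout.inr f g '' (V : Set Y))
  have hinter (V : Set X) (hV : IsOpen V) (hV' : IsCompact V) (W : Set Y) (hW : IsOpen W)
      (hW' : IsCompact W) :
      IsCompact (pushout.inl f g '' V ∩ pushout.inr f g '' W) := by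
    have h₁ : IsCompact (f ⁻¹' V) := QuasiCompact.isCompact_preimage (f := f) V hV hV'
    have h₂ : IsCompact (g ⁻¹' W) := QuasiCompact.isCompact_preimage (f := g) W hW hW'
    have hU : QuasiSeparatedSpace U := QuasiSeparatedSpace.of_isOpenEmbedding f.isOpenEmbedding
    have : pushout.inl f g '' V ∩ pushout.inr f g '' W =
        (f ≫ pushout.inl f g) '' (f ⁻¹' V ∩ g ⁻¹' W) := by
      ext z
      refine ⟨?_, ?_⟩
      · rintro ⟨⟨x, hx, rfl⟩, y, hy, hxy⟩
        obtain ⟨w, rfl, rfl⟩ := (pushout_inl_eq_inr_iff f g).1 hxy.symm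
        exact ⟨w, ⟨hx, hy⟩, Scheme.Hom.comp_apply _ _ _⟩
      · rintro ⟨w, ⟨hx, hy⟩, rfl⟩
        exact ⟨⟨f w, hx, (Scheme.Hom.comp_apply _ _ _).symm⟩, g w, hy,
          ((pushout_inl_eq_inr_iff f g).2 ⟨w, rfl, rfl⟩).symm.trans
            (Scheme.Hom.comp_apply _ _ _).symm⟩
    rw [this]
    exact (QuasiSeparatedSpace.inter_isCompact _ _ (hV.preimage f.continuous) h₁
      (hW.preimage g.continuous) h₂).image (f ≫ pushout.inl f g).continuous
  refine QuasiSeparatedSpace.of_isTopologicalBasis (b := b) ?_ ?_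
  · refine isTopologicalBasis_of_isOpen_of_nhds ?_ fun z O hzO hO ↦ ?_
    · rintro _ ⟨V | V, rfl⟩
      · exact (pushout.inl f g).isOpenEmbedding.isOpenMap _ V.1.2
      · exact (pushout.inr f g).isOpenEmbedding.isOpenMap _ V.1.2
    · refine (pushout_exists_eq f g z).elim ?_ ?_
      · rintro ⟨x, rfl⟩
        obtain ⟨_, ⟨V, hV, rfl⟩, hxV, hVO⟩ := X.isBasis_affineOpens.exists_subset_of_mem_open
          (show x ∈ pushout.inl f g ⁻¹' O from hzO) (hO.preimage (pushout.inl f g).continuous)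
        exact ⟨_, ⟨.inl ⟨V, hV⟩, rfl⟩, Set.mem_image_of_mem _ hxV, Set.image_subset_iff.2 hVO⟩
      · rintro ⟨x, rfl⟩
        obtain ⟨_, ⟨V, hV, rfl⟩, hxV, hVO⟩ := Y.isBasis_affineOpens.exists_subset_of_mem_open
          (show x ∈ pushout.inr f g ⁻¹' O from hzO) (hO.preimage (pushout.inr f g).continuous)
        exact ⟨_, ⟨.inr ⟨V, hV⟩, rfl⟩, Set.mem_image_of_mem _ hxV, Set.image_subset_iff.2 hVO⟩
  · rintro (V | V) (W | W)
    · show IsCompact (pushout.inl f g '' V ∩ pushout.inl f g '' W)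
      rw [← Set.image_inter (pushout.inl f g).isOpenEmbedding.injective]
      exact (QuasiSeparatedSpace.inter_isCompact _ _ V.1.2 V.2.isCompact W.1.2 W.2.isCompact).image
        (pushout.inl f g).continuous
    · exact hinter _ V.1.2 V.2.isCompact _ W.1.2 W.2.isCompact
    · show IsCompact (pushout.inr f g '' V ∩ pushout.inl f g '' W)
      rw [Set.inter_comm]
      exact hinter _ W.1.2 W.2.isCompact _ V.1.2 V.2.isCompact
    · show IsCompact (pushout.inr f g '' V ∩ pushout.inr f g '' W)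
      rw [← Set.image_inter (pushout.inr f g).isOpenEmbedding.injective]
      exact (QuasiSeparatedSpace.inter_isCompact _ _ V.1.2 V.2.isCompact W.1.2 W.2.isCompact).image
        (pushout.inr f g).continuous

end Pushout

variable {I : Type u} [Category.{u} I] [IsCofiltered I] {D : I ⥤ Scheme.{u}}
  [∀ (i j : I) (f : i ⟶ j), IsAffineHom (D.map f)] {c : Cone D}

namespace StageModel

variable {X : Scheme.{u}} {f : X ⟶ c.pt} {i : I}

omit [IsCofiltered I] [∀ (i j : I) (f : i ⟶ j), IsAffineHom (D.map f)] in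
theorem range_map_subset {S T : Scheme.{u}} (q : X ⟶ T) {A : Scheme.{u}} (a : A ⟶ T)
    [IsOpenImmersion a] (b : S ⟶ X) [IsOpenImmersion b]
    (h : q ⁻¹ᵁ a.opensRange = b.opensRange) : Set.range (b ≫ q) ⊆ Set.range a := by
  rintro _ ⟨s, rfl⟩
  have : b s ∈ q ⁻¹ᵁ a.opensRange := h ▸ ⟨s, rfl⟩
  exact this

/-- The restriction of a model to an open subscheme. -/
noncomputable abbrev restrict (M : StageModel f i) {T : Scheme.{u}} (a : T ⟶ M.obj)
    [IsOpenImmersion a] [QuasiCompact a] {S : Scheme.{u}} (b : S ⟶ X) [IsOpenImmersion b]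
    (h : M.map ⁻¹ᵁ a.opensRange = b.opensRange) : StageModel (b ≫ f) i where
  obj := T
  hom := a ≫ M.hom
  map := IsOpenImmersion.lift a (b ≫ M.map) (range_map_subset M.map a b h)
  sq := (IsOpenImmersion.isPullback _ b a M.map (IsOpenImmersion.lift_fac _ _ _).symm h).paste_vert
    M.sq

omit [IsCofiltered I] in
theorem preimage_proj_opensRange {j : I} (M : StageModel f i) (φ : j ⟶ i) (W : M.obj.Opens) :
    (M.pull φ).map ⁻¹ᵁ (M.proj φ ⁻¹ᵁ W) = M.map ⁻¹ᵁ W := by
  rw [← Scheme.Hom.comp_preimage, map_proj]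

variable [∀ i, CompactSpace (D.obj i)] [∀ i, QuasiSeparatedSpace (D.obj i)] (hc : IsLimit c)

include hc in
/-- A quasi-compact open of `X` comes from a quasi-compact open of a model at a later stage. -/
theorem exists_open (M : StageModel f i) (W : X.Opens) (hW : IsCompact (W : Set X)) :
    ∃ (j : I) (φ : j ⟶ i) (W' : (M.pull φ).obj.Opens),
      IsCompact (W' : Set (M.pull φ).obj) ∧ (M.pull φ).map ⁻¹ᵁ W' = W := by
  let e : X ≅ pullback (c.π.app i) M.hom := M.sq.flip.isoPullback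
  have hW₀ : IsCompact (e.inv ⁻¹ᵁ W : (pullback (c.π.app i) M.hom).Opens).1 :=
    QuasiCompact.isCompact_preimage (f := e.inv) _ W.isOpen hW
  obtain ⟨k, -, V, hV, hVW⟩ := Groth.Limits.exists_isCompact_preimage_eq
    (Groth.Limits.pullbackDiagram D i M.hom) (Groth.Limits.pullbackCone D i M.hom c)
    (Groth.Limits.isLimitPullbackCone D i M.hom hc) (Over.mk (𝟙 i)) (e.inv ⁻¹ᵁ W) hW₀
  refine ⟨k.left, k.hom, V, hV, ?_⟩
  have hV' : (Groth.Limits.pullbackCone D i M.hom c).π.app k ⁻¹ᵁ V = e.inv ⁻¹ᵁ W :=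
    TopologicalSpace.Opens.ext hVW
  rw [← isoPullback_π M k, Scheme.Hom.comp_preimage]
  refine (congrArg (e.hom ⁻¹ᵁ ·) hV').trans ?_
  rw [← Scheme.Hom.comp_preimage, e.hom_inv_id]
  rfl

end StageModel

section Glue

variable {X : Scheme.{u}} {f : X ⟶ c.pt} {i : I}

/-- The cover of `X` by two opens. -/
noncomputable def twoCover (U V : X.Opens) (hUV : U ⊔ V = ⊤) : X.OpenCover :=
  X.openCoverOfIsOpenCover (fun b : Bool ↦ bif b then U else V) (by
    rw [IsOpenCover, iSup_bool_eq]; exact hUV)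

variable [∀ i, CompactSpace (D.obj i)] [∀ i, QuasiSeparatedSpace (D.obj i)]

/-- Gluing two models along a common open. -/
theorem exists_glue {U V : X.Opens} (hUV : U ⊔ V = ⊤) (M : StageModel (U.ι ≫ f) i)
    (N : StageModel (V.ι ≫ f) i) {S T : Scheme.{u}} (a : T ⟶ M.obj) (b : T ⟶ N.obj)
    [IsOpenImmersion a] [IsOpenImmersion b] [CompactSpace T] (w : a ≫ M.hom = b ≫ N.hom)
    (sU : S ⟶ U.toScheme) (sV : S ⟶ V.toScheme) [IsOpenImmersion sU] [IsOpenImmersion sV]
    (t : S ⟶ T) (hs : sU ≫ U.ι = sV ≫ V.ι) (hU : sU ≫ M.map = t ≫ a) (hV : sV ≫ N.map = t ≫ b)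
    (hsU : sU.opensRange = U.ι ⁻¹ᵁ V) (hsV : sV.opensRange = V.ι ⁻¹ᵁ U)
    (haU : M.map ⁻¹ᵁ a.opensRange = sU.opensRange) (hbV : N.map ⁻¹ᵁ b.opensRange = sV.opensRange) :
    Nonempty (StageModel f i) := by
  let fz : pushout a b ⟶ D.obj i := pushout.desc M.hom N.hom w
  have hfl : pushout.inl a b ≫ fz = M.hom := pushout.inl_desc _ _ _
  have hfr : pushout.inr a b ≫ fz = N.hom := pushout.inr_desc _ _ _
  -- the map from `X`
  let 𝒳 := twoCover U V hUV
  let m : ∀ x, 𝒳.X x ⟶ pushout a b := fun x ↦ match x with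
    | true => M.map ≫ pushout.inl a b
    | false => N.map ≫ pushout.inr a b
  have key {T' : Scheme.{u}} (p₁ : T' ⟶ U.toScheme) (p₂ : T' ⟶ V.toScheme)
      (hp : p₁ ≫ U.ι = p₂ ≫ V.ι) :
      p₁ ≫ M.map ≫ pushout.inl a b = p₂ ≫ N.map ≫ pushout.inr a b := by
    have hr : Set.range p₁ ⊆ Set.range sU := by
      rintro _ ⟨z, rfl⟩
      have : p₁ z ∈ U.ι ⁻¹ᵁ V := by
        show U.ι (p₁ z) ∈ V
        rw [← Scheme.Hom.comp_apply, hp, Scheme.Hom.comp_apply]
        exact (p₂ z).2
      rw [← hsU] at this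
      exact this
    have hl₁ := IsOpenImmersion.lift_fac sU p₁ hr
    have hl₂ : IsOpenImmersion.lift sU p₁ hr ≫ sV = p₂ := by
      rw [← cancel_mono V.ι, Category.assoc, ← hs, reassoc_of% hl₁, hp]
    conv_lhs => rw [← hl₁, Category.assoc, reassoc_of% hU, pushout.condition]
    conv_rhs => rw [← hl₂, Category.assoc, reassoc_of% hV]
  let q : X ⟶ pushout a b := Scheme.Cover.glueMorphisms 𝒳 m (fun x y ↦ by
    obtain rfl | rfl := x.eq_false_or_eq_true <;> obtain rfl | rfl := y.eq_false_or_eq_true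
    · have : pullback.fst (𝒳.f true) (𝒳.f true) = pullback.snd (𝒳.f true) (𝒳.f true) := by
        rw [← cancel_mono U.ι]; exact pullback.condition
      rw [this]
    · exact key _ _ pullback.condition
    · exact (key _ _ pullback.condition.symm).symm
    · have : pullback.fst (𝒳.f false) (𝒳.f false) = pullback.snd (𝒳.f false) (𝒳.f false) := by
        rw [← cancel_mono V.ι]; exact pullback.condition
      rw [this])
  have hqU : U.ι ≫ q = M.map ≫ pushout.inl a b := Scheme.Cover.ι_glueMorphisms 𝒳 m _ true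
  have hqV : V.ι ≫ q = N.map ≫ pushout.inr a b := Scheme.Cover.ι_glueMorphisms 𝒳 m _ false
  have hmem (x : X) : x ∈ U ∨ x ∈ V := by
    have := (hUV.symm ▸ trivial : x ∈ U ⊔ V)
    exact this
  have hrangeU : q ⁻¹ᵁ (pushout.inl a b).opensRange = U := by
    ext x
    refine ⟨fun h ↦ ?_, fun hx ↦ ⟨M.map ⟨x, hx⟩, ?_⟩⟩
    · refine (hmem x).elim id fun hx ↦ ?_
      obtain ⟨y, hy⟩ := h
      replace hy : pushout.inl a b y = pushout.inr a b (N.map ⟨x, hx⟩) :=
        hy.trans (congrArg (fun p : V.toScheme ⟶ pushout a b ↦ p ⟨x, hx⟩) hqV)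
      obtain ⟨w', -, hw'⟩ := (pushout_inl_eq_inr_iff a b).1 hy
      have : (⟨x, hx⟩ : V.toScheme) ∈ N.map ⁻¹ᵁ b.opensRange := ⟨w', hw'⟩
      rw [hbV, hsV] at this
      exact this
    · exact congrArg (fun p : U.toScheme ⟶ pushout a b ↦ p ⟨x, hx⟩) hqU.symm
  have hrangeV : q ⁻¹ᵁ (pushout.inr a b).opensRange = V := by
    ext x
    refine ⟨fun h ↦ ?_, fun hx ↦ ⟨N.map ⟨x, hx⟩, ?_⟩⟩
    · refine (hmem x).elim (fun hx ↦ ?_) id
      obtain ⟨y, hy⟩ := h
      replace hy : pushout.inr a b y = pushout.inl a b (M.map ⟨x, hx⟩) :=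
        hy.trans (congrArg (fun p : U.toScheme ⟶ pushout a b ↦ p ⟨x, hx⟩) hqU)
      obtain ⟨w', hw', -⟩ := (pushout_inl_eq_inr_iff a b).1 hy.symm
      have : (⟨x, hx⟩ : U.toScheme) ∈ M.map ⁻¹ᵁ a.opensRange := ⟨w', hw'⟩
      rw [haU, hsU] at this
      exact this
    · exact congrArg (fun p : V.toScheme ⟶ pushout a b ↦ p ⟨x, hx⟩) hqV.symm
  have hq : q ≫ fz = f ≫ c.π.app i := by
    refine Scheme.Cover.hom_ext 𝒳 _ _ fun x ↦ ?_
    obtain rfl | rfl := x.eq_false_or_eq_true
    · change U.ι ≫ q ≫ fz = U.ι ≫ f ≫ c.π.app i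
      rw [reassoc_of% hqU, hfl, M.sq.w, Category.assoc]
    · change V.ι ≫ q ≫ fz = V.ι ≫ f ≫ c.π.app i
      rw [reassoc_of% hqV, hfr, N.sq.w, Category.assoc]
  -- `X` is the base change
  let l : X ⟶ pullback (c.π.app i) fz := pullback.lift f q hq.symm
  have r₁ : IsPullback M.map (U.ι ≫ l) (pushout.inl a b) (pullback.snd _ _) := by
    refine IsPullback.of_bot ?_ ?_ (IsPullback.of_hasPullback (c.π.app i) fz).flip
    · rw [hfl, Category.assoc, pullback.lift_fst]; exact M.sq
    · rw [Category.assoc, pullback.lift_snd, hqU]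
  have r₂ : IsPullback N.map (V.ι ≫ l) (pushout.inr a b) (pullback.snd _ _) := by
    refine IsPullback.of_bot ?_ ?_ (IsPullback.of_hasPullback (c.π.app i) fz).flip
    · rw [hfr, Category.assoc, pullback.lift_fst]; exact N.sq
    · rw [Category.assoc, pullback.lift_snd, hqV]
  have o₁ : IsOpenImmersion (U.ι ≫ l) := MorphismProperty.of_isPullback r₁ inferInstance
  have o₂ : IsOpenImmersion (V.ι ≫ l) := MorphismProperty.of_isPullback r₂ inferInstance
  have hlq : l ≫ pullback.snd _ _ = q := pullback.lift_snd _ _ _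
  have hl₁ : l ⁻¹ᵁ (U.ι ≫ l).opensRange = U.ι.opensRange := by
    ext x
    refine ⟨fun h ↦ ?_, fun h ↦ ?_⟩
    · obtain ⟨u, hu⟩ := h
      have hxU : x ∈ q ⁻¹ᵁ (pushout.inl a b).opensRange := by
        refine ⟨M.map u, ?_⟩
        rw [← hlq, Scheme.Hom.comp_apply, ← hu, ← Scheme.Hom.comp_apply,
          ← Scheme.Hom.comp_apply, r₁.w]
      rw [hrangeU] at hxU
      exact ⟨⟨x, hxU⟩, rfl⟩
    · obtain ⟨u, rfl⟩ := h
      exact ⟨u, Scheme.Hom.comp_apply _ _ _⟩
  have hl₂ : l ⁻¹ᵁ (V.ι ≫ l).opensRange = V.ι.opensRange := by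
    ext x
    refine ⟨fun h ↦ ?_, fun h ↦ ?_⟩
    · obtain ⟨u, hu⟩ := h
      have hxV : x ∈ q ⁻¹ᵁ (pushout.inr a b).opensRange := by
        refine ⟨N.map u, ?_⟩
        rw [← hlq, Scheme.Hom.comp_apply, ← hu, ← Scheme.Hom.comp_apply,
          ← Scheme.Hom.comp_apply, r₂.w]
      rw [hrangeV] at hxV
      exact ⟨⟨x, hxV⟩, rfl⟩
    · obtain ⟨u, rfl⟩ := h
      exact ⟨u, Scheme.Hom.comp_apply _ _ _⟩
  let covP : (pullback (c.π.app i) fz).OpenCover :=
    { I₀ := Bool
      X := fun x ↦ bif x then U.toScheme else V.toScheme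
      f := fun x ↦ match x with
        | true => U.ι ≫ l
        | false => V.ι ≫ l
      mem₀ := by
        rw [Scheme.presieve₀_mem_precoverage_iff]
        refine ⟨fun z ↦ ?_, fun x ↦ ?_⟩
        · refine (pushout_exists_eq a b (pullback.snd (c.π.app i) fz z)).elim (fun h ↦ ?_) fun h ↦ ?_
          · obtain ⟨y, hy⟩ := h
            obtain ⟨u, -, hu⟩ := Scheme.exists_preimage_of_isPullback r₁ y z hy
            exact ⟨true, u, hu⟩
          · obtain ⟨y, hy⟩ := h
            obtain ⟨u, -, hu⟩ := Scheme.exists_preimage_of_isPullback r₂ y z hy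
            exact ⟨false, u, hu⟩
        · cases x
          · exact o₂
          · exact o₁ }
  have hl : IsIso l := by
    refine IsZariskiLocalAtTarget.of_openCover (P := MorphismProperty.isomorphisms Scheme) covP
      fun x ↦ ?_
    obtain rfl | rfl := x.eq_false_or_eq_true
    · have sq : IsPullback U.ι (𝟙 _) l (U.ι ≫ l) :=
        (IsOpenImmersion.isPullback (𝟙 _) U.ι (U.ι ≫ l) l (Category.id_comp _).symm hl₁).flip
      change IsIso (pullback.snd l (U.ι ≫ l))
      rw [← sq.isoPullback_inv_snd]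
      infer_instance
    · have sq : IsPullback V.ι (𝟙 _) l (V.ι ≫ l) :=
        (IsOpenImmersion.isPullback (𝟙 _) V.ι (V.ι ≫ l) l (Category.id_comp _).symm hl₂).flip
      change IsIso (pullback.snd l (V.ι ≫ l))
      rw [← sq.isoPullback_inv_snd]
      infer_instance
  have sq : IsPullback q f fz (c.π.app i) :=
    IsPullback.of_iso (IsPullback.of_hasPullback (c.π.app i) fz).flip (asIso l).symm (Iso.refl _)
      (Iso.refl _) (Iso.refl _) (by simp [← hlq]) (by simp [l]) (by simp) (by simp)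
  -- the glued model is of finite presentation
  let 𝒵 := Scheme.IsLocallyDirected.openCover (span a b)
  have : LocallyOfFinitePresentation fz := by
    refine IsZariskiLocalAtSource.of_openCover (P := @LocallyOfFinitePresentation) 𝒵 fun x ↦ ?_
    obtain _ | (_ | _) := x
    · change LocallyOfFinitePresentation (colimit.ι (span a b) WalkingSpan.zero ≫ fz)
      rw [← colimit.w (span a b) WalkingSpan.Hom.fst, Category.assoc]
      change LocallyOfFinitePresentation (a ≫ pushout.inl a b ≫ fz)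
      rw [hfl]; infer_instance
    · change LocallyOfFinitePresentation (pushout.inl a b ≫ fz)
      rw [hfl]; infer_instance
    · change LocallyOfFinitePresentation (pushout.inr a b ≫ fz)
      rw [hfr]; infer_instance
  have hMc : CompactSpace M.obj := QuasiCompact.compactSpace_of_compactSpace M.hom
  have hNc : CompactSpace N.obj := QuasiCompact.compactSpace_of_compactSpace N.hom
  have hMq : QuasiSeparatedSpace M.obj := quasiSeparatedSpace_of_quasiSeparated M.hom
  have hNq : QuasiSeparatedSpace N.obj := quasiSeparatedSpace_of_quasiSeparated N.hom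
  have hZ := compact_qs_pushout a b
  have : QuasiCompact fz := @quasiCompact_of_compactSpace _ _ fz hZ.1 _
  have : QuasiSeparated fz := @quasiSeparated_of_quasiSeparatedSpace _ _ fz hZ.2
  exact ⟨StageModel.mk (pushout a b) fz q sq⟩

end Glue

end Groth.SpectralTopology
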